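import Mathlib
import Cfsg.Agent.Lib.AltPres.Carmichael

/-!
Finite facts about the alternating group of degree six: three-cycle generators, the exceptional
automorphism and conjugation by permutations.
-/

set_option autoImplicit false
set_option maxRecDepth 20000

open Equiv

namespace CfsgLib.AltNineThree

attribute [local instance 2000] List.decidableBAll List.decidableBEx

/-- The alternating group of degree six. -/
abbrev A6 : Type := alternatingGroup (Fin 6)

/-- An even permutation given by its values and those of its inverse. -/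
def mk6 (f g : Fin 6 → Fin 6) (h1 : ∀ x, g (f x) = x) (h2 : ∀ x, f (g x) = x)
    (h3 : Perm.sign (⟨f, g, h1, h2⟩ : Perm (Fin 6)) = 1) : A6 :=
  ⟨⟨f, g, h1, h2⟩, Perm.mem_alternatingGroup.mpr h3⟩

namespace A6

/-- `(012)`. -/
def a6 : A6 := mk6 ![1, 2, 0, 3, 4, 5] ![2, 0, 1, 3, 4, 5] (by decide) (by decide) (by decide)
/-- `(345)`. -/
def b6 : A6 := mk6 ![0, 1, 2, 4, 5, 3] ![0, 1, 2, 5, 3, 4] (by decide) (by decide) (by decide)
/-- `(03)(1425)`. -/
def f6 : A6 := mk6 ![3, 4, 5, 0, 2, 1] ![3, 5, 4, 0, 1, 2] (by decide) (by decide) (by decide)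
/-- `(013)`. -/
def w6 : A6 := mk6 ![1, 3, 2, 0, 4, 5] ![3, 0, 2, 1, 4, 5] (by decide) (by decide) (by decide)
/-- `(014)`. -/
def w4 : A6 := mk6 ![1, 4, 2, 3, 0, 5] ![4, 0, 2, 3, 1, 5] (by decide) (by decide) (by decide)
/-- `(015)`. -/
def w5 : A6 := mk6 ![1, 5, 2, 3, 4, 0] ![5, 0, 2, 3, 4, 1] (by decide) (by decide) (by decide)

/-- The three-cycles `(01k)`. -/
def xg : Fin 4 → A6 := ![a6, w6, w4, w5]

/-- Their images under an exceptional automorphism. -/
def xe : Fin 4 → A6 :=
  ![mk6 ![1, 2, 0, 4, 5, 3] ![2, 0, 1, 5, 3, 4] (by decide) (by decide) (by decide),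
    mk6 ![2, 3, 4, 5, 0, 1] ![4, 5, 0, 1, 2, 3] (by decide) (by decide) (by decide),
    mk6 ![3, 0, 5, 1, 2, 4] ![1, 3, 4, 0, 5, 2] (by decide) (by decide) (by decide),
    mk6 ![4, 5, 1, 0, 3, 2] ![3, 2, 5, 4, 0, 1] (by decide) (by decide) (by decide)]

theorem xg_rel : (∀ i, xg i * xg i * xg i = 1) ∧ ∀ i j, i ≠ j → xg i * xg j * (xg i * xg j) = 1 := by
  refine ⟨?_, ?_⟩ <;> decide +kernel

theorem xe_rel : (∀ i, xe i * xe i * xe i = 1) ∧ ∀ i j, i ≠ j → xe i * xe j * (xe i * xe j) = 1 := by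
  refine ⟨?_, ?_⟩ <;> decide +kernel

theorem card_A6 : Nat.card A6 = 360 := by
  have h := two_mul_nat_card_alternatingGroup (α := Fin 6)
  rw [Nat.card_perm, Nat.card_fin] at h
  rw [show Nat.factorial 6 = 720 from rfl] at h
  exact (show Nat.card (alternatingGroup (Fin 6)) = 360 by omega)


/-- The code of a map of six points, three bits a point. -/
def cdF (f : Fin 6 → Fin 6) : ℕ :=
  (f 0 : ℕ) + 8 * (f 1 : ℕ) + 64 * (f 2 : ℕ) + 512 * (f 3 : ℕ) + 4096 * (f 4 : ℕ) + 32768 * (f 5 : ℕ)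

/-- The code of an element. -/
def cd (x : A6) : ℕ := cdF (x : Perm (Fin 6))

/-- An entry of a code. -/
def ent6 (n i : ℕ) : ℕ := n / 8 ^ i % 8

/-- Composition of codes. -/
def mulN (a b : ℕ) : ℕ :=
  ent6 a (ent6 b 0) + 8 * ent6 a (ent6 b 1) + 64 * ent6 a (ent6 b 2) + 512 * ent6 a (ent6 b 3) +
    4096 * ent6 a (ent6 b 4) + 32768 * ent6 a (ent6 b 5)

/-- Inversion of codes. -/
def invN (a : ℕ) : ℕ :=
  0 * 8 ^ ent6 a 0 + 1 * 8 ^ ent6 a 1 + 2 * 8 ^ ent6 a 2 + 3 * 8 ^ ent6 a 3 + 4 * 8 ^ ent6 a 4 +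
    5 * 8 ^ ent6 a 5

theorem ent6_cdF (f : Fin 6 → Fin 6) (i : Fin 6) : ent6 (cdF f) i = (f i : ℕ) := by
  have h0 := (f 0).isLt; have h1 := (f 1).isLt; have h2 := (f 2).isLt
  have h3 := (f 3).isLt; have h4 := (f 4).isLt; have h5 := (f 5).isLt
  unfold ent6 cdF
  fin_cases i <;> simp only [Fin.mk_zero, Fin.mk_one, Nat.reducePow, Fin.val_zero, Fin.val_one] <;>
    first | omega | (simp <;> omega)

theorem cdF_inj {f g : Fin 6 → Fin 6} (h : cdF f = cdF g) : f = g :=
  funext fun i => Fin.ext (by rw [← ent6_cdF f i, h, ent6_cdF])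

theorem cd_mul (x y : A6) : cd (x * y) = mulN (cd x) (cd y) := by
  have e : ∀ i : Fin 6, ent6 (cd x) (ent6 (cd y) i) = (((x * y : A6) : Perm (Fin 6)) i : ℕ) := fun i => by
    simp only [cd]
    rw [ent6_cdF, ent6_cdF]
    rfl
  show cdF _ = _
  unfold mulN cdF
  rw [← e 0, ← e 1, ← e 2, ← e 3, ← e 4, ← e 5]
  rfl

theorem cd_inv (x : A6) : cd x⁻¹ = invN (cd x) := by
  have e : ∀ i : Fin 6, ent6 (cd x) i = ((x : Perm (Fin 6)) i : ℕ) := fun i => ent6_cdF _ i
  have h := Equiv.sum_comp (x : Perm (Fin 6))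
    (fun j : Fin 6 => (((x⁻¹ : A6) : Perm (Fin 6)) j : ℕ) * 8 ^ (j : ℕ))
  simp only [Fin.sum_univ_six, InvMemClass.coe_inv, Perm.inv_def, Equiv.symm_apply_apply] at h
  show cdF _ = _
  unfold invN cdF
  rw [show ent6 (cd x) 0 = _ from e 0, show ent6 (cd x) 1 = _ from e 1, show ent6 (cd x) 2 = _ from e 2,
    show ent6 (cd x) 3 = _ from e 3, show ent6 (cd x) 4 = _ from e 4, show ent6 (cd x) 5 = _ from e 5]
  simp only [InvMemClass.coe_inv, Perm.inv_def, Fin.val_zero, Fin.val_one, Nat.reducePow] at h ⊢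
  simp at h ⊢
  omega

theorem cd_inj : Function.Injective cd := fun _ _ h =>
  Subtype.ext (Equiv.ext (congrFun (cdF_inj h)))

theorem cd_eq {x y : A6} : cd x = cd y ↔ x = y := cd_inj.eq_iff

/-- The codes of the 360 elements. -/
def tab6 : List ℕ := [5356,5405,5475,5797,5930,5972,6315,6357,6490,6812,6882,6931,8933,9003,9052,9836,9997,10081,10333,10473,10571,10851,10956,11033,12972,13077,13154,13413,13609,13644,14442,14477,14673,14932,15009,15114,17053,17130,17235,17515,17613,17753,18005,18089,18250,19034,19083,19153,21155,21204,21274,21596,21729,21771,22114,22156,22289,22611,22681,22730,34021,34091,34140,34476,34581,34658,34973,35050,35155,35491,35540,35610,41196,41245,41315,42533,42792,42820,43051,43205,43352,43548,43744,43779,45221,45354,45396,46124,46341,46432,47125,47272,47426,47650,47748,47888,49323,49365,49498,50205,50408,50499,50730,50821,51024,51731,51864,51906,53404,53474,53523,54307,54468,54552,54804,54944,55042,55322,55427,55504,66284,66333,66403,67173,67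369,67404,67691,67789,67929,68188,68321,68363,69861,69931,69980,71212,71429,71520,71709,71912,72003,72227,72388,72472,77932,78093,78177,78373,78632,78660,79913,79941,80200,80396,80480,80641,82013,82153,82251,82475,82629,82776,83469,83560,83777,84505,84547,84680,86115,86220,86297,86556,86752,86787,87585,87620,87816,88075,88152,88257,98981,99114,99156,99436,99597,99681,100437,100521,100682,100962,101004,101137,102572,102677,102754,103461,103720,103748,104490,104581,104784,104980,105120,105218,106597,106793,106828,107052,107269,107360,108557,108648,108865,109089,109124,109320,114794,114829,115025,115221,115368,115522,115753,115781,116040,117258,117328,117377,118868,118945,119050,119330,119428,119568,119820,119904,120065,120849,120898,120968,131755,131797,131930,132189,132329,132427,132714,132749,132945,133715,133785,133834,135325,135402,135507,136235,136389,136536,136725,136872,137026,137754,137859,137936,139371,139469,139609,139805,140008,140099,140841,140869,141128,1418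35,141912,142017,143445,143529,143690,143914,144005,144208,144397,144488,144705,145937,145986,146056,151642,151691,151761,152083,152216,152258,152601,152643,152776,153098,153168,153217,164508,164578,164627,164963,165068,165145,165460,165537,165642,165978,166027,166097,168099,168148,168218,168988,169184,169219,169506,169604,169744,170003,170136,170178,172124,172257,172299,172579,172740,172824,173580,173664,173825,174105,174147,174280,176226,176268,176401,176660,176800,176898,177185,177220,177416,178186,178256,178305,180307,180377,180426,180762,180867,180944,181259,181336,181441,181777,181826,181896]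

theorem cd_mem : ∀ x : A6, tab6.contains (cd x) = true := by decide +kernel

theorem all6 {Q : ℕ → Prop} (h : ∀ n ∈ tab6, Q n) (x : A6) : Q (cd x) :=
  h _ (List.contains_iff_mem.mp (cd_mem x))

instance : IsSimpleGroup A6 := alternatingGroup.isSimpleGroup (by simp)

theorem three_words : ∀ p q r : Fin 6, p ≠ q → q ≠ r → p ≠ r →
    ∃ i j k : Option (Fin 4), ∃ s : Bool,
      (let t : Option (Fin 4) → A6 := fun o => o.elim 1 xg
       let w := t i * t j * t k * (t i * t j)⁻¹
       ∀ x : Fin 6, (if s then (w : Perm (Fin 6)) x else ((w⁻¹ : A6) : Perm (Fin 6)) x) =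
        (swap p q * swap q r) x) := by decide +kernel

theorem three_cycle_form {σ : Perm (Fin 6)} (h : σ.IsThreeCycle) :
    ∃ p q r : Fin 6, p ≠ q ∧ q ≠ r ∧ p ≠ r ∧ σ = swap p q * swap q r := by
  classical
  obtain ⟨p, hp⟩ : ∃ p, σ p ≠ p := by
    by_contra hn
    push Not at hn
    exact h.isCycle.ne_one (Perm.ext fun p => by simp [hn p])
  have h3 : ∀ x, σ (σ (σ x)) = x := fun x => by
    have := congrArg (fun π : Perm (Fin 6) => π x) (h.orderOf ▸ pow_orderOf_eq_one σ)
    simpa [pow_succ] using this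
  have hqr : σ p ≠ σ (σ p) := fun e => hp (σ.injective e.symm)
  have hpr : p ≠ σ (σ p) := fun e => hp (by
    have := congrArg σ e
    rw [h3] at this
    exact this)
  have hsupp : ({p, σ p, σ (σ p)} : Finset (Fin 6)) = σ.support := by
    refine Finset.eq_of_subset_of_card_le ?_ ?_
    · intro x hx
      simp only [Finset.mem_insert, Finset.mem_singleton] at hx
      rw [Perm.mem_support]
      rcases hx with rfl | rfl | rfl
      · exact hp
      · exact fun e => hp (σ.injective e)
      · exact fun e => hp (σ.injective (σ.injective e))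
    · rw [Finset.card_insert_of_notMem (by simp [Ne.symm hp, hpr]),
        Finset.card_pair hqr, h.card_support]
  refine ⟨p, σ p, σ (σ p), Ne.symm hp, hqr, hpr, Perm.ext fun x => ?_⟩
  by_cases hx : x ∈ σ.support
  · rw [← hsupp] at hx
    simp only [Finset.mem_insert, Finset.mem_singleton] at hx
    rcases hx with rfl | rfl | rfl <;>
      simp [Perm.mul_apply, swap_apply_def, h3, hp, Ne.symm hp, hqr, hqr.symm, hpr, hpr.symm]
  · rw [← hsupp] at hx
    simp only [Finset.mem_insert, Finset.mem_singleton, not_or] at hx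
    have : σ x = x := by
      by_contra e
      have := Perm.mem_support.mpr e
      rw [← hsupp] at this
      simp [hx.1, hx.2.1, hx.2.2] at this
    rw [this, Perm.mul_apply, swap_apply_of_ne_of_ne hx.2.1 hx.2.2, swap_apply_of_ne_of_ne hx.1 hx.2.1]

/-- The three-cycles `(01k)` generate. -/
theorem closure_xg : Subgroup.closure (Set.range xg) = ⊤ := by
  set K := Subgroup.closure (Set.range xg)
  have ht : ∀ o : Option (Fin 4), (o.elim 1 xg : A6) ∈ K := by
    rintro (_ | i)
    · exact one_mem _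
    · exact Subgroup.subset_closure ⟨i, rfl⟩
  rw [eq_top_iff]
  intro x _
  have hx : (x : Perm (Fin 6)) ∈ Subgroup.closure {σ : Perm (Fin 6) | σ.IsThreeCycle} := by
    rw [Perm.closure_three_cycles_eq_alternating]; exact x.2
  have hmap : (x : Perm (Fin 6)) ∈ K.map (alternatingGroup (Fin 6)).subtype := by
    refine (Subgroup.closure_le _).mpr ?_ hx
    intro σ hσ
    obtain ⟨p, q, r, hpq, hqr, hpr, rfl⟩ := three_cycle_form hσ
    obtain ⟨i, j, k, s, e⟩ := three_words p q r hpq hqr hpr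
    have hw := mul_mem (mul_mem (mul_mem (ht i) (ht j)) (ht k)) (inv_mem (mul_mem (ht i) (ht j)))
    cases s
    · exact ⟨_, inv_mem hw, Perm.ext fun x => by simpa using e x⟩
    · exact ⟨_, hw, Perm.ext fun x => by simpa using e x⟩
  obtain ⟨y, hy, e⟩ := hmap
  rw [← Subtype.ext e]
  exact hy

/-- A homomorphism out of `A6` from Carmichael relations. -/
theorem exists_hom {T : Type*} [Group T] (y : Fin 4 → T) (h3 : ∀ i, y i * y i * y i = 1)
    (h2 : ∀ i j, i ≠ j → y i * y j * (y i * y j) = 1) :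
    ∃ f : A6 →* T, ∀ i, f (xg i) = y i := by
  set K := Subgroup.closure ((fun i => (xg i, y i)) '' ((Finset.univ : Finset (Fin 4)) : Set (Fin 4)))
    with hK
  obtain ⟨hfin, hcard⟩ := CfsgLib.AltPres.carmichael_card (y := fun i => (xg i, y i))
    (fun i => Prod.ext (xg_rel.1 i) (h3 i))
    (fun i j h => Prod.ext (xg_rel.2 i j h) (h2 i j h)) Finset.univ
  haveI : Finite K := hfin
  set π1 : K →* A6 := (MonoidHom.fst _ T).comp K.subtype with hπ1
  have hsurj : Function.Surjective π1 := by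
    intro x
    have hx : x ∈ K.map (MonoidHom.fst _ T) := by
      rw [hK, MonoidHom.map_closure, ← Set.image_comp, Finset.coe_univ, Set.image_univ]
      show x ∈ Subgroup.closure (Set.range xg)
      rw [closure_xg]; exact Subgroup.mem_top x
    obtain ⟨k, hk, e⟩ := hx
    exact ⟨⟨k, hk⟩, e⟩
  have hbij : Function.Bijective π1 := by
    rw [Nat.bijective_iff_surjective_and_card]
    refine ⟨hsurj, le_antisymm ?_ (Nat.card_le_card_of_surjective _ hsurj)⟩
    change 2 * Nat.card K ≤ 720 at hcard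
    rw [card_A6]
    omega
  refine ⟨((MonoidHom.snd _ T).comp K.subtype).comp (MulEquiv.ofBijective π1 hbij).symm.toMonoidHom,
    fun i => ?_⟩
  have hk : (xg i, y i) ∈ K := Subgroup.subset_closure ⟨i, by simp, rfl⟩
  have e : (MulEquiv.ofBijective π1 hbij).symm (xg i) = ⟨_, hk⟩ := by
    rw [MulEquiv.symm_apply_eq]; rfl
  simp [e]

theorem eq_of_xg {T : Type*} [Group T] {f g : A6 →* T} (h : ∀ i, f (xg i) = g (xg i)) : f = g := by
  refine MonoidHom.eq_of_eqOn_dense closure_xg ?_
  rintro _ ⟨i, rfl⟩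
  exact h i

theorem xg_words : w4 = b6 * w6 * b6⁻¹ ∧ w5 = b6⁻¹ * w6 * b6 := by decide +kernel

theorem eq_of_abw {T : Type*} [Group T] {f g : A6 →* T} (ha : f a6 = g a6) (hb : f b6 = g b6)
    (hw : f w6 = g w6) : f = g := by
  refine eq_of_xg fun i => ?_
  fin_cases i
  · exact ha
  · exact hw
  · show f w4 = g w4
    rw [xg_words.1]; simp only [map_mul, map_inv, ha, hb, hw]
  · show f w5 = g w5
    rw [xg_words.2]; simp only [map_mul, map_inv, ha, hb, hw]

/-- Conjugation by an arbitrary permutation. -/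
def conj6 (h : Perm (Fin 6)) : A6 →* A6 where
  toFun x := ⟨h * (x : Perm (Fin 6)) * h⁻¹, (inferInstance : (alternatingGroup (Fin 6)).Normal).conj_mem _ x.2 h⟩
  map_one' := Subtype.ext (by simp)
  map_mul' x y := Subtype.ext (by simp [mul_assoc])

theorem conj6_apply (h : Perm (Fin 6)) (x : A6) :
    ((conj6 h x : A6) : Perm (Fin 6)) = h * (x : Perm (Fin 6)) * h⁻¹ := rfl

theorem conj6_inv (h : Perm (Fin 6)) (x : A6) : conj6 h (conj6 h⁻¹ x) = x :=
  Subtype.ext (by simp [conj6_apply, mul_assoc])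

theorem conj6_bijective (h : Perm (Fin 6)) : Function.Bijective (conj6 h) :=
  ⟨fun x y e => Subtype.ext (by
    have := congrArg (fun z : A6 => (z : Perm (Fin 6))) e
    simp only [conj6_apply] at this
    exact mul_left_cancel (mul_right_cancel this)),
  fun x => ⟨conj6 h⁻¹ x, conj6_inv h x⟩⟩

theorem three_facts :
    (∀ x : A6, x * x * x = 1 → x ≠ 1 →
      (∃ g : A6, g * a6 * g⁻¹ = x) ∨
        ∃ g : A6, g * (xg 0 * xg 1 * xg 2 * xg 3) * g⁻¹ = x) := by
  intro x h3 h1
  have t : ∀ n ∈ tab6, mulN (mulN n n) n = cd 1 → n ≠ cd 1 →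
      (∃ g ∈ tab6, mulN g (cd a6) = mulN n g) ∨
        ∃ g ∈ tab6, mulN g (cd (xg 0 * xg 1 * xg 2 * xg 3)) = mulN n g := by decide +kernel
  have hsur : ∀ n ∈ tab6, ∃ g : A6, cd g = n := by
    have hnd : tab6.Nodup ∧ tab6.length = 360 := by decide +kernel
    intro n hn
    classical
    have hsub : Finset.univ.image cd ⊆ tab6.toFinset := fun m hm => by
      obtain ⟨g, -, rfl⟩ := Finset.mem_image.mp hm
      exact List.mem_toFinset.mpr (List.contains_iff_mem.mp (cd_mem g))
    have heq := Finset.eq_of_subset_of_card_le hsub (by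
      rw [List.toFinset_card_of_nodup hnd.1, hnd.2, Finset.card_image_of_injective _ cd_inj,
        Finset.card_univ, ← Nat.card_eq_fintype_card, card_A6])
    have hm : n ∈ Finset.univ.image cd := heq ▸ List.mem_toFinset.mpr hn
    obtain ⟨g, -, rfl⟩ := Finset.mem_image.mp hm
    exact ⟨g, rfl⟩
  rcases all6 t x (by rw [← cd_mul, ← cd_mul, h3]) (fun e => h1 (cd_inj e)) with ⟨n, hn, e⟩ | ⟨n, hn, e⟩
  all_goals obtain ⟨g, rfl⟩ := hsur n hn
  all_goals rw [← cd_mul, ← cd_mul, cd_eq] at e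
  · exact Or.inl ⟨g, by rw [e, mul_inv_cancel_right]⟩
  · exact Or.inr ⟨g, by rw [e, mul_inv_cancel_right]⟩

theorem exc_facts : ∀ g : A6, g * (xg 0 * xg 1 * xg 2 * xg 3) * g⁻¹ ≠ a6 ∧
    g * (xe 0 * xe 1 * xe 2 * xe 3) * g⁻¹ ≠ xg 0 * xg 1 * xg 2 * xg 3 := by
  intro g
  have t : ∀ n ∈ tab6, mulN n (cd (xg 0 * xg 1 * xg 2 * xg 3)) ≠ mulN (cd a6) n ∧
      mulN n (cd (xe 0 * xe 1 * xe 2 * xe 3)) ≠ mulN (cd (xg 0 * xg 1 * xg 2 * xg 3)) n := by decide +kernel
  have h := all6 t g
  simp only [← cd_mul, ne_eq, cd_eq] at h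
  exact ⟨fun e => h.1 (mul_inv_eq_iff_eq_mul.mp e), fun e => h.2 (mul_inv_eq_iff_eq_mul.mp e)⟩

theorem frame : ∀ g : A6, g * g * (g * g) = 1 →
    g * a6 * g⁻¹ * a6 = a6 * (g * a6 * g⁻¹) →
    g * (g * a6 * g⁻¹) * g⁻¹ = a6⁻¹ →
    ∃ h : Perm (Fin 6), h * (a6 : Perm (Fin 6)) * h⁻¹ = a6 ∧ h * (f6 : Perm (Fin 6)) * h⁻¹ = g := by
  decide +kernel

theorem w_unique : ∀ x : A6, x * x * x = 1 → x * a6 * (x * a6) = 1 →
    x * a6 * f6 * (x * a6 * f6) = 1 → x = w6 := by
  intro x h1 h2 h3
  have t : ∀ n ∈ tab6, mulN (mulN n n) n = cd 1 → mulN (mulN n (cd a6)) (mulN n (cd a6)) = cd 1 →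
      mulN (mulN (mulN n (cd a6)) (cd f6)) (mulN (mulN n (cd a6)) (cd f6)) = cd 1 → n = cd w6 := by
    decide +kernel
  have h := all6 t x
  simp only [← cd_mul, cd_eq] at h
  exact h h1 h2 h3

theorem f_rel : f6 * a6 * f6⁻¹ = b6 ∧ f6 * b6 * f6⁻¹ = a6⁻¹ ∧
    f6 * f6 * (f6 * f6) = 1 ∧ f6 ≠ 1 ∧ a6 * b6 = b6 * a6 := by decide +kernel

theorem w_commutator : ∃ p q : A6, p * q * p⁻¹ * q⁻¹ = w6 :=
  ⟨mk6 ![0, 3, 1, 2, 4, 5] ![0, 2, 3, 1, 4, 5] (by decide) (by decide) (by decide),
    mk6 ![1, 0, 2, 3, 5, 4] ![1, 0, 2, 3, 5, 4] (by decide) (by decide) (by decide), by decide +kernel⟩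

end A6

end CfsgLib.AltNineThree
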