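import Mathlib

/-!
The six generalized characters of `N(J)` vanishing off the translation-like elements admit no
decomposition compatible with the two involution class sums.
-/

set_option autoImplicit false
set_option linter.unusedSectionVars false

namespace CfsgLib.AltNineThree

open Finset

variable {ι : Type*} [Fintype ι] [DecidableEq ι]

theorem coeff_cases (c : ι → ℤ) {n : ℤ} (h : ∑ i, c i * c i = n) (hn : n < 4) (i : ι) :
    c i = 0 ∨ c i = 1 ∨ c i = -1 := by
  have h1 : c i * c i ≤ ∑ j, c j * c j :=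
    single_le_sum (f := fun j => c j * c j) (fun j _ => mul_self_nonneg _) (mem_univ i)
  have : -2 < c i ∧ c i < 2 := by constructor <;> nlinarith
  omega

/-- The support of a vector of norm two. -/
theorem supp_two (c : ι → ℤ) (h : ∑ i, c i * c i = 2) :
    ∃ i j, i ≠ j ∧ (c i = 1 ∨ c i = -1) ∧ (c j = 1 ∨ c j = -1) ∧
      (∀ {R : Type} [CommRing R] (F : ι → R), ∑ k, (c k : R) * F k = c i * F i + c j * F j) := by
  classical
  have hc := coeff_cases c h (by norm_num)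
  set T := univ.filter fun k => c k ≠ 0 with hT
  have hcard : T.card = 2 := by
    have e : ∑ k, c k * c k = (T.card : ℤ) := by
      rw [hT, card_filter, Nat.cast_sum]
      refine sum_congr rfl fun k _ => ?_
      rcases hc k with e | e | e <;> simp [e]
    omega
  obtain ⟨i, j, hij, he⟩ := card_eq_two.mp hcard
  have hi : c i ≠ 0 := (mem_filter.mp (he ▸ mem_insert_self i _ : i ∈ T)).2
  have hj : c j ≠ 0 := (mem_filter.mp (he ▸ mem_insert_of_mem (mem_singleton_self j) : j ∈ T)).2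
  refine ⟨i, j, hij, (hc i).resolve_left hi, (hc j).resolve_left hj, fun {R} _ F => ?_⟩
  rw [← sum_subset (subset_univ T) fun k _ hk => by
    have : c k = 0 := by simpa [hT] using hk
    rw [this, Int.cast_zero, zero_mul], he, sum_pair hij]

/-- The support of a vector of norm three. -/
theorem supp_three (c : ι → ℤ) (h : ∑ i, c i * c i = 3) (i : ι) (hi : c i ≠ 0) :
    ∃ j k, i ≠ j ∧ i ≠ k ∧ j ≠ k ∧ (c i = 1 ∨ c i = -1) ∧ (c j = 1 ∨ c j = -1) ∧
      (c k = 1 ∨ c k = -1) ∧ (∀ l, c l ≠ 0 → l = i ∨ l = j ∨ l = k) ∧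
      (∀ {R : Type} [CommRing R] (F : ι → R),
        ∑ l, (c l : R) * F l = c i * F i + c j * F j + c k * F k) := by
  classical
  have hc := coeff_cases c h (by norm_num)
  set T := univ.filter fun k => c k ≠ 0 with hT
  have hcard : T.card = 3 := by
    have e : ∑ k, c k * c k = (T.card : ℤ) := by
      rw [hT, card_filter, Nat.cast_sum]
      refine sum_congr rfl fun k _ => ?_
      rcases hc k with e | e | e <;> simp [e]
    omega
  have hiT : i ∈ T := by simp [hT, hi]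
  obtain ⟨j, k, hjk, he⟩ := card_eq_two.mp
    (show (T.erase i).card = 2 by rw [card_erase_of_mem hiT, hcard])
  have hj : j ≠ i ∧ j ∈ T := mem_erase.mp (he ▸ mem_insert_self j _)
  have hk : k ≠ i ∧ k ∈ T := mem_erase.mp (he ▸ mem_insert_of_mem (mem_singleton_self k))
  have hTe : T = {i, j, k} := by rw [← insert_erase hiT, he]
  refine ⟨j, k, hj.1.symm, hk.1.symm, hjk, (hc i).resolve_left hi,
    (hc j).resolve_left (mem_filter.mp hj.2).2, (hc k).resolve_left (mem_filter.mp hk.2).2,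
    fun l hl => ?_, fun {R} _ F => ?_⟩
  · have : l ∈ T := by simp [hT, hl]
    simpa [hTe] using this
  rw [← sum_subset (subset_univ T) fun k _ hk => by
    have : c k = 0 := by simpa [hT] using hk
    rw [this, Int.cast_zero, zero_mul], hTe, sum_insert (by simp [hj.1.symm, hk.1.symm]),
    sum_pair hjk, add_assoc]

theorem exists_common (c c' : ι → ℤ) (h : ∑ i, c i * c' i ≠ 0) : ∃ i, c i ≠ 0 ∧ c' i ≠ 0 := by
  by_contra hn
  push Not at hn
  refine h (sum_eq_zero fun i _ => ?_)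
  by_cases hi : c i = 0
  · rw [hi, zero_mul]
  · rw [hn i hi, mul_zero]

/-- Three terms with vanishing sums and vanishing quadratic form are proportional. -/
theorem proportional {x1 x2 x3 z1 z2 z3 : ℚ} (h1 : x1 ≠ 0) (h2 : x2 ≠ 0) (h3 : x3 ≠ 0)
    (hx : x1 + x2 + x3 = 0) (hz : z1 + z2 + z3 = 0) (hq : z1 ^ 2 / x1 + z2 ^ 2 / x2 + z3 ^ 2 / x3 = 0) :
    z1 * x2 = z2 * x1 ∧ z1 * x3 = z3 * x1 := by
  have ex : x3 = -(x1 + x2) := by linarith
  have ez : z3 = -(z1 + z2) := by linarith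
  subst ex ez
  have hs : x1 + x2 ≠ 0 := fun e => h3 (by rw [e, neg_zero])
  have h : (z1 * x2 - z2 * x1) ^ 2 = 0 := by
    have e : z1 ^ 2 / x1 + z2 ^ 2 / x2 + (-(z1 + z2)) ^ 2 / (-(x1 + x2)) =
        (z1 * x2 - z2 * x1) ^ 2 / (x1 * x2 * (x1 + x2)) := by field_simp; ring
    rw [hq, eq_comm, div_eq_zero_iff] at e
    exact e.resolve_right (mul_ne_zero (mul_ne_zero h1 h2) hs)
  have h' : z1 * x2 = z2 * x1 := sub_eq_zero.mp (pow_eq_zero_iff two_ne_zero |>.mp h)
  exact ⟨h', by linear_combination (-1 : ℚ) * h'⟩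

/-- Integrality: a rational square equal to an integer comes from an integer. -/
theorem int_of_sq {σ : ℚ} {m : ℤ} (h : σ ^ 2 = (m : ℚ)) : ∃ s : ℤ, σ = (s : ℚ) := by
  refine ⟨σ.num, ((Rat.den_eq_one_iff σ).mp ?_).symm⟩
  have h1 : (σ ^ 2).den = 1 := by rw [h, Rat.den_intCast]
  rw [Rat.den_pow] at h1
  exact (pow_eq_one_iff.mp h1).resolve_right two_ne_zero

/-- The final Diophantine equation. -/
theorem no_k {k C h : ℤ} (hh : 3 * h = 1 + 2 * k ^ 2) (h6 : 6 ≤ |h|)
    (hC : C * (5 * k ^ 2 + 2 * k + 2) = 3 * k ^ 2 * (2 * k ^ 2 + 1)) : False := by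
  set N := 5 * k ^ 2 + 2 * k + 2 with hN
  have hpos : 0 < N := by nlinarith [sq_nonneg (k + 1), sq_nonneg k]
  have h17 : 17 ≤ 2 * k ^ 2 := by
    rcases abs_cases h with ⟨e, -⟩ | ⟨e, -⟩ <;> nlinarith [sq_nonneg k]
  have hid : (625 * C - (750 * k ^ 2 - 300 * k + 195)) * N = 210 * k - 390 := by
    linear_combination 625 * hC
  have hne : 625 * C - (750 * k ^ 2 - 300 * k + 195) ≠ 0 := by
    intro e; rw [e, zero_mul] at hid; omega
  have hle : N ≤ |210 * k - 390| := by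
    rw [← hid, abs_mul, abs_of_pos hpos]
    have : 1 ≤ |625 * C - (750 * k ^ 2 - 300 * k + 195)| := Int.one_le_abs hne
    nlinarith
  have hb : -45 < k ∧ k < 45 := by
    rcases abs_cases (210 * k - 390) with ⟨e, -⟩ | ⟨e, -⟩ <;> constructor <;> nlinarith
  obtain ⟨hlo, hhi⟩ := hb
  rw [hN] at hC
  interval_cases k <;> omega

/-- The hypotheses: six coefficient vectors, degrees and values at the two involution classes. -/
structure SixData (d : ι → ℤ) (zu zs : ι → ℚ) (c8 c3 c6 c4 c0 c21 : ι → ℤ) (U S M : ℚ) : Prop where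
  Upos : 0 < U
  Spos : 0 < S
  MM : M ^ 2 = U * S
  n8 : ∑ i, c8 i * c8 i = 2
  n3 : ∑ i, c3 i * c3 i = 3
  n6 : ∑ i, c6 i * c6 i = 3
  n4 : ∑ i, c4 i * c4 i = 3
  n0 : ∑ i, c0 i * c0 i = 3
  n21 : ∑ i, c21 i * c21 i = 2
  i83 : ∑ i, c8 i * c3 i = -1
  i86 : ∑ i, c8 i * c6 i = -1
  i84 : ∑ i, c8 i * c4 i = 0
  i80 : ∑ i, c8 i * c0 i = 0
  i8v : ∑ i, c8 i * c21 i = 0
  i36 : ∑ i, c3 i * c6 i = 0
  i34 : ∑ i, c3 i * c4 i = 1
  i30 : ∑ i, c3 i * c0 i = -1
  i3v : ∑ i, c3 i * c21 i = 0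
  i64 : ∑ i, c6 i * c4 i = 1
  i60 : ∑ i, c6 i * c0 i = 1
  i6v : ∑ i, c6 i * c21 i = 1
  i40 : ∑ i, c4 i * c0 i = 0
  i4v : ∑ i, c4 i * c21 i = 1
  i0v : ∑ i, c0 i * c21 i = 1
  deg : ∀ i, (c8 i ≠ 0 ∨ c3 i ≠ 0 ∨ c6 i ≠ 0 ∨ c4 i ≠ 0 ∨ c0 i ≠ 0 ∨ c21 i ≠ 0) →
    6 ≤ d i ∧ zu i ≠ 0 ∧ zs i ≠ 0
  d8 : ∑ i, (c8 i : ℚ) * d i = 0
  d3 : ∑ i, (c3 i : ℚ) * d i = 0
  d6 : ∑ i, (c6 i : ℚ) * d i = 0
  d4 : ∑ i, (c4 i : ℚ) * d i = 1
  d0 : ∑ i, (c0 i : ℚ) * d i = 1
  dv : ∑ i, (c21 i : ℚ) * d i = 0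
  u8 : ∑ i, (c8 i : ℚ) * zu i = 0
  u3 : ∑ i, (c3 i : ℚ) * zu i = 0
  u6 : ∑ i, (c6 i : ℚ) * zu i = 0
  u4 : ∑ i, (c4 i : ℚ) * zu i = 0
  u0 : ∑ i, (c0 i : ℚ) * zu i = 0
  uv : ∑ i, (c21 i : ℚ) * zu i = 0
  s8 : ∑ i, (c8 i : ℚ) * zs i = 0
  s3 : ∑ i, (c3 i : ℚ) * zs i = 0
  s6 : ∑ i, (c6 i : ℚ) * zs i = 0
  s4 : ∑ i, (c4 i : ℚ) * zs i = 0
  s0 : ∑ i, (c0 i : ℚ) * zs i = 0
  sv : ∑ i, (c21 i : ℚ) * zs i = 0
  uu3 : ∑ i, (c3 i : ℚ) * (zu i ^ 2 / d i) = 0
  uu6 : ∑ i, (c6 i : ℚ) * (zu i ^ 2 / d i) = 3 * U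
  uu4 : ∑ i, (c4 i : ℚ) * (zu i ^ 2 / d i) = 0
  uu0 : ∑ i, (c0 i : ℚ) * (zu i ^ 2 / d i) = -(3 / 2) * U
  ss3 : ∑ i, (c3 i : ℚ) * (zs i ^ 2 / d i) = 3 * S
  ss6 : ∑ i, (c6 i : ℚ) * (zs i ^ 2 / d i) = 0
  ss4 : ∑ i, (c4 i : ℚ) * (zs i ^ 2 / d i) = -3 * S
  ss0 : ∑ i, (c0 i : ℚ) * (zs i ^ 2 / d i) = -(9 / 2) * S
  us4 : ∑ i, (c4 i : ℚ) * (zu i * zs i / d i) = -3 * M
  us0 : ∑ i, (c0 i : ℚ) * (zu i * zs i / d i) = -(3 / 2) * M

theorem clear_three {A B C K p q r : ℚ} (hp : p ≠ 0) (hq : q ≠ 0) (hr : r ≠ 0)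
    (h : A / p + B / q + C / r = K) : A * q * r + B * p * r + C * p * q = K * p * q * r := by
  rw [← h]; field_simp

theorem small_false {x y : ℚ} (hx : 6 ≤ |x|) (hy : 6 ≤ |y|) (h : 2 * (x * y) = x + 3 * y) :
    False := by
  have h1 : 2 * (|x| * |y|) ≤ |x| + 3 * |y| := by
    have := abs_add_le x (3 * y)
    rw [← h, abs_mul, abs_mul, abs_mul] at this
    norm_num at this
    linarith
  nlinarith [mul_le_mul hx (le_refl |y|) (abs_nonneg y) (abs_nonneg x)]

theorem small_false' {x y : ℚ} (hx : 6 ≤ |x|) (hy : 6 ≤ |y|) (h : x * y = x + 2 * y) : False := by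
  have h1 : |x| * |y| ≤ |x| + 2 * |y| := by
    have := abs_add_le x (2 * y)
    rw [← h, abs_mul, abs_mul] at this
    norm_num at this
    linarith
  nlinarith [mul_le_mul hx (le_refl |y|) (abs_nonneg y) (abs_nonneg x)]

theorem split_aux {p q r s t : ℤ} (hp : p = 1 ∨ p = -1) (hq : q = 1 ∨ q = -1) (hr : r = 1 ∨ r = -1)
    (hs : s = 0 ∨ s = 1 ∨ s = -1) (ht : t = 1 ∨ t = -1) (h : p * q + r * s = t) :
    s = 0 ∧ p = t * q := by
  rcases hp with rfl | rfl <;> rcases hq with rfl | rfl <;> rcases hr with rfl | rfl <;>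
    rcases hs with rfl | rfl | rfl <;> rcases ht with rfl | rfl <;> omega

theorem oriented_div {c : ℤ} (hc : c = 1 ∨ c = -1) (z w x : ℚ) :
    (c : ℚ) * (z * w / x) = ((c : ℚ) * z) * ((c : ℚ) * w) / ((c : ℚ) * x) := by
  rcases hc with rfl | rfl <;> push_cast <;> ring

theorem oriented_sq {c : ℤ} (hc : c = 1 ∨ c = -1) (z x : ℚ) :
    (c : ℚ) * (z ^ 2 / x) = ((c : ℚ) * z) ^ 2 / ((c : ℚ) * x) := by
  rw [pow_two, pow_two, oriented_div hc]

set_option maxHeartbeats 1000000 in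
/-- Both middle constituents are shared. -/
theorem both_shared {κ μ U S M xh xb xC xB x x4 α β zX wX zX4 wX4 zB : ℚ} {hz bz Cz : ℤ}
    (hκ0 : κ ≠ 0) (hU : 0 < U) (hS : 0 < S) (hMM : M ^ 2 = U * S)
    (hhz : (hz : ℚ) = xh) (hbz : (bz : ℚ) = xb) (hCz : (Cz : ℚ) = xC)
    (ahh : 6 ≤ |xh|) (abb : 6 ≤ |xb|) (ah0 : xh ≠ 0) (ab0 : xb ≠ 0) (aX0 : x ≠ 0) (aX0' : x4 ≠ 0)
    (aC0 : xC ≠ 0) (hB0 : xB ≠ 0)
    (f_d4 : xh + xb + x = 1) (f_u4 : κ * xh + β + zX = 0) (f_s4 : α + μ * xb + wX = 0)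
    (f_d0 : -xh + xb + x4 = 1) (f_u0 : -(κ * xh) + β + zX4 = 0) (f_s0 : -α + μ * xb + wX4 = 0)
    (f_uu4 : (κ * xh) ^ 2 / xh + β ^ 2 / xb + zX ^ 2 / x = 0)
    (f_ss4 : α ^ 2 / xh + (μ * xb) ^ 2 / xb + wX ^ 2 / x = -3 * S)
    (f_us4 : κ * xh * α / xh + β * (μ * xb) / xb + zX * wX / x = -3 * M)
    (f_uu0 : (-(κ * xh)) ^ 2 / -xh + β ^ 2 / xb + zX4 ^ 2 / x4 = -(3 / 2) * U)
    (f_ss0 : (-α) ^ 2 / -xh + (μ * xb) ^ 2 / xb + wX4 ^ 2 / x4 = -(9 / 2) * S)
    (f_us0 : -(κ * xh) * -α / -xh + β * (μ * xb) / xb + zX4 * wX4 / x4 = -(3 / 2) * M)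
    (g_d : xC + xb + xB = 0) (g_u : κ * xC + β + zB = 0)
    (g_uu : (κ * xC) ^ 2 / xC + β ^ 2 / xb + zB ^ 2 / xB = 3 * U) : False := by
  have ezX : zX = -(κ * xh + β) := by linarith
  have ewX : wX = -(α + μ * xb) := by linarith
  have ezX4 : zX4 = κ * xh - β := by linarith
  have ewX4 : wX4 = α - μ * xb := by linarith
  rw [ezX] at f_uu4 f_us4
  rw [ewX] at f_ss4 f_us4
  rw [ezX4] at f_uu0 f_us0
  rw [ewX4] at f_ss0 f_us0
  have hx : x = 1 - xh - xb := by linarith
  have hx4 : x4 = 1 + xh - xb := by linarith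
  have hb1 : xb ≠ 1 := fun e => by rw [e, abs_one] at abb; norm_num at abb
  have ah0' : -xh ≠ 0 := neg_ne_zero.mpr ah0
  replace f_uu4 := clear_three ah0 ab0 aX0 f_uu4
  replace f_ss4 := clear_three ah0 ab0 aX0 f_ss4
  replace f_us4 := clear_three ah0 ab0 aX0 f_us4
  replace f_uu0 := clear_three ah0' ab0 aX0' f_uu0
  replace f_ss0 := clear_three ah0' ab0 aX0' f_ss0
  replace f_us0 := clear_three ah0' ab0 aX0' f_us0
  -- polarized combination
  have huu : -(3 / 2) * U * x4 * xb = 2 * β ^ 2 := by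
    have : xh * (-(3 / 2) * U * x4 * xb - 2 * β ^ 2) = 0 := by
      linear_combination f_uu0 - f_uu4 + ((κ * xh) ^ 2 * xb + β ^ 2 * xh) * hx -
        ((κ * xh) ^ 2 * xb - β ^ 2 * xh) * hx4
    have := (mul_eq_zero.mp this).resolve_left ah0
    linarith
  have hss : -S * (3 * x + 9 / 2 * x4) = 2 * μ ^ 2 * xb := by
    have : xh * xb * (-S * (3 * x + 9 / 2 * x4) - 2 * μ ^ 2 * xb) = 0 := by
      linear_combination f_ss0 - f_ss4 + (α ^ 2 * xb + (μ * xb) ^ 2 * xh) * hx -
        (α ^ 2 * xb - (μ * xb) ^ 2 * xh) * hx4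
    have := (mul_eq_zero.mp this).resolve_left (mul_ne_zero ah0 ab0)
    linarith
  have hus : -M * (3 * x + 3 / 2 * x4) = 2 * μ * β := by
    have : xh * xb * (-M * (3 * x + 3 / 2 * x4) - 2 * μ * β) = 0 := by
      linear_combination f_us0 - f_us4 + (κ * xh * α * xb + β * (μ * xb) * xh) * hx -
        (κ * xh * α * xb - β * (μ * xb) * xh) * hx4
    have := (mul_eq_zero.mp this).resolve_left (mul_ne_zero ah0 ab0)
    linarith
  have hquad : U * S * ((x4 - 2 * x) * (x4 + x)) = 0 := by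
    have e1 : M ^ 2 * (3 * x + 3 / 2 * x4) ^ 2 = 4 * μ ^ 2 * β ^ 2 := by
      linear_combination (-M * (3 * x + 3 / 2 * x4) + 2 * μ * β) * hus
    have e2 : (3 / 2) * U * x4 * xb * (S * (3 * x + 9 / 2 * x4)) = 4 * μ ^ 2 * β ^ 2 * xb := by
      linear_combination (-S * (3 * x + 9 / 2 * x4)) * huu + 2 * β ^ 2 * hss
    rw [hMM] at e1
    have e3 : xb * (U * S * ((3 * x + 3 / 2 * x4) ^ 2 - 3 / 2 * x4 * (3 * x + 9 / 2 * x4))) = 0 := by
      linear_combination xb * e1 - e2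
    have := (mul_eq_zero.mp e3).resolve_left ab0
    linear_combination -(2 / 9) * this
  have hx2 : x4 = 2 * x := by
    rcases mul_eq_zero.mp hquad with e | e
    · exact absurd e (by positivity)
    rcases mul_eq_zero.mp e with e' | e'
    · linarith
    · exact absurd (by linarith) hb1
  have eb : xb = 1 - 3 * xh := by linarith
  have hx' : x = 2 * xh := by linarith
  set t := β / κ with ht
  have hβt : β = κ * t := by rw [ht]; field_simp
  have hq : (1 - xh) * t ^ 2 + 2 * xh * xb * t + 3 * xh ^ 2 * xb = 0 := by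
    have : κ ^ 2 * xh * ((1 - xh) * t ^ 2 + 2 * xh * xb * t + 3 * xh ^ 2 * xb) = 0 := by
      rw [hx', hβt] at f_uu4
      linear_combination f_uu4 - κ ^ 2 * xh * t ^ 2 * eb
    exact (mul_eq_zero.mp this).resolve_left (mul_ne_zero (pow_ne_zero 2 hκ0) ah0)
  have ebz : bz = 1 - 3 * hz := by
    have : (bz : ℚ) = ((1 - 3 * hz : ℤ) : ℚ) := by push_cast; rw [hhz, hbz]; exact eb
    exact_mod_cast this
  obtain ⟨s, hs⟩ := int_of_sq (σ := ((1 - xh) * t + xh * xb) / xh) (m := -2 * bz) (by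
    rw [div_pow, div_eq_iff (pow_ne_zero 2 ah0)]
    push_cast; rw [hbz]
    linear_combination (1 - xh) * hq + xh ^ 2 * xb * eb)
  rw [div_eq_iff ah0] at hs
  have hs2 : s * s = -2 * bz := by
    have : ((s * s : ℤ) : ℚ) * xh ^ 2 = ((-2 * bz : ℤ) : ℚ) * xh ^ 2 := by
      push_cast; rw [hbz]
      have : ((1 - xh) * t + xh * xb) ^ 2 = ((s : ℚ) * xh) ^ 2 := by rw [hs]
      linear_combination -this + (1 - xh) * hq + xh ^ 2 * xb * eb
    exact_mod_cast mul_right_cancel₀ (pow_ne_zero 2 ah0) this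
  obtain ⟨k, rfl⟩ : ∃ k, s = 2 * k := by
    have h2 : (2 : ℤ) ∣ s * s := ⟨-bz, by linarith⟩
    rcases Int.prime_two.dvd_mul.mp h2 with ⟨k, hk⟩ | ⟨k, hk⟩ <;> exact ⟨k, hk⟩
  have hb2 : bz = -(2 * k ^ 2) := by linarith
  have h3k : 3 * hz = 1 + 2 * k ^ 2 := by linarith
  have h6h : 6 ≤ |hz| := by
    have : (6 : ℚ) ≤ ((|hz| : ℤ) : ℚ) := by rw [Int.cast_abs, hhz]; exact ahh
    exact_mod_cast this
  have hbq : xb = -(2 * (k : ℚ) ^ 2) := by rw [← hbz, hb2]; push_cast; rfl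
  have hhq : 3 * xh = 1 + 2 * (k : ℚ) ^ 2 := by linarith
  push_cast at hs
  rw [show zB = -(κ * xC + β) by linarith, show xB = -(xC + xb) by linarith] at g_uu
  have hsum0 : -(xC + xb) ≠ 0 := by
    rw [show -(xC + xb) = xB by linarith]; exact hB0
  rw [hβt] at g_uu huu
  have hU' : U = -(κ ^ 2 * t ^ 2) / (3 * xh * xb) := by
    rw [hx2, hx'] at huu
    field_simp
    linarith
  have hU3 : 3 * U * (xh * xb) = -(κ ^ 2 * t ^ 2) := by
    rw [hU']; field_simp
  replace g_uu := clear_three aC0 ab0 hsum0 g_uu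
  have hCeq : xC * (xh * (t - xb) ^ 2 + t ^ 2) = -(xb * t ^ 2) := by
    have : κ ^ 2 * xC * (xC * (xh * (t - xb) ^ 2 + t ^ 2) + xb * t ^ 2) = 0 := by
      linear_combination -xh * g_uu + xC * (xC + xb) * hU3
    have := (mul_eq_zero.mp this).resolve_left (mul_ne_zero (pow_ne_zero 2 hκ0) aC0)
    linarith
  refine no_k h3k h6h (C := Cz) ?_
  have hk1 : (k : ℚ) - 1 ≠ 0 := by
    intro e
    have hk : (k : ℚ) = 1 := by linarith
    rw [hk] at hhq
    rw [show xh = 1 by linarith] at ahh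
    norm_num at ahh
  have hk0 : (k : ℚ) ≠ 0 := fun e => ab0 (by rw [hbq, e]; ring)
  -- `t` linearly
  have hk1' : (k : ℚ) + 1 ≠ 0 := by
    intro e
    have hk : (k : ℚ) = -1 := by linarith
    rw [hk] at hhq
    rw [show xh = 1 by linarith] at ahh
    norm_num at ahh
  have htk : t * ((k : ℚ) - 1) = -(3 * xh * k) := by
    have e1 : (1 - xh) * t = 2 * (k : ℚ) * xh * (1 + k) := by
      rw [hbq] at hs; linarith
    have e2 : 1 - xh = -(2 / 3) * ((k : ℚ) - 1) * (k + 1) := by linarith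
    rw [e2] at e1
    have : ((k : ℚ) + 1) * (t * ((k : ℚ) - 1) + 3 * xh * k) = 0 := by linarith
    linarith [(mul_eq_zero.mp this).resolve_left hk1']
  have hfin : xC * (5 * (k : ℚ) ^ 2 + 2 * k + 2) = 3 * (k : ℚ) ^ 2 * (2 * (k : ℚ) ^ 2 + 1) := by
    have et : t * ((k : ℚ) - 1) - xb * ((k : ℚ) - 1) = -(k : ℚ) * (1 + 2 * k) := by
      rw [htk, hbq, show 3 * xh = 1 + 2 * (k : ℚ) ^ 2 from hhq]; ring
    have e1 : xC * (xh * (-(k : ℚ) * (1 + 2 * k)) ^ 2 + (3 * xh * k) ^ 2) =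
        -(xb * (3 * xh * k) ^ 2) := by
      rw [← et, show (3 * xh * (k : ℚ)) ^ 2 = (t * ((k : ℚ) - 1)) ^ 2 by rw [htk]; ring]
      linear_combination ((k : ℚ) - 1) ^ 2 * hCeq
    have e2 : xh * (k : ℚ) ^ 2 *
        (xC * ((1 + 2 * (k : ℚ)) ^ 2 + 9 * xh) + 9 * xh * xb) = 0 := by linarith
    have e3 := (mul_eq_zero.mp e2).resolve_left (mul_ne_zero ah0 (pow_ne_zero 2 hk0))
    rw [hbq, show 9 * xh = 3 * (1 + 2 * (k : ℚ) ^ 2) by linarith] at e3
    linarith
  rw [← hCz] at hfin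
  exact_mod_cast hfin

set_option maxHeartbeats 2000000 in
theorem sixData_false {d : ι → ℤ} {zu zs : ι → ℚ} {c8 c3 c6 c4 c0 c21 : ι → ℤ} {U S M : ℚ}
    (D : SixData d zu zs c8 c3 c6 c4 c0 c21 U S M) : False := by
  classical
  have q3 := coeff_cases c3 D.n3 (by norm_num)
  have q6 := coeff_cases c6 D.n6 (by norm_num)
  have q4 := coeff_cases c4 D.n4 (by norm_num)
  have q0 := coeff_cases c0 D.n0 (by norm_num)
  have hd : ∀ i, (c8 i ≠ 0 ∨ c3 i ≠ 0 ∨ c6 i ≠ 0 ∨ c4 i ≠ 0 ∨ c0 i ≠ 0 ∨ c21 i ≠ 0) →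
      (6 : ℚ) ≤ d i := fun i h => by exact_mod_cast (D.deg i h).1
  -- proportionality on the two vectors of norm three
  obtain ⟨i3, hi3, -⟩ := exists_common c3 c3 (by rw [D.n3]; norm_num)
  obtain ⟨i6, hi6, -⟩ := exists_common c6 c6 (by rw [D.n6]; norm_num)
  have key : ∀ (c : ι → ℤ) (z : ι → ℚ), ∑ i, c i * c i = 3 →
      (∀ i, c i ≠ 0 → (6 : ℚ) ≤ d i) → ∑ i, (c i : ℚ) * d i = 0 → ∑ i, (c i : ℚ) * z i = 0 →
      ∑ i, (c i : ℚ) * (z i ^ 2 / d i) = 0 →
      ∀ i j, c i ≠ 0 → c j ≠ 0 → z i * d j = z j * d i := by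
    intro c z hn hdc hdd hzz hqq i j hi hj
    obtain ⟨p, q, -, -, -, ci, cp, cq, hall, hsum⟩ := supp_three c hn i hi
    rw [hsum] at hdd hzz hqq
    rw [oriented_sq ci, oriented_sq cp, oriented_sq cq] at hqq
    have hne : ∀ l, (c l = 1 ∨ c l = -1) → (c l : ℚ) * d l ≠ 0 := fun l hl => by
      have := hdc l (by rcases hl with e | e <;> rw [e] <;> norm_num)
      rcases hl with e | e <;> rw [e] <;> push_cast <;> intro h <;> linarith
    obtain ⟨h1, h2⟩ := proportional (hne i ci) (hne p cp) (hne q cq) hdd hzz hqq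
    have canc : ∀ l, (c l = 1 ∨ c l = -1) →
        (c i : ℚ) * z i * ((c l : ℚ) * d l) = (c l : ℚ) * z l * ((c i : ℚ) * d i) →
        z i * d l = z l * d i := by
      intro l hl h
      rcases ci with e | e <;> rcases hl with e' | e' <;> rw [e, e'] at h <;> push_cast at h <;>
        linarith
    rcases hall j hj with rfl | rfl | rfl
    · rfl
    · exact canc _ cp h1
    · exact canc _ cq h2
  have d3' : ∀ i, c3 i ≠ 0 → (6 : ℚ) ≤ d i := fun i h => hd i (Or.inr (Or.inl h))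
  have d6' : ∀ i, c6 i ≠ 0 → (6 : ℚ) ≤ d i := fun i h => hd i (Or.inr (Or.inr (Or.inl h)))
  set κ := zu i3 / d i3 with hκdef
  set μ := zs i6 / d i6 with hμdef
  have hκ : ∀ i, c3 i ≠ 0 → zu i = κ * d i := fun i hi => by
    have := key c3 zu D.n3 d3' D.d3 D.u3 D.uu3 i i3 hi hi3
    have := d3' i3 hi3
    rw [hκdef]; field_simp; linarith
  have hμ : ∀ i, c6 i ≠ 0 → zs i = μ * d i := fun i hi => by
    have := key c6 zs D.n6 d6' D.d6 D.s6 D.ss6 i i6 hi hi6
    have := d6' i6 hi6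
    rw [hμdef]; field_simp; linarith
  have hκ0 : κ ≠ 0 := fun e => (D.deg i3 (Or.inr (Or.inl hi3))).2.1 (by rw [hκ i3 hi3, e, zero_mul])
  have hμ0 : μ ≠ 0 := fun e =>
    (D.deg i6 (Or.inr (Or.inr (Or.inl hi6)))).2.2 (by rw [hμ i6 hi6, e, zero_mul])
  -- disjointness
  have disj : ∀ i, c3 i = 0 ∨ c6 i = 0 := by
    intro i
    by_contra hn
    push Not at hn
    obtain ⟨p, q, -, -, -, ci, cp, cq, -, hsum⟩ := supp_three c6 D.n6 i hn.2
    have e := D.i36
    rw [show ∑ l, c3 l * c6 l = ∑ l, (c6 l : ℤ) * c3 l from sum_congr rfl fun l _ => mul_comm _ _,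
      show (∑ l, (c6 l : ℤ) * c3 l) = c6 i * c3 i + c6 p * c3 p + c6 q * c3 q from hsum c3] at e
    obtain ⟨j, j', hj3, hperm⟩ : ∃ j j', c3 j ≠ 0 ∧ ((j = p ∧ j' = q) ∨ (j = q ∧ j' = p)) := by
      by_cases hp : c3 p = 0
      · refine ⟨q, p, fun hq => ?_, Or.inr ⟨rfl, rfl⟩⟩
        rw [hp, hq] at e
        rcases mul_eq_zero.mp (show c6 i * c3 i = 0 by linarith) with h | h
        exacts [hn.2 h, hn.1 h]
      · exact ⟨p, q, hp, Or.inl ⟨rfl, rfl⟩⟩
    have hu := D.u6; have hdd := D.d6; have huu := D.uu6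
    rw [hsum] at hu hdd huu
    have ei := hκ i hn.1; have ej := hκ j hj3
    have hj' : zu j' = κ * d j' := by
      rcases hperm with ⟨rfl, rfl⟩ | ⟨rfl, rfl⟩
      · have : (c6 j' : ℚ) * (zu j' - κ * d j') = 0 := by
          linear_combination hu - κ * hdd - (c6 i : ℚ) * ei - (c6 j : ℚ) * ej
        rcases mul_eq_zero.mp this with h | h
        · rcases cq with e' | e' <;> rw [e'] at h <;> norm_num at h
        · linarith
      · have : (c6 j' : ℚ) * (zu j' - κ * d j') = 0 := by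
          linear_combination hu - κ * hdd - (c6 i : ℚ) * ei - (c6 j : ℚ) * ej
        rcases mul_eq_zero.mp this with h | h
        · rcases cp with e' | e' <;> rw [e'] at h <;> norm_num at h
        · linarith
    have hsq : ∀ l, zu l = κ * d l → zu l ^ 2 / (d l : ℚ) = κ ^ 2 * d l := fun l el => by
      rw [el]
      rcases eq_or_ne (d l : ℚ) 0 with h0 | h0
      · simp [h0]
      · field_simp
    have hall : zu p = κ * d p ∧ zu q = κ * d q := by
      rcases hperm with ⟨rfl, rfl⟩ | ⟨rfl, rfl⟩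
      exacts [⟨ej, hj'⟩, ⟨hj', ej⟩]
    rw [hsq i ei, hsq p hall.1, hsq q hall.2] at huu
    have := D.Upos
    nlinarith [hdd, huu]
  -- the vector of norm two meeting both
  obtain ⟨A, C, hAC, cA, cC, s8⟩ := supp_two c8 D.n8
  have e83 : c8 A * c3 A + c8 C * c3 C = -1 := (s8 c3).symm.trans D.i83
  have e86 : c8 A * c6 A + c8 C * c6 C = -1 := (s8 c6).symm.trans D.i86
  wlog hA3 : c3 A ≠ 0 generalizing A C
  · refine this C A hAC.symm cC cA (fun {R} _ F => by rw [s8 F]; ring) (by linarith) (by linarith) ?_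
    intro e; push Not at hA3; rw [e, hA3] at e83; simp at e83
  have hA6 : c6 A = 0 := (disj A).resolve_left hA3
  rw [hA6, mul_zero, zero_add] at e86
  have hC6 : c6 C ≠ 0 := fun e => by rw [e, mul_zero] at e86; norm_num at e86
  have hC3 : c3 C = 0 := (disj C).resolve_right hC6
  rw [hC3, mul_zero, add_zero] at e83
  have hd8 := D.d8; have hu8 := D.u8; have hs8 := D.s8
  rw [s8] at hd8 hu8 hs8
  have hA6' := d3' A hA3
  have hC6' := d6' C hC6
  have hopp : c8 C = -c8 A := by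
    rcases cA with e | e <;> rcases cC with e' | e' <;> rw [e, e'] <;> norm_num <;>
      rw [e, e'] at hd8 <;> push_cast at hd8 <;> linarith
  have cA0 : (c8 A : ℚ) ≠ 0 := by rcases cA with e | e <;> rw [e] <;> norm_num
  have hdAC : (d A : ℚ) = d C := by
    rw [hopp] at hd8; push_cast at hd8
    exact mul_left_cancel₀ cA0 (by linarith)
  have huAC : zu A = zu C := by
    rw [hopp] at hu8; push_cast at hu8
    exact mul_left_cancel₀ cA0 (by linarith)
  have hsAC : zs A = zs C := by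
    rw [hopp] at hs8; push_cast at hs8
    exact mul_left_cancel₀ cA0 (by linarith)
  have hsA : zs A = μ * d A := by rw [hsAC, hμ C hC6, hdAC]
  have huC : zu C = κ * d C := by rw [← huAC, hκ A hA3, hdAC]
  -- the vectors of norm four
  have split : ∀ (c : ι → ℤ) (t : ℤ), (t = 1 ∨ t = -1) → (∀ i, c i = 0 ∨ c i = 1 ∨ c i = -1) →
      ∑ i, c i * c i = 3 → ∑ i, c i * c3 i = t → ∑ i, c i * c6 i = 1 →
      ∃ h b X, h ≠ b ∧ h ≠ X ∧ b ≠ X ∧ c3 h ≠ 0 ∧ c6 b ≠ 0 ∧ c3 X = 0 ∧ c6 X = 0 ∧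
        c h = t * c3 h ∧ c b = c6 b ∧ (c X = 1 ∨ c X = -1) ∧
        (∀ l, c l ≠ 0 → l = h ∨ l = b ∨ l = X) ∧
        (∀ {R : Type} [CommRing R] (F : ι → R),
          ∑ l, (c l : R) * F l = c h * F h + c b * F b + c X * F X) := by
    intro c t ht qc hn e3 e6
    obtain ⟨h, hh, hh3⟩ := exists_common c c3 (by rcases ht with e | e <;> rw [e3, e] <;> norm_num)
    obtain ⟨b, hb, hb6⟩ := exists_common c c6 (by rw [e6]; norm_num)
    have hhb : h ≠ b := fun e => by
      rcases disj h with e' | e'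
      · exact hh3 e'
      · exact hb6 (e ▸ e')
    obtain ⟨j, k, hhj, hhk, hjk, ch, cj, ck, hall, hsum⟩ := supp_three c hn h hh
    obtain ⟨X, hbX, hhX, cX, hs, hallX⟩ : ∃ X, b ≠ X ∧ h ≠ X ∧ (c X = 1 ∨ c X = -1) ∧
        (∀ {R : Type} [CommRing R] (F : ι → R),
          ∑ l, (c l : R) * F l = c h * F h + c b * F b + c X * F X) ∧
        ∀ l, c l ≠ 0 → l = h ∨ l = b ∨ l = X := by
      rcases hall b hb with e | e | e
      · exact absurd e.symm hhb
      · subst e
        exact ⟨k, hjk, hhk, ck, fun {R} _ F => hsum F, hall⟩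
      · subst e
        refine ⟨j, hjk.symm, hhj, cj, fun {R} _ F => by rw [hsum F]; ring, fun l hl => ?_⟩
        rcases hall l hl with e' | e' | e'
        · exact Or.inl e'
        · exact Or.inr (Or.inr e')
        · exact Or.inr (Or.inl e')
    have h3h : c6 h = 0 := (disj h).resolve_left hh3
    have h6b : c3 b = 0 := (disj b).resolve_right hb6
    have a3 : c h * c3 h + c X * c3 X = t := by
      have e' : c h * c3 h + c b * c3 b + c X * c3 X = t := (hs c3).symm.trans e3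
      rw [h6b, mul_zero, add_zero] at e'; exact e'
    have a6 : c b * c6 b + c X * c6 X = 1 := by
      have e' : c h * c6 h + c b * c6 b + c X * c6 X = 1 := (hs c6).symm.trans e6
      rw [h3h, mul_zero, zero_add] at e'; exact e'
    obtain ⟨s3, t3⟩ := split_aux ((qc h).resolve_left hh) ((q3 h).resolve_left hh3) cX (q3 X) ht a3
    obtain ⟨s6, t6⟩ :=
      split_aux ((qc b).resolve_left hb) ((q6 b).resolve_left hb6) cX (q6 X) (Or.inl rfl) a6
    rw [one_mul] at t6
    exact ⟨h, b, X, hhb, hhX, hbX, hh3, hb6, s3, s6, t3, t6, cX, hallX, fun {R} _ F => hs F⟩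
  obtain ⟨h, b, X, hhb, hhX, hbX, h3h, h6b, h3X, h6X, c4h, c4b, c4X, all4, s4⟩ :=
    split c4 1 (Or.inl rfl) q4 D.n4
      ((sum_congr rfl fun l _ => mul_comm _ _).trans D.i34)
      ((sum_congr rfl fun l _ => mul_comm _ _).trans D.i64)
  obtain ⟨Y, W, X', hYW, hYX, hWX, h3Y, h6W, h3X', h6X', c0Y, c0W, c0X, all0, s0⟩ :=
    split c0 (-1) (Or.inr rfl) q0 D.n0
      ((sum_congr rfl fun l _ => mul_comm _ _).trans D.i30)
      ((sum_congr rfl fun l _ => mul_comm _ _).trans D.i60)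
  rw [one_mul] at c4h
  -- intersections with the first vector
  have e84 : c8 A * c4 A + c8 C * c4 C = 0 := (s8 c4).symm.trans D.i84
  have e80 : c8 A * c0 A + c8 C * c0 C = 0 := (s8 c0).symm.trans D.i80
  have at4A : c4 A = if A = h then c3 A else 0 := by
    split_ifs with e
    · rw [e, c4h]
    · by_contra hne
      rcases all4 A hne with e' | e' | e'
      exacts [e e', h6b (e' ▸ hA6), hA3 (e' ▸ h3X)]
  have at4C : c4 C = if C = b then c6 C else 0 := by
    split_ifs with e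
    · rw [e, c4b]
    · by_contra hne
      rcases all4 C hne with e' | e' | e'
      exacts [h3h (e' ▸ hC3), e e', hC6 (e' ▸ h6X)]
  have at0A : c0 A = if A = Y then -c3 A else 0 := by
    split_ifs with e
    · rw [e, c0Y, neg_one_mul]
    · by_contra hne
      rcases all0 A hne with e' | e' | e'
      exacts [e e', h6W (e' ▸ hA6), hA3 (e' ▸ h3X')]
  have at0C : c0 C = if C = W then c6 C else 0 := by
    split_ifs with e
    · rw [e, c0W]
    · by_contra hne
      rcases all0 C hne with e' | e' | e'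
      exacts [h3Y (e' ▸ hC3), e e', hC6 (e' ▸ h6X')]
  have hAh : A ≠ h := by
    intro e; rw [at4A, if_pos e, at4C] at e84
    split_ifs at e84 <;> omega
  have hCb : C ≠ b := by
    intro e; rw [at4A, if_neg hAh, at4C, if_pos e] at e84; omega
  have hAYCW : A = Y ↔ C = W := by
    rw [at0A, at0C] at e80
    constructor <;> intro e <;> by_contra e' <;> rw [if_pos e, if_neg e'] at e80 <;> simp only [mul_neg, mul_zero] at e80 <;> omega
  -- the last vector
  obtain ⟨D', hD6, hDv⟩ := exists_common c6 c21 (by rw [D.i6v]; norm_num)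
  obtain ⟨i, j, hij, ci, cj, sv⟩ := supp_two c21 D.n21
  wlog hiD : i = D' generalizing i j
  · refine this j i hij.symm cj ci (fun {R} _ F => by rw [sv F]; ring) ?_
    by_contra hjD
    refine hDv ?_
    have := sv (R := ℤ) fun l => if l = D' then (1 : ℤ) else 0
    simpa [hiD, hjD] using this
  subst hiD
  rename' j => E, hij => hDE, cj => cE, ci => cD
  have hdv := D.dv; have huv := D.uv; have hsv := D.sv
  rw [sv] at hdv huv hsv
  have hDd := d6' i hD6
  have hEd : (6 : ℚ) ≤ d E := hd E (Or.inr (Or.inr (Or.inr (Or.inr (Or.inr (by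
    rcases cE with e | e <;> rw [e] <;> norm_num))))))
  have hoppv : c21 E = -c21 i := by
    rcases cD with e | e <;> rcases cE with e' | e' <;> rw [e, e'] <;> norm_num <;>
      rw [e, e'] at hdv <;> push_cast at hdv <;> linarith
  have cD0 : (c21 i : ℚ) ≠ 0 := by rcases cD with e | e <;> rw [e] <;> norm_num
  have hdDE : (d i : ℚ) = d E := by
    rw [hoppv] at hdv; push_cast at hdv
    exact mul_left_cancel₀ cD0 (by linarith)
  have hsE : zs E = μ * d E := by
    rw [← hdDE, ← hμ i hD6]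
    rw [hoppv] at hsv; push_cast at hsv
    exact (mul_left_cancel₀ cD0 (by linarith)).symm
  have hD3 : c3 i = 0 := (disj i).resolve_right hD6
  have hE3 : c3 E = 0 := by
    have e3v : c21 i * c3 i + c21 E * c3 E = 0 :=
      (sv c3).symm.trans ((sum_congr rfl fun l _ => mul_comm _ _).trans D.i3v)
    rw [hD3, mul_zero, zero_add] at e3v
    exact (mul_eq_zero.mp e3v).resolve_left (by rcases cE with e | e <;> rw [e] <;> norm_num)
  have e6v : c21 i * c6 i + c21 E * c6 E = 1 :=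
    (sv c6).symm.trans ((sum_congr rfl fun l _ => mul_comm _ _).trans D.i6v)
  have hE6 : c6 E = 0 := by
    rcases cD with e | e <;> rcases (q6 i).resolve_left hD6 with e' | e' <;>
      rcases q6 E with e'' | e'' | e'' <;> rw [hoppv, e, e', e''] at e6v <;>
      first | exact e'' | (norm_num at e6v)
  have hD21 : c21 i = c6 i := by
    rw [hE6, mul_zero, add_zero] at e6v
    rcases cD with e | e <;> rcases (q6 i).resolve_left hD6 with e' | e' <;>
      rw [e, e'] at e6v ⊢ <;> norm_num at e6v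
  have e4v : c21 i * c4 i + c21 E * c4 E = 1 :=
    (sv c4).symm.trans ((sum_congr rfl fun l _ => mul_comm _ _).trans D.i4v)
  have e0v : c21 i * c0 i + c21 E * c0 E = 1 :=
    (sv c0).symm.trans ((sum_congr rfl fun l _ => mul_comm _ _).trans D.i0v)
  have e8v : c8 A * c21 A + c8 C * c21 C = 0 := (s8 c21).symm.trans D.i8v
  have hDC : i ≠ C := by
    intro e
    have hA21 : c21 A = 0 := by
      have := sv (R := ℤ) fun l => if l = A then (1 : ℤ) else 0
      have hiA : i ≠ A := fun e' => hAC (e'.symm.trans e)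
      have hEA : E ≠ A := fun e' => hA3 (e' ▸ hE3)
      simpa [hiA, hEA] using this
    rw [hA21, mul_zero, zero_add, ← e] at e8v
    rcases mul_eq_zero.mp e8v with h' | h'
    · rcases cC with e' | e' <;> rw [e] at h' <;> omega
    · exact hDv h'
  have at4D : c4 i = if i = b then c6 i else 0 := by
    split_ifs with e
    · rw [e, c4b]
    · by_contra hne
      rcases all4 i hne with e' | e' | e'
      exacts [h3h (e' ▸ hD3), e e', hD6 (e' ▸ h6X)]
  have at4E : E ≠ X → c4 E = 0 := fun e => by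
    by_contra hne
    rcases all4 E hne with e' | e' | e'
    exacts [h3h (e' ▸ hE3), h6b (e' ▸ hE6), e e']
  have at0D : c0 i = if i = W then c6 i else 0 := by
    split_ifs with e
    · rw [e, c0W]
    · by_contra hne
      rcases all0 i hne with e' | e' | e'
      exacts [h3Y (e' ▸ hD3), e e', hD6 (e' ▸ h6X')]
  have at0E : E ≠ X' → c0 E = 0 := fun e => by
    by_contra hne
    rcases all0 E hne with e' | e' | e'
    exacts [h3Y (e' ▸ hE3), h6W (e' ▸ hE6), e e']
  -- Either the middle is shared with the last vector, or its partner is.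
  have choice4 : (i = b ∧ E ≠ X) ∨ (i ≠ b ∧ E = X) := by
    by_cases e : i = b <;> by_cases e' : E = X
    · exfalso
      rw [at4D, if_pos e, hD21, hoppv, hD21, e'] at e4v
      rcases c4X with f | f <;> rcases (q6 i).resolve_left hD6 with g | g <;> rw [f, g] at e4v <;>
        norm_num at e4v
    · exact Or.inl ⟨e, e'⟩
    · exact Or.inr ⟨e, e'⟩
    · exfalso; rw [at4D, if_neg e, at4E e'] at e4v; norm_num at e4v
  have choice0 : (i = W ∧ E ≠ X') ∨ (i ≠ W ∧ E = X') := by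
    by_cases e : i = W <;> by_cases e' : E = X'
    · exfalso
      rw [at0D, if_pos e, hD21, hoppv, hD21, e'] at e0v
      rcases c0X with f | f <;> rcases (q6 i).resolve_left hD6 with g | g <;> rw [f, g] at e0v <;>
        norm_num at e0v
    · exact Or.inl ⟨e, e'⟩
    · exact Or.inr ⟨e, e'⟩
    · exfalso; rw [at0D, if_neg e, at0E e'] at e0v; norm_num at e0v
  -- the equations of the two norm four vectors
  have hcy : (c0 Y : ℚ) = -(c3 Y : ℚ) := by rw [c0Y]; push_cast; ring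
  have ch : c3 h = 1 ∨ c3 h = -1 := (q3 h).resolve_left h3h
  have cb : c6 b = 1 ∨ c6 b = -1 := (q6 b).resolve_left h6b
  have cW : c6 W = 1 ∨ c6 W = -1 := (q6 W).resolve_left h6W
  have cY' : c0 Y = 1 ∨ c0 Y = -1 := by
    rcases (q3 Y).resolve_left h3Y with e | e <;> rw [c0Y, e] <;> norm_num
  have f_d4 := D.d4; have f_u4 := D.u4; have f_s4 := D.s4
  have f_uu4 := D.uu4; have f_ss4 := D.ss4; have f_us4 := D.us4
  rw [s4] at f_d4 f_u4 f_s4 f_uu4 f_ss4 f_us4
  rw [oriented_sq (c4h ▸ ch), oriented_sq (c4b ▸ cb), oriented_sq c4X] at f_uu4 f_ss4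
  rw [oriented_div (c4h ▸ ch), oriented_div (c4b ▸ cb), oriented_div c4X] at f_us4
  rw [c4h, c4b] at f_d4 f_u4 f_s4 f_uu4 f_ss4 f_us4
  have f_d0 := D.d0; have f_u0 := D.u0; have f_s0 := D.s0
  have f_uu0 := D.uu0; have f_ss0 := D.ss0; have f_us0 := D.us0
  rw [s0] at f_d0 f_u0 f_s0 f_uu0 f_ss0 f_us0
  rw [oriented_sq cY', oriented_sq (c0W ▸ cW), oriented_sq c0X] at f_uu0 f_ss0
  rw [oriented_div cY', oriented_div (c0W ▸ cW), oriented_div c0X] at f_us0
  rw [hcy, c0W] at f_d0 f_u0 f_s0 f_uu0 f_ss0 f_us0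
  have hs6 : ∀ l, c6 l ≠ 0 → (c6 l : ℚ) * zs l = μ * ((c6 l : ℚ) * d l) := fun l hl => by
    rw [hμ l hl]; ring
  have hu3 : ∀ l, c3 l ≠ 0 → (c3 l : ℚ) * zu l = κ * ((c3 l : ℚ) * d l) := fun l hl => by
    rw [hκ l hl]; ring
  rw [hu3 h h3h] at f_u4 f_uu4 f_us4
  rw [hs6 b h6b] at f_s4 f_ss4 f_us4
  rw [hs6 W h6W] at f_s0 f_ss0 f_us0
  simp only [neg_mul] at f_d0 f_u0 f_s0 f_uu0 f_ss0 f_us0
  rw [hu3 Y h3Y] at f_u0 f_uu0 f_us0
  have habs : ∀ {c : ℤ} (l : ι), (c = 1 ∨ c = -1) → (6 : ℚ) ≤ d l →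
      (6 : ℚ) ≤ |(c : ℚ) * d l| ∧ (c : ℚ) * d l ≠ 0 := by
    intro c l hc hl
    rcases hc with e | e <;> rw [e] <;> push_cast <;>
      refine ⟨?_, fun h' => by linarith⟩ <;> simp <;> exact hl.trans (le_abs_self _)
  obtain ⟨ahh, ah0⟩ := habs h ch (d3' h h3h)
  obtain ⟨abb, ab0⟩ := habs b cb (d6' b h6b)
  have hdX : (6 : ℚ) ≤ d X :=
    hd X (Or.inr (Or.inr (Or.inr (Or.inl (by rcases c4X with e | e <;> rw [e] <;> norm_num)))))
  have hdX' : (6 : ℚ) ≤ d X' :=
    hd X' (Or.inr (Or.inr (Or.inr (Or.inr (Or.inl (by rcases c0X with e | e <;> rw [e] <;> norm_num))))))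
  obtain ⟨-, aX0⟩ := habs X c4X hdX
  obtain ⟨-, aX0'⟩ := habs X' c0X hdX'
  obtain ⟨aYY, aY0⟩ := habs Y ((q3 Y).resolve_left h3Y) (d3' Y h3Y)
  obtain ⟨-, aW0⟩ := habs W cW (d6' W h6W)
  set xh := (c3 h : ℚ) * d h with hxh
  set xb := (c6 b : ℚ) * d b with hxb
  set xY := (c3 Y : ℚ) * d Y with hxY
  set xW := (c6 W : ℚ) * d W with hxW
  have hS := D.Spos
  have hU := D.Upos
  have h40 : c4 h * c0 h + c4 b * c0 b + c4 X * c0 X = 0 := (s4 c0).symm.trans D.i40
  have at0h : c0 h = if h = Y then -c3 h else 0 := by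
    split_ifs with e
    · rw [e, c0Y, neg_one_mul]
    · by_contra hne
      rcases all0 h hne with e' | e' | e'
      exacts [e e', h6W (e' ▸ (disj h).resolve_left h3h), h3h (e' ▸ h3X')]
  have at0b : c0 b = if b = W then c6 b else 0 := by
    split_ifs with e
    · rw [e, c0W]
    · by_contra hne
      rcases all0 b hne with e' | e' | e'
      exacts [h3Y (e' ▸ (disj b).resolve_right h6b), e e', h6b (e' ▸ h6X')]
  have at0X : X ≠ X' → c0 X = 0 := fun e => by
    by_contra hne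
    rcases all0 X hne with e' | e' | e'
    exacts [h3Y (e' ▸ h3X), h6W (e' ▸ h6X), e e']
  rw [c4h, c4b, at0h, at0b] at h40
  by_cases hY : h = Y <;> by_cases hW : b = W
  · -- both shared
    subst hY; subst hW
    have hXX : X ≠ X' := by
      intro e
      rw [if_pos rfl, if_pos rfl, e] at h40
      rcases ch with f | f <;> rcases cb with g | g <;> rcases c4X with p | p <;> rcases c0X with q | q <;>
        rw [f, g] at h40 <;> rw [e] at p <;> rw [p, q] at h40 <;> norm_num at h40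
    obtain ⟨hDb, -⟩ : i = b ∧ E ≠ X := by
      rcases choice4 with e | ⟨e1, e2⟩
      · exact e
      · exfalso
        rcases choice0 with ⟨e3, -⟩ | ⟨-, e4⟩
        · exact e1 e3
        · exact hXX (e2.symm.trans e4)
    simp only [show xY = xh from rfl, show xW = xb from rfl] at f_d0 f_u0 f_s0 f_uu0 f_ss0 f_us0
    set β := (c6 b : ℚ) * zu b with hβ
    set α := (c3 h : ℚ) * zs h
    set zX := (c4 X : ℚ) * zu X
    set wX := (c4 X : ℚ) * zs X
    set zX4 := (c0 X' : ℚ) * zu X'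
    set wX4 := (c0 X' : ℚ) * zs X'
    set x := (c4 X : ℚ) * d X
    set x4 := (c0 X' : ℚ) * d X'
    -- the last equation
    obtain ⟨p, B, hCp, hCB, hpB, cC6, cp, cB, hallC, sC⟩ := supp_three c6 D.n6 C hC6
    obtain ⟨B', cB', sC'⟩ : ∃ B', (c6 B' = 1 ∨ c6 B' = -1) ∧
        ∀ {R : Type} [CommRing R] (F : ι → R),
          ∑ l, (c6 l : R) * F l = c6 C * F C + c6 b * F b + c6 B' * F B' := by
      rcases hallC b h6b with e | e | e
      · exact absurd e.symm hCb
      · subst e; exact ⟨B, cB, fun {R} _ F => sC F⟩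
      · subst e; exact ⟨p, cp, fun {R} _ F => by rw [sC F]; ring⟩
    have g_d := D.d6; have g_u := D.u6; have g_uu := D.uu6
    rw [sC'] at g_d g_u g_uu
    rw [oriented_sq cC6, oriented_sq cb, oriented_sq cB'] at g_uu
    rw [show (c6 C : ℚ) * zu C = κ * ((c6 C : ℚ) * d C) by rw [huC]; ring, ← hβ] at g_u g_uu
    obtain ⟨-, aC0⟩ := habs C cC6 hC6'
    have hB0 : (c6 B' : ℚ) * d B' ≠ 0 :=
      (habs B' cB' (d6' B' (by rcases cB' with e | e <;> rw [e] <;> norm_num))).2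
    exact both_shared (hz := c3 h * d h) (bz := c6 b * d b) (Cz := c6 C * d C) (α := α)
      (zX := zX) (wX := wX) (zX4 := zX4) (wX4 := wX4) hκ0 hU hS D.MM
      (by rw [hxh]; push_cast; rfl) (by rw [hxb]; push_cast; rfl) (by push_cast; rfl)
      ahh abb ah0 ab0 aX0 aX0' aC0 hB0
      f_d4 f_u4 f_s4 f_d0 f_u0 f_s0 f_uu4 f_ss4 f_us4 (by linear_combination f_uu0)
      (by linear_combination f_ss0) (by linear_combination f_us0) g_d g_u g_uu
  · -- only the first is shared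
    subst hY
    have hXX : X = X' := by
      by_contra e
      rw [if_pos rfl, if_neg hW, at0X e] at h40
      rcases ch with f | f <;> rw [f] at h40 <;> norm_num at h40
    have hAY : A ≠ h := hAh
    have hCW : C ≠ W := fun e => hAY (hAYCW.mpr e)
    rcases choice4 with ⟨e1, e2⟩ | ⟨e1, e2⟩ <;> rcases choice0 with ⟨e3, e4⟩ | ⟨e3, e4⟩
    · exact hW (e1.symm.trans e3)
    · exact e2 (e4.trans hXX.symm)
    · exact e4 (e2.trans hXX)
    · -- `C, b, W, D` in a support of three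
      obtain ⟨p, q, -, -, -, -, -, -, hall, -⟩ := supp_three c6 D.n6 C hC6
      rcases hall b h6b with f | f | f <;> rcases hall W h6W with g | g | g <;>
        rcases hall i hD6 with k | k | k
      all_goals first
        | exact hCb f.symm
        | exact hCW g.symm
        | exact hDC k
        | exact hW (f.trans g.symm)
        | exact e1 (k.trans f.symm)
        | exact e3 (k.trans g.symm)
  · -- only the second is shared
    subst hW
    have hXX : X = X' := by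
      by_contra e
      rw [if_neg hY, if_pos rfl, at0X e] at h40
      rcases cb with g | g <;> rw [g] at h40 <;> norm_num at h40
    subst hXX
    have hopp4 : c0 X = -c4 X := by
      rw [if_neg hY, if_pos rfl] at h40
      rcases cb with g | g <;> rcases c4X with p | p <;> rcases c0X with q | q <;>
        simp [g, p, q] at h40 ⊢
    have hAY : A ≠ Y := fun e => hCb (hAYCW.mp e)
    obtain ⟨p, q, -, -, -, cA3, cp, cq, hall, sA⟩ := supp_three c3 D.n3 A hA3
    rw [hopp4] at f_d0 f_u0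
    push_cast at f_d0 f_u0
    set β := (c6 b : ℚ) * zu b with hβ
    have h2β : 2 * β = κ * (xY - xh) := by linarith
    have hYh : xY - xh = 2 * (xb - 1) := by linarith
    have hβb : β = κ * (xb - 1) := by rw [hYh] at h2β; linarith
    rw [show (c4 X : ℚ) * zu X = -(κ * xh + β) by linarith, hβb,
      show (c4 X : ℚ) * d X = 1 - xh - xb by linarith] at f_uu4
    have hx0 : 1 - xh - xb ≠ 0 := by
      rw [show 1 - xh - xb = (c4 X : ℚ) * d X by linarith]; exact aX0
    replace f_uu4 := clear_three ah0 ab0 hx0 f_uu4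
    have : κ ^ 2 * (1 - xb) * (1 - xh - xb) * xh = 0 := by linear_combination f_uu4
    rcases mul_eq_zero.mp this with e | e
    · rcases mul_eq_zero.mp e with e' | e'
      · rcases mul_eq_zero.mp e' with e'' | e''
        · exact hκ0 (pow_eq_zero_iff two_ne_zero |>.mp e'')
        · rw [show xb = 1 by linarith, abs_one] at abb; norm_num at abb
      · exact hx0 e'
    · exact ah0 e
  · -- nothing is shared
    have hXX : X ≠ X' := by
      intro e
      rw [if_neg hY, if_neg hW, e] at h40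
      rcases c4X with p | p <;> rcases c0X with q | q <;> rw [e] at p <;> rw [p, q] at h40 <;>
        norm_num at h40
    by_cases hAY : A = Y
    · have hCW := hAYCW.mp hAY
      obtain ⟨-, hEX'⟩ : i ≠ W ∧ E = X' := by
        rcases choice0 with ⟨e, -⟩ | e
        · exact absurd (e.trans hCW.symm) hDC
        · exact e
      rw [show (c3 Y : ℚ) * zs Y = μ * xY by rw [hxY, ← hAY, hsA]; ring,
        show (c0 X' : ℚ) * zs X' = μ * ((c0 X' : ℚ) * d X') by rw [← hEX', hsE]; ring] at f_s0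
      exact hμ0 (by linear_combination f_s0 - μ * f_d0)
    · have hCW : C ≠ W := fun e => hAY (hAYCW.mpr e)
      -- supports of the vectors of norm three
      obtain ⟨p, q, -, -, -, cA3, cp, cq, hall, sA⟩ := supp_three c3 D.n3 A hA3
      have sA' : ∀ F : ι → ℚ,
          ∑ l, (c3 l : ℚ) * F l = c3 A * F A + c3 h * F h + c3 Y * F Y := by
        intro F
        rcases hall h h3h with f | f | f <;> rcases hall Y h3Y with g | g | g
        all_goals first
          | exact absurd f.symm hAh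
          | exact absurd g.symm hAY
          | exact absurd (f.trans g.symm) hY
          | (rw [sA F, f, g]; done)
          | (rw [sA F, f, g]; ring)
      have g_d := D.d3; have g_s := D.s3; have g_ss := D.ss3
      rw [sA'] at g_d g_s g_ss
      rw [oriented_sq cA3, oriented_sq ch, oriented_sq ((q3 Y).resolve_left h3Y)] at g_ss
      rw [← hxh, ← hxY] at g_d g_ss
      rw [show (c3 A : ℚ) * zs A = μ * ((c3 A : ℚ) * d A) by rw [hsA]; ring] at g_s g_ss
      obtain ⟨-, aA0⟩ := habs A cA3 hA6'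
      set xA := (c3 A : ℚ) * d A
      set α := (c3 h : ℚ) * zs h
      set γ := (c3 Y : ℚ) * zs Y
      rcases choice4 with ⟨e1, e2⟩ | ⟨e1, e2⟩ <;> rcases choice0 with ⟨e3, e4⟩ | ⟨e3, e4⟩
      · exact hW (e1.symm.trans e3)
      · -- the partner lies in the second
        rw [show (c0 X' : ℚ) * zs X' = μ * ((c0 X' : ℚ) * d X') by rw [← e4, hsE]; ring] at f_s0 f_ss0
        have eγ : γ = μ * (1 + xY) := by linear_combination -f_s0 + μ * f_d0
        have eα : α = μ * (xh - 1) := by linear_combination g_s - eγ - μ * g_d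
        rw [eα, eγ] at g_ss
        rw [eγ] at f_ss0
        replace g_ss := clear_three aA0 ah0 aY0 g_ss
        replace f_ss0 := clear_three (neg_ne_zero.mpr aY0) aW0 aX0' f_ss0
        have e3S : μ ^ 2 * (xh + xY) = 3 * S * (xh * xY) := by
          have : xA * (μ ^ 2 * (xh + xY) - 3 * S * (xh * xY)) = 0 := by
            linear_combination g_ss - μ ^ 2 * xA * xh * xY * g_d
          linear_combination (mul_eq_zero.mp this).resolve_left aA0
        have e0S : μ ^ 2 * (1 + xY) = (9 / 2) * S * xY := by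
          have : xW * ((c0 X' : ℚ) * d X') * (μ ^ 2 * (1 + xY) - 9 / 2 * S * xY) = 0 := by
            linear_combination f_ss0 + μ ^ 2 * xY * xW * ((c0 X' : ℚ) * d X') * f_d0
          linear_combination (mul_eq_zero.mp this).resolve_left (mul_ne_zero aW0 aX0')
        have key' : μ ^ 2 * (2 * xh * (1 + xY) - 3 * (xh + xY)) = 0 := by
          linear_combination 2 * xh * e0S - 3 * e3S
        have := (mul_eq_zero.mp key').resolve_left (pow_ne_zero 2 hμ0)
        exact small_false ahh aYY (show 2 * (xh * xY) = xh + 3 * xY by linear_combination this)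
      · rw [show (c4 X : ℚ) * zs X = μ * ((c4 X : ℚ) * d X) by rw [← e2, hsE]; ring] at f_s4 f_ss4
        have eα : α = μ * (xh - 1) := by linear_combination f_s4 - μ * f_d4
        have eγ : γ = μ * (1 + xY) := by linear_combination g_s - eα - μ * g_d
        rw [eα, eγ] at g_ss
        rw [eα] at f_ss4
        replace g_ss := clear_three aA0 ah0 aY0 g_ss
        replace f_ss4 := clear_three ah0 ab0 aX0 f_ss4
        have e3S : μ ^ 2 * (xh + xY) = 3 * S * (xh * xY) := by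
          have : xA * (μ ^ 2 * (xh + xY) - 3 * S * (xh * xY)) = 0 := by
            linear_combination g_ss - μ ^ 2 * xA * xh * xY * g_d
          linear_combination (mul_eq_zero.mp this).resolve_left aA0
        have e4S : μ ^ 2 * (1 - xh) = -(3 * S * xh) := by
          have : xb * ((c4 X : ℚ) * d X) * (μ ^ 2 * (1 - xh) + 3 * S * xh) = 0 := by
            linear_combination f_ss4 - μ ^ 2 * xb * ((c4 X : ℚ) * d X) * xh * f_d4
          linear_combination (mul_eq_zero.mp this).resolve_left (mul_ne_zero ab0 aX0)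
        have key' : μ ^ 2 * (xY * (1 - xh) + (xh + xY)) = 0 := by
          linear_combination xY * e4S + e3S
        have := (mul_eq_zero.mp key').resolve_left (pow_ne_zero 2 hμ0)
        exact small_false' ahh aYY (show xh * xY = xh + 2 * xY by linear_combination -this)
      · exact hXX (e2.symm.trans e4)

end CfsgLib.AltNineThree
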