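import Cfsg.Agent.Lib.AltNineThree.Classes
import Cfsg.Agent.Lib.ThreeCubedTI.Model

/-!
The action of the model on the three blocks, and the restriction of its kernel to the blocks.
-/

set_option autoImplicit false
set_option maxRecDepth 20000

open Equiv

namespace CfsgLib.AltNineThree

attribute [local instance 2000] List.decidableBAll List.decidableBEx

/-- The block permutation of a complement element. -/
def blk (w : ℕ) : Perm (Fin 3) :=
  [1, swap 1 2, swap 0 1, swap 0 1 * swap 1 2, swap 1 2 * swap 0 1, swap 0 2].getD (w / 4) 1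

theorem div_mulC (x y : Fin 648) :
    mulC x y / 27 = entN wMulTab (24 * ((x : ℕ) / 27) + (y : ℕ) / 27) := by
  obtain ⟨h1, -, h3, -⟩ := tab_bound
  have hx := x.isLt
  have hy := y.isLt
  have e3 := h3 ⟨27 * ((x : ℕ) / 27) + (y : ℕ) % 27, by omega⟩
  have e1 := h1 ⟨27 * ((x : ℕ) % 27) + entN actTab (27 * ((x : ℕ) / 27) + (y : ℕ) % 27), by
    simp only at e3; omega⟩
  simp only at e1
  show (27 * entN wMulTab (24 * ((x : ℕ) / 27) + (y : ℕ) / 27) +
    entN vAddTab (27 * ((x : ℕ) % 27) + entN actTab (27 * ((x : ℕ) / 27) + (y : ℕ) % 27))) / 27 = _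
  omega

theorem blk_mul : ∀ w w' : Fin 24,
    blk (entN wMulTab (24 * (w : ℕ) + w')) = blk w * blk w' := by decide +kernel

theorem blk_one : ∀ w : Fin 24, (blk w = 1 ↔ (w : ℕ) < 4) := by decide +kernel

namespace E9

/-- The action on the blocks. -/
def π : E9 →* Perm (Fin 3) := MonoidHom.mk' (fun x => blk ((x.c : ℕ) / 27)) fun x y => by
  have hc : (((x * y : E9)).c : ℕ) / 27 = entN wMulTab (24 * ((x.c : ℕ) / 27) + (y.c : ℕ) / 27) := by
    rw [code_mul]; exact div_mulC x.c y.c
  show blk (((x * y : E9)).c / 27 : ℕ) = _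
  rw [hc]
  exact blk_mul ⟨(x.c : ℕ) / 27, by omega⟩ ⟨(y.c : ℕ) / 27, by omega⟩

theorem π_eq_one {x : E9} : π x = 1 ↔ (x.c : ℕ) < 108 :=
  (blk_one ⟨(x.c : ℕ) / 27, by omega⟩).trans (by show (x.c : ℕ) / 27 < 4 ↔ _; omega)

end E9

/-- Restriction of an element of the kernel to the blocks. -/
def resC (x : ℕ) : CfsgLib.ThreeCubedTI.P3 := fun i =>
  (swap 0 1 * swap 1 2) ^ ([x % 3, x / 3 % 3, x % 27 / 9].getD i 0) *
    if [[false, false, false], [false, true, true], [true, false, true], [true, true, false]].getD (x / 27) [] |>.getD i false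
    then swap 1 2 else 1

theorem resC_mul : ∀ x y : Fin 108, resC (mulC x y) = resC x * resC y := by decide +kernel

theorem resC_facts : (∀ x : Fin 108, ThreeCubedTI.Ev (resC x) ∧
      (ThreeCubedTI.Rot (resC x) ↔ (x : ℕ) < 27) ∧ (resC x = 1 → (x : ℕ) = 0) ∧ mulC x x < 108) ∧
    ∀ f : CfsgLib.ThreeCubedTI.P3, ThreeCubedTI.Ev f → ∃ x : Fin 108, resC x = f := by
  decide +kernel

end CfsgLib.AltNineThree
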