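import Cfsg.Agent.Lib.AltNineThree.CharTab

/-!
Six generalized characters of the model that vanish at the first five classes, their inner
products, and the numbers of pairs of involutions with a given product.
-/

set_option autoImplicit false
set_option linter.unusedSectionVars false
set_option maxRecDepth 20000

namespace CfsgLib.AltNineThree

open Cfsg CfsgLib.Char E9
open scoped ComplexConjugate

/-- The value at a class. -/
noncomputable def tabVal (A B : List ℤ) (k : ℕ) : ℂ :=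
  (A.getD k 0 : ℂ) + (B.getD k 0 : ℂ) * Real.sqrt 3

theorem tabFun_eq (A B : List ℤ) (x : E9) : tabFun A B x = tabVal A B (clsC x.c) := rfl

theorem size_facts : (List.range 14).all (fun k =>
    Nat.beq (((List.range 648).filter fun x => Nat.beq (clsC x) k).length) (sizeL.getD k 0)) = true := by
  decide +kernel

theorem sum_cls (F : ℕ → ℂ) :
    ∑ x : E9, F (clsC x.c) = ∑ k ∈ Finset.range 14, (sizeL.getD k 0 : ℂ) * F k := by
  classical
  rw [← Finset.sum_fiberwise_of_maps_to (t := Finset.range 14) (g := fun x : E9 => clsC x.c)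
    (fun x _ => Finset.mem_range.mpr (exists_conj_rep x).1)]
  refine Finset.sum_congr rfl fun k hk => ?_
  rw [Finset.sum_congr rfl fun x hx => by rw [(Finset.mem_filter.mp hx).2], Finset.sum_const,
    nsmul_eq_mul]
  congr 2
  rw [← Nat.eq_of_beq_eq_true (List.all_eq_true.mp size_facts k (List.mem_range.mpr (Finset.mem_range.mp hk))),
    ← List.toFinset_card_of_nodup (List.nodup_range.filter _),
    ← Finset.card_map ⟨fun x : E9 => (x.c : ℕ), fun x y => code_inj⟩]
  refine congrArg Finset.card ?_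
  ext n
  simp only [Finset.mem_map, Finset.mem_filter, Finset.mem_univ, true_and, List.mem_toFinset,
    List.mem_filter, List.mem_range, Nat.beq_eq, Function.Embedding.coeFn_mk]
  exact ⟨fun ⟨x, hx, e⟩ => e ▸ ⟨x.c.isLt, hx⟩,
    fun ⟨hn, e⟩ => ⟨mk' n, by rw [code_mk hn]; exact e, code_mk hn⟩⟩

/-- The weighted sum of a coordinate product. -/
def wsum (P : ℕ → ℤ) : ℤ := ((List.range 14).map fun k => (sizeL.getD k 0 : ℤ) * P k).sum

theorem wsum_eq (P : ℕ → ℤ) :
    (wsum P : ℂ) = ∑ k ∈ Finset.range 14, (sizeL.getD k 0 : ℂ) * (P k : ℂ) := by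
  rw [wsum, ← List.sum_toFinset _ List.nodup_range, List.toFinset_range]
  push_cast
  rfl

/-- The rational part of the inner product, times 648. -/
def gramR (A B A' B' : List ℤ) : ℤ :=
  wsum fun k => A.getD k 0 * A'.getD k 0 + 3 * (B.getD k 0 * B'.getD k 0)

/-- The irrational part of the inner product, times 648. -/
def gramI (A B A' B' : List ℤ) : ℤ :=
  wsum fun k => A.getD k 0 * B'.getD k 0 + B.getD k 0 * A'.getD k 0

theorem inner_tab {A B A' B' : List ℤ} {q : ℤ}
    (h : gramR A B A' B' = 648 * q ∧ gramI A B A' B' = 0) :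
    classInner (tabFun A B) (tabFun A' B') = q := by
  classical
  have hterm : ∀ k, tabVal A B k * conj (tabVal A' B' k) =
      ((A.getD k 0 * A'.getD k 0 + 3 * (B.getD k 0 * B'.getD k 0) : ℤ) : ℂ) +
        ((A.getD k 0 * B'.getD k 0 + B.getD k 0 * A'.getD k 0 : ℤ) : ℂ) * Real.sqrt 3 := by
    intro k
    simp only [tabVal, map_add, map_mul, map_intCast, Complex.conj_ofReal]
    push_cast
    linear_combination (B.getD k 0 : ℂ) * (B'.getD k 0 : ℂ) * sqrt3_sq
  have e : ∑ x : E9, tabFun A B x * conj (tabFun A' B' x) =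
      ((gramR A B A' B' : ℤ) : ℂ) + ((gramI A B A' B' : ℤ) : ℂ) * Real.sqrt 3 := by
    simp only [tabFun_eq, hterm]
    rw [sum_cls (fun k => ((A.getD k 0 * A'.getD k 0 + 3 * (B.getD k 0 * B'.getD k 0) : ℤ) : ℂ) +
      ((A.getD k 0 * B'.getD k 0 + B.getD k 0 * A'.getD k 0 : ℤ) : ℂ) * Real.sqrt 3),
      gramR, gramI, wsum_eq, wsum_eq, Finset.sum_mul, ← Finset.sum_add_distrib]
    exact Finset.sum_congr rfl fun k _ => by ring
  rw [classInner, e, h.1, h.2, E9.card_eq]
  push_cast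
  ring

/-- The coordinate lists. -/
def oneL : List ℤ := [1, 1, 1, 1, 1, 1, 1, 1, 1, 1, 1, 1, 1, 1]
/-- The sign character. -/
def sgnL : List ℤ := [1, 1, -1, -1, 1, 1, 1, -1, -1, -1, 1, 1, 1, 1]
/-- Rational part of the first vector. -/
def a8 : List ℤ := []
/-- Irrational part of the first vector. -/
def b8 : List ℤ := [0, 0, 0, 0, 0, 0, 0, 0, -2, 2, 0, 0, 0, 0]
/-- Irrational part of the second and third vectors. -/
def b3 : List ℤ := [0, 0, 0, 0, 0, 0, 0, 0, 1, -1, 0, 0, 0, 0]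
/-- Rational part of the second vector. -/
def a3 : List ℤ := [0, 0, 0, 0, 0, 3, -3, 0, 0, 0, 0, 0, 6, 9]
/-- Rational part of the third vector. -/
def a6 : List ℤ := [0, 0, 0, 0, 0, 9, 3, 0, 0, 0, 0, -3, 0, 0]
/-- The fourth vector. -/
def a4 : List ℤ := [0, 0, 0, 0, 0, 9, -3, 0, -3, -3, 0, -3, 0, 0]
/-- The fifth vector. -/
def a0 : List ℤ := [0, 0, 0, 0, 0, 0, 0, -3, 0, 0, 0, -3, -9, 0]
/-- The sixth vector. -/
def a21 : List ℤ := [0, 0, 0, 0, 0, 0, 0, 0, 0, 0, 3, -3, 0, 0]

theorem tab_one : tabFun oneL [] = fun _ => (1 : ℂ) := by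
  funext x
  obtain ⟨hk, -⟩ := exists_conj_rep x
  rw [tabFun_eq]
  generalize clsC (x.c : ℕ) = k at hk
  interval_cases k <;> simp [tabVal, oneL]

theorem gen_of_eq {φ : E9 → ℂ} (hφ : IsGeneralizedCharacter E9 φ) {A B : List ℤ} (F : ℕ → ℂ)
    (hF : ∀ x : E9, φ x = F (clsC x.c)) (h : ∀ k, k < 14 → F k = tabVal A B k) :
    IsGeneralizedCharacter E9 (tabFun A B) := by
  have e : φ = tabFun A B := funext fun x => by rw [hF, h _ (exists_conj_rep x).1, tabFun_eq]
  exact e ▸ hφ

theorem gen8 : IsGeneralizedCharacter E9 (tabFun a8 b8) := by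
  refine gen_of_eq (isGeneralized_sub (isGeneralized_of_isCharacter char_m1)
    (isGeneralized_of_isCharacter char_m3))
    (fun k => tabVal [6, -2, 0, 0, 0, 3, 1, 0, 0, 0, 0, 0, 0, -3]
      [0, 0, 0, 0, 0, 0, 0, 0, -1, 1, 0, 0, 0, 0] k -
      tabVal [6, -2, 0, 0, 0, 3, 1, 0, 0, 0, 0, 0, 0, -3]
        [0, 0, 0, 0, 0, 0, 0, 0, 1, -1, 0, 0, 0, 0] k) (fun x => rfl) fun k hk => ?_
  interval_cases k <;> simp [tabVal, a8, b8] <;> ring

theorem gen3 : IsGeneralizedCharacter E9 (tabFun a3 b3) := by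
  refine gen_of_eq (isGeneralized_sub (isGeneralized_sub (isGeneralized_sub
    (isGeneralized_add (isGeneralized_of_isCharacter char_q4) (isGeneralized_of_isCharacter char_q4s))
    (isGeneralized_of_isCharacter char_m1)) (isGeneralized_of_isCharacter char_sgn))
    (isGeneralized_one (G := E9)))
    (fun k => tabVal [4, 0, 0, 2, 1, 4, 0, 2, 0, 0, 1, 1, 4, 4] [] k +
      tabVal [4, 0, 0, -2, 1, 4, 0, -2, 0, 0, 1, 1, 4, 4] [] k -
      tabVal [6, -2, 0, 0, 0, 3, 1, 0, 0, 0, 0, 0, 0, -3]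
        [0, 0, 0, 0, 0, 0, 0, 0, -1, 1, 0, 0, 0, 0] k -
      tabVal [1, 1, -1, -1, 1, 1, 1, -1, -1, -1, 1, 1, 1, 1] [] k - 1) (fun x => rfl) fun k hk => ?_
  interval_cases k <;> simp [tabVal, a3, b3] <;> ring

theorem gen6 : IsGeneralizedCharacter E9 (tabFun a6 b3) := by
  refine gen_of_eq (isGeneralized_sub (isGeneralized_add (isGeneralized_sub
    (isGeneralized_of_isCharacter char_m3) (isGeneralized_of_isCharacter char_m7))
    (isGeneralized_of_isCharacter char_q3)) (isGeneralized_one (G := E9)))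
    (fun k => tabVal [6, -2, 0, 0, 0, 3, 1, 0, 0, 0, 0, 0, 0, -3]
        [0, 0, 0, 0, 0, 0, 0, 0, 1, -1, 0, 0, 0, 0] k -
      tabVal [8, 0, 0, 0, -1, -4, 0, 0, 0, 0, -1, 2, 2, -1] [] k +
      tabVal [3, 3, 1, 1, 0, 3, 3, 1, 1, 1, 0, 0, 3, 3] [] k - 1) (fun x => rfl) fun k hk => ?_
  interval_cases k <;> simp [tabVal, a6, b3] <;> ring

theorem gen4 : IsGeneralizedCharacter E9 (tabFun a4 []) := by
  refine gen_of_eq (isGeneralized_sub (isGeneralized_sub (isGeneralized_add (isGeneralized_sub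
    (isGeneralized_of_isCharacter char_m0) (isGeneralized_of_isCharacter char_m7))
    (isGeneralized_of_isCharacter char_q4)) (isGeneralized_one (G := E9)))
    (isGeneralized_one (G := E9)))
    (fun k => tabVal [6, 2, 2, 0, 0, 3, -1, 0, -1, -1, 0, 0, 0, -3] [] k -
      tabVal [8, 0, 0, 0, -1, -4, 0, 0, 0, 0, -1, 2, 2, -1] [] k +
      tabVal [4, 0, 0, 2, 1, 4, 0, 2, 0, 0, 1, 1, 4, 4] [] k - 1 - 1) (fun x => rfl) fun k hk => ?_
  interval_cases k <;> simp [tabVal, a4] <;> ring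

theorem gen0 : IsGeneralizedCharacter E9 (tabFun a0 []) := by
  refine gen_of_eq (isGeneralized_sub (isGeneralized_sub (isGeneralized_of_isCharacter char_m4)
    (isGeneralized_of_isCharacter char_m7)) (isGeneralized_of_isCharacter char_q4))
    (fun k => tabVal [12, 0, 0, 2, 0, 0, 0, -1, 0, 0, 0, 0, -3, 3] [] k -
      tabVal [8, 0, 0, 0, -1, -4, 0, 0, 0, 0, -1, 2, 2, -1] [] k -
      tabVal [4, 0, 0, 2, 1, 4, 0, 2, 0, 0, 1, 1, 4, 4] [] k) (fun x => rfl) fun k hk => ?_
  interval_cases k <;> simp [tabVal, a0] <;> ring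

theorem gen21 : IsGeneralizedCharacter E9 (tabFun a21 []) := by
  refine gen_of_eq (isGeneralized_sub (isGeneralized_of_isCharacter char_m8)
    (isGeneralized_of_isCharacter char_m7))
    (fun k => tabVal [8, 0, 0, 0, -1, -4, 0, 0, 0, 0, 2, -1, 2, -1] [] k -
      tabVal [8, 0, 0, 0, -1, -4, 0, 0, 0, 0, -1, 2, 2, -1] [] k) (fun x => rfl) fun k hk => ?_
  interval_cases k <;> simp [tabVal, a21] <;> ring

/-- The vector vanishes at the first five classes. -/
def zLow (A B : List ℤ) : Bool := (List.range 5).all fun k => A.getD k 0 == 0 && B.getD k 0 == 0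

theorem zLow_facts : zLow a8 b8 = true ∧ zLow a3 b3 = true ∧ zLow a6 b3 = true ∧
    zLow a4 [] = true ∧ zLow a0 [] = true ∧ zLow a21 [] = true := by decide +kernel

theorem tabFun_low {A B : List ℤ} (h : zLow A B = true) {x : E9} (hx : clsC (x.c : ℕ) < 5) :
    tabFun A B x = 0 := by
  have h' := List.all_eq_true.mp h _ (List.mem_range.mpr hx)
  simp only [Bool.and_eq_true, beq_iff_eq] at h'
  rw [tabFun_eq, tabVal, h'.1, h'.2]
  simp

/-- The number of factorizations of a code into elements of two given classes. -/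
def cntC (ka kb r : ℕ) : ℕ :=
  ((List.range 648).filter fun x => Nat.beq (clsC x) ka && Nat.beq (clsC (mulC (invC x) r)) kb).length

/-- Pairs of two involutions of the first kind. -/
def nUU : List ℕ := [27, 6, 0, 0, 0, 18, 6, 0, 0, 0, 0, 0, 9, 0]
/-- Pairs of two involutions of the second kind. -/
def nSS : List ℕ := [54, 6, 0, 0, 9, 18, 6, 0, 0, 0, 9, 9, 9, 27]
/-- Mixed pairs. -/
def nUS : List ℕ := [0, 0, 6, 3, 0, 0, 0, 3, 6, 6, 0, 0, 0, 0]

theorem cnt_facts : ∀ k, k < 14 → 5 ≤ k →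
    cntC 1 1 (repC k) = nUU.getD k 0 ∧ cntC 3 3 (repC k) = nSS.getD k 0 ∧
      cntC 1 3 (repC k) = nUS.getD k 0 := by
  intro k hk h5
  interval_cases k <;> decide +kernel

/-- The weighted sum against pair numbers, times 648. -/
def pairR (N : List ℕ) (A : List ℤ) : ℤ := wsum fun k => (N.getD k 0 : ℤ) * A.getD k 0

end CfsgLib.AltNineThree
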