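import Cfsg.Agent.Lib.AltNineThree.CharTab

/-!
A character of the model that is nontrivial on the translations has degree at least six.
-/

set_option autoImplicit false
set_option linter.unusedSectionVars false
set_option maxRecDepth 20000

namespace CfsgLib.AltNineThree

open Cfsg CfsgLib.Char E9
open scoped ComplexConjugate

/-- The pairing of translation codes. -/
def dotC (l v : ℕ) : ℕ :=
  Nat.mod (Nat.mod l 3 * Nat.mod v 3 + Nat.mod (Nat.div l 3) 3 * Nat.mod (Nat.div v 3) 3 +
    Nat.div l 9 * Nat.div v 9) 3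

/-- The weight composed with conjugation by a complement element. -/
def twistC (l w : ℕ) : ℕ :=
  dotC l (conjC (27 * w) 1) + 3 * dotC l (conjC (27 * w) 3) + 9 * dotC l (conjC (27 * w) 9)

theorem dot_facts :
    (allJ fun l => allJ fun a => allJ fun b =>
      Nat.beq (dotC l (mulC a b)) (Nat.mod (dotC l a + dotC l b) 3)) = true ∧
    (allJ fun v => impB (!Nat.beq v 0) ((List.range 3).all fun k =>
      Nat.beq (((List.range 27).filter fun l => Nat.beq (dotC l v) k).length) 9)) = true ∧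
    (allJ fun l => allJ fun v => impB (Nat.beq v 0) (Nat.beq (dotC l v) 0)) = true ∧
    (allJ fun v => Nat.beq (dotC 0 v) 0) = true := by
  refine ⟨?_, ?_, ?_, ?_⟩ <;> decide +kernel

theorem twist_facts :
    (allJ fun l => (List.range 24).all fun w => Nat.blt (twistC l w) 27 &&
      allJ fun v => Nat.beq (dotC (twistC l w) v) (dotC l (conjC (27 * w) v))) = true ∧
    (allJ fun l => impB (!Nat.beq l 0) ((List.range 24).all fun w => !Nat.beq (twistC l w) 0) &&
      impB (!Nat.beq l 0) (Nat.ble 6 ((List.range 24).map (twistC l)).dedup.length)) = true := by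
  constructor <;> decide +kernel

theorem sum_omega : ∀ v : E9, v ∈ JE → v ≠ 1 →
    ∑ l : Fin 27, zeta ^ (4 * dotC (l : ℕ) v.c) = 0 := by
  classical
  intro v hv hv1
  have h := impB_elim (allJ_spec dot_facts.2.1 hv) (by
    rw [Bool.not_eq_true', ← Bool.not_eq_true, Nat.beq_eq]
    exact fun e => hv1 (code_inj e))
  have hcount : ∀ k, k < 3 →
      (Finset.univ.filter fun l : Fin 27 => dotC (l : ℕ) v.c = k).card = 9 := by
    intro k hk
    have h' := Nat.eq_of_beq_eq_true (List.all_eq_true.mp h k (List.mem_range.mpr hk))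
    rw [← Finset.card_map Fin.valEmbedding, ← h',
      ← List.toFinset_card_of_nodup (List.nodup_range.filter _)]
    congr 1
    ext n
    simp only [Finset.mem_map, Finset.mem_filter, Finset.mem_univ, true_and, List.mem_toFinset,
      List.mem_filter, List.mem_range, Nat.beq_eq, Fin.valEmbedding_apply]
    exact ⟨fun ⟨l, hl, e⟩ => e ▸ ⟨l.isLt, hl⟩, fun ⟨hn, e⟩ => ⟨⟨n, hn⟩, e, rfl⟩⟩
  rw [← Finset.sum_fiberwise_of_maps_to (t := Finset.range 3) (g := fun l : Fin 27 => dotC (l : ℕ) v.c)
    (fun l _ => Finset.mem_range.mpr (Nat.mod_lt _ (by norm_num)))]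
  have : ∀ k ∈ Finset.range 3, (∑ l ∈ Finset.univ.filter (fun l : Fin 27 => dotC (l : ℕ) v.c = k),
      zeta ^ (4 * dotC (l : ℕ) v.c)) = 9 * zeta ^ (4 * k) := by
    intro k hk
    rw [Finset.sum_congr rfl fun l hl => by rw [(Finset.mem_filter.mp hl).2], Finset.sum_const,
      hcount k (Finset.mem_range.mp hk), nsmul_eq_mul]
    norm_num
  rw [Finset.sum_congr rfl this, Finset.sum_range_succ, Finset.sum_range_succ, Finset.sum_range_one]
  have h4 := zeta_pow 4 (by norm_num)
  have h8 := zeta_pow 8 (by norm_num)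
  simp only [zA, zB, zC, zD, List.getD_cons_zero, List.getD_cons_succ] at h4 h8
  push_cast at h4 h8
  linear_combination (9 / 2 : ℂ) * h4 + (9 / 2 : ℂ) * h8

/-- A character nontrivial on the translations has degree at least six. -/
theorem six_le_degree {χ : E9 → ℂ} (hχ : IsCharacter E9 χ) {d : ℕ} (hd : χ 1 = d)
    (hne : ∃ v ∈ JE, χ v ≠ χ 1) : 6 ≤ d := by
  classical
  haveI : Fintype JE := Fintype.ofFinite _
  obtain ⟨hlin, -, hz, h0⟩ := dot_facts
  let lam : Fin 27 → (JE →* ℂˣ) := fun l => MonoidHom.toHomUnits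
    { toFun := fun x : JE => zeta ^ (4 * dotC (l : ℕ) ((x : E9).c : ℕ))
      map_one' := by
        have := Nat.eq_of_beq_eq_true (impB_elim (allJ_spec (allJ_spec hz
          (show jC (l : ℕ) = true from Nat.ble_eq_true_of_le l.isLt)) (show jC 0 = true from rfl))
          (show Nat.beq 0 0 = true from rfl))
        show zeta ^ (4 * dotC (l : ℕ) 0) = 1
        rw [this, mul_zero, pow_zero]
      map_mul' := fun x y => by
        show zeta ^ (4 * dotC (l : ℕ) ((((x : E9) * y)).c : ℕ)) = _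
        rw [code_mul, Nat.eq_of_beq_eq_true (allJ_spec (allJ_spec (allJ_spec hlin
          (show jC (l : ℕ) = true from Nat.ble_eq_true_of_le l.isLt)) x.2) y.2), ← pow_add,
          ← mul_add, ← zeta_mod, ← zeta_mod (4 * (_ + _))]
        congr 1
        show 4 * ((dotC (l : ℕ) _ + dotC (l : ℕ) _) % 3) % 12 = _
        omega }
  have hlam : ∀ (l : Fin 27) (x : JE),
      ((lam l x : ℂˣ) : ℂ) = zeta ^ (4 * dotC (l : ℕ) ((x : E9).c : ℕ)) := fun l x => rfl
  let f : JE → ℂ := fun x => χ x
  have hf : IsCharacter JE f := isCharacter_restrict JE hχ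
  have hm : ∀ l, ∃ n : ℕ, classInner f (fun x => ((lam l x : ℂˣ) : ℂ)) = n :=
    fun l => exists_nat_classInner hf (isCharacter_monoidHom (lam l))
  choose m hm using hm
  have hc : (Fintype.card JE : ℂ) = 27 := by
    rw [← Nat.card_eq_fintype_card, card_JE]; norm_num
  have hexp : ∀ v : JE, f v = ∑ l : Fin 27, (m l : ℂ) * ((lam l v : ℂˣ) : ℂ) := by
    intro v
    simp only [← hm, classInner, Finset.mul_sum, Finset.sum_mul, Nat.card_eq_fintype_card, hc]
    rw [Finset.sum_comm]
    have hsum : ∀ x : JE, ∑ l : Fin 27,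
        (27 : ℂ)⁻¹ * (f x * conj ((lam l x : ℂˣ) : ℂ)) * ((lam l v : ℂˣ) : ℂ) =
        (27 : ℂ)⁻¹ * f x * ∑ l : Fin 27, zeta ^ (4 * dotC (l : ℕ) ((((v * x⁻¹ : JE)) : E9).c : ℕ)) := by
      intro x
      rw [Finset.mul_sum]
      refine Finset.sum_congr rfl fun l _ => ?_
      rw [← hlam, map_mul, map_inv, Units.val_mul, Units.val_inv_eq_inv_val]
      have hn : ‖((lam l x : ℂˣ) : ℂ)‖ = 1 := Complex.norm_eq_one_of_pow_eq_one
        (n := 3) (by
          rw [← Units.val_pow_eq_pow_val, ← map_pow,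
            show x ^ 3 = 1 from Subtype.ext (JE_cube x.2), map_one, Units.val_one]) (by norm_num)
      rw [← Complex.inv_eq_conj hn]
      ring
    simp only [hsum]
    rw [Finset.sum_eq_single v]
    · have : ∀ l : Fin 27, zeta ^ (4 * dotC (l : ℕ) ((((v * v⁻¹ : JE)) : E9).c : ℕ)) = 1 := by
        intro l
        rw [mul_inv_cancel, ← hlam, map_one, Units.val_one]
      simp only [this, Finset.sum_const, Finset.card_univ, Fintype.card_fin, nsmul_eq_mul, mul_one]
      push_cast
      ring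
    · intro x _ hx
      rw [sum_omega _ (v * x⁻¹).2 fun e => hx (mul_inv_eq_one.mp (Subtype.ext e)).symm, mul_zero]
    · simp
  have hd' : d = ∑ l, m l := by
    have := hexp 1
    simp only [map_one, Units.val_one, mul_one] at this
    rw [show f 1 = χ 1 from rfl, hd] at this
    exact_mod_cast this
  obtain ⟨l0, hl0, hl⟩ : ∃ l : Fin 27, (l : ℕ) ≠ 0 ∧ m l ≠ 0 := by
    by_contra hn
    push Not at hn
    obtain ⟨v, hv, hne⟩ := hne
    refine hne ?_
    have hz' : ∀ l : Fin 27, (l : ℕ) ≠ 0 → m l = 0 := hn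
    rw [show χ v = f ⟨v, hv⟩ from rfl, hexp, hd, hd', Nat.cast_sum]
    refine Finset.sum_congr rfl fun l _ => ?_
    by_cases h : (l : ℕ) = 0
    · rw [hlam, h, Nat.eq_of_beq_eq_true (allJ_spec h0 hv), mul_zero, pow_zero, mul_one]
    · rw [hz' l h, Nat.cast_zero, zero_mul]
  obtain ⟨htw, hdist⟩ := twist_facts
  have hl0J : jC (l0 : ℕ) = true := Nat.ble_eq_true_of_le l0.isLt
  have hlt : ∀ w, w < 24 → twistC (l0 : ℕ) w < 27 := fun w hw => by
    have := List.all_eq_true.mp (allJ_spec htw hl0J) w (List.mem_range.mpr hw)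
    rw [Bool.and_eq_true] at this
    exact Nat.le_of_ble_eq_true this.1
  have hinv : ∀ w (hw : w < 24), m ⟨twistC (l0 : ℕ) w, hlt w hw⟩ = m l0 := by
    intro w hw
    have h := List.all_eq_true.mp (allJ_spec htw hl0J) w (List.mem_range.mpr hw)
    rw [Bool.and_eq_true] at h
    set k : E9 := mk' (27 * w) with hk
    have hcj : allJ (fun v => allC fun x => jC (conjC x v)) = true := by decide +kernel
    have hmemJ : ∀ (g : E9) (x : JE), g * x * g⁻¹ ∈ JE := fun g x => by
      show jC ((g * x * g⁻¹).c : ℕ) = true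
      rw [code_conj]; exact all_spec (allJ_spec hcj x.2) g
    let σ : JE ≃ JE :=
      { toFun := fun x => ⟨k * x * k⁻¹, hmemJ k x⟩
        invFun := fun x => ⟨k⁻¹ * x * k⁻¹⁻¹, hmemJ k⁻¹ x⟩
        left_inv := fun x => Subtype.ext (by simp [mul_assoc])
        right_inv := fun x => Subtype.ext (by simp [mul_assoc]) }
    have key : classInner f (fun x => ((lam ⟨twistC (l0 : ℕ) w, hlt w hw⟩ x : ℂˣ) : ℂ)) =
        classInner f (fun x => ((lam l0 x : ℂˣ) : ℂ)) := by
      simp only [classInner]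
      congr 1
      refine Fintype.sum_equiv σ _ _ fun x => ?_
      rw [show f (σ x) = f x from isClassFunction_of_isCharacter hχ _ _, hlam, hlam]
      rw [show ((σ x : JE) : E9) = k * x * k⁻¹ from rfl, code_conj, hk, code_mk (by omega),
        Nat.eq_of_beq_eq_true (allJ_spec h.2 (x := ((x : E9).c : ℕ)) (mem_JE.mp x.2))]
    rw [hm, hm] at key
    exact_mod_cast key
  have h6 : 6 ≤ ((List.range 24).map (twistC (l0 : ℕ))).dedup.length := by
    have h := allJ_spec hdist hl0J
    rw [Bool.and_eq_true] at h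
    refine Nat.le_of_ble_eq_true (impB_elim h.2 ?_)
    rw [Bool.not_eq_true', ← Bool.not_eq_true, Nat.beq_eq]
    exact hl0
  set s : Finset (Fin 27) := (Finset.univ : Finset (Fin 24)).image
    fun w : Fin 24 => (⟨twistC (l0 : ℕ) w, hlt w w.isLt⟩ : Fin 27) with hs
  have hs6 : 6 ≤ s.card := by
    refine h6.trans (le_of_eq ?_)
    rw [← List.card_toFinset, hs, ← Finset.card_map Fin.valEmbedding]
    refine congrArg Finset.card ?_
    ext n
    simp only [List.mem_toFinset, List.mem_map, List.mem_range, Finset.mem_map, Finset.mem_image,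
      Finset.mem_univ, true_and, Fin.valEmbedding_apply]
    exact ⟨fun ⟨w, hw, e⟩ => ⟨_, ⟨⟨w, hw⟩, rfl⟩, e⟩,
      fun ⟨_, ⟨w, rfl⟩, e⟩ => ⟨w, w.isLt, e⟩⟩
  rw [hd']
  refine le_trans ?_ (Finset.sum_le_univ_sum_of_nonneg (s := s) fun l => Nat.zero_le _)
  have hsc : ∀ l ∈ s, m l = m l0 := fun l hl' => by
    obtain ⟨w, -, rfl⟩ := Finset.mem_image.mp hl'
    exact hinv w w.isLt
  rw [Finset.sum_congr rfl hsc, Finset.sum_const, smul_eq_mul]
  exact hs6.trans (Nat.le_mul_of_pos_right _ (Nat.pos_of_ne_zero hl))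

end CfsgLib.AltNineThree
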