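import Mathlib
import Cfsg.Agent.Lib.Char.TI
import Cfsg.Agent.Lib.Char.Counting
import Cfsg.Agent.Lib.Char.Kernel
import Cfsg.Agent.Lib.NineTI.Isolated

/-!
A virtual character of norm three on a TI set, whose support contains no product of two
conjugates of `a`: some normal subgroup contains `a` and avoids a given element of the support.
-/

set_option autoImplicit false

namespace CfsgLib.AltNineThree

open Cfsg CfsgLib.Char
open scoped ComplexConjugate

variable {G : Type*} [Group G] [Finite G]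

theorem exists_normal_avoid (N : Subgroup G) [Fintype N] (S : Set G)
    (hTI : ∀ g : G, g ∉ N → ∀ t ∈ S, g * t * g⁻¹ ∈ S → t = 1) (f : N → ℂ)
    (hgen : IsGeneralizedCharacter N f) (hsupp : ∀ n : N, (n : G) ∉ S → f n = 0) (h1 : f 1 = 0)
    (hnorm : classInner f f = 3) (hone : classInner f (fun _ => (1 : ℂ)) = 1)
    (a : G) (ha : ∀ g : G, g * a * g⁻¹ ∉ S)
    (hno : ∀ n : N, f n ≠ 0 → ∀ u v : G, IsConj a u → IsConj a v → u * v ≠ n)
    (t : N) (ht : (t : G) ∈ S) (ht1 : t ≠ 1) (hft : f t ≠ 0) :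
    ∃ K : Subgroup G, K.Normal ∧ a ∈ K ∧ (t : G) ∉ K := by
  classical
  haveI : Fintype G := Fintype.ofFinite G
  haveI : Finite (IrrCharacter G) := finite_irrCharacter
  have hcl : IsClassFunction N f := isClassFunction_of_isGeneralized hgen
  obtain ⟨c, hc⟩ := isGeneralized_iff.mp (isGeneralized_indFun N hgen)
  have hcoef : ∀ χ : IrrCharacter G, classInner (indFun N f) (χ : G → ℂ) = (c χ : ℂ) := fun χ => by
    rw [hc, classInner_sum_smul_irr]
  have hrec : ∀ χ : IrrCharacter G, (c χ : ℂ) = classInner f (fun n : N => (χ : G → ℂ) n) :=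
    fun χ => by rw [← hcoef, frobenius_reciprocity N f (isClassFunction_irr χ)]
  have hsq : ∑ χ : IrrCharacter G, c χ ^ 2 = 3 := by
    have e := classInner_indFun_of_ti N S hTI f f hcl hsupp hsupp h1
    rw [hnorm, hc, sum_sq_coeff] at e
    exact_mod_cast e
  choose d hd0 hd using fun χ : IrrCharacter G => exists_nat_degree_irr χ.2
  have hd0' : ∀ χ, d χ ≠ 0 := fun χ e => irr_degree_ne_zero χ.2 (by rw [hd, e, Nat.cast_zero])
  let one : IrrCharacter G := ⟨fun _ => 1, isIrrCharacter_one⟩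
  have hc1 : c one = 1 := by
    have := hrec one
    rw [show (fun n : N => (one : G → ℂ) n) = (fun _ => (1 : ℂ)) from rfl, hone] at this
    exact_mod_cast this
  have e1 : ∑ χ : IrrCharacter G, (c χ : ℂ) * (d χ : ℂ) = 0 := by
    have e := congrFun hc 1
    rw [indFun_one, h1, mul_zero, Finset.sum_apply] at e
    exact (Finset.sum_congr rfl fun χ _ => by rw [Pi.smul_apply, smul_eq_mul, hd]).trans e.symm
  have e2 : ∑ χ : IrrCharacter G, (c χ : ℂ) * (χ : G → ℂ) a = 0 := by
    have hz : indFun N f a = 0 := by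
      simp only [indFun]
      rw [Finset.sum_eq_zero fun x _ => ?_, mul_zero]
      by_cases hx : x⁻¹ * a * x ∈ N
      · rw [extendByZero_mem N f hx]
        exact hsupp _ (by simpa using ha x⁻¹)
      · exact extendByZero_notMem N f hx
    have e := congrFun hc a
    rw [hz, Finset.sum_apply] at e
    exact e.symm.trans rfl
  have e3 : ∑ χ : IrrCharacter G, (c χ : ℂ) * ((χ : G → ℂ) a ^ 2 / (d χ : ℂ)) = 0 := by
    have hz : ∀ n : N, f n * ∑ χ : IrrCharacter G,
        (χ : G → ℂ) a * (χ : G → ℂ) a * conj ((χ : G → ℂ) n) / (χ : G → ℂ) 1 = 0 := by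
      intro n
      by_cases hn : f n = 0
      · rw [hn, zero_mul]
      have hm := class_mult a a (n : G)
      haveI : IsEmpty {p : G × G // IsConj a p.1 ∧ IsConj a p.2 ∧ p.1 * p.2 = (n : G)} :=
        ⟨fun p => hno n hn _ _ p.2.1 p.2.2.1 p.2.2.2⟩
      rw [Nat.card_of_isEmpty, Nat.cast_zero] at hm
      rcases mul_eq_zero.mp hm.symm with h | h
      · exfalso
        rcases div_eq_zero_iff.mp h with h | h
        · rcases mul_eq_zero.mp h with h | h <;>
            exact Subgroup.index_ne_zero_of_finite (Nat.cast_eq_zero.mp h)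
        · exact Nat.card_pos.ne' (Nat.cast_eq_zero.mp h)
      · rw [h, mul_zero]
    calc ∑ χ : IrrCharacter G, (c χ : ℂ) * ((χ : G → ℂ) a ^ 2 / (d χ : ℂ))
        = (Nat.card N : ℂ)⁻¹ * ∑ n : N, f n * ∑ χ : IrrCharacter G,
          (χ : G → ℂ) a * (χ : G → ℂ) a * conj ((χ : G → ℂ) n) / (χ : G → ℂ) 1 := by
          simp only [hrec, classInner, Finset.mul_sum, Finset.sum_mul]
          rw [Finset.sum_comm]
          refine Finset.sum_congr rfl fun n _ => Finset.sum_congr rfl fun χ _ => ?_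
          rw [hd]; ring
      _ = 0 := by rw [Finset.sum_eq_zero fun n _ => hz n, mul_zero]
  let T := (Finset.univ : Finset (IrrCharacter G)).filter fun χ => c χ ≠ 0
  have hle : ∀ χ ∈ T, c χ ^ 2 = 1 := by
    intro χ hχ
    have h := (Finset.single_le_sum (f := fun x => c x ^ 2) (fun _ _ => sq_nonneg _)
      (Finset.mem_univ χ)).trans_eq hsq
    have hne := (Finset.mem_filter.mp hχ).2
    have : -1 ≤ c χ ∧ c χ ≤ 1 := ⟨by nlinarith, by nlinarith⟩
    rcases (by omega : c χ = 1 ∨ c χ = -1) with e | e <;> rw [e] <;> norm_num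
  have hcard : T.card = 3 := by
    have e : ∑ χ ∈ T, c χ ^ 2 = 3 := by
      rw [← hsq]
      exact Finset.sum_subset (Finset.subset_univ _) fun χ _ hχ => by
        have : c χ = 0 := by simpa [T] using hχ
        rw [this]; norm_num
    rw [Finset.sum_congr rfl hle, Finset.sum_const, nsmul_eq_mul, mul_one] at e
    exact_mod_cast e
  have hone_mem : one ∈ T := Finset.mem_filter.mpr ⟨Finset.mem_univ _, by rw [hc1]; norm_num⟩
  obtain ⟨A, B, hAB, he⟩ := Finset.card_eq_two.mp
    (show (T.erase one).card = 2 by rw [Finset.card_erase_of_mem hone_mem, hcard])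
  have hA : A ≠ one ∧ A ∈ T := Finset.mem_erase.mp (he ▸ Finset.mem_insert_self A _)
  have hB : B ≠ one ∧ B ∈ T :=
    Finset.mem_erase.mp (he ▸ Finset.mem_insert_of_mem (Finset.mem_singleton_self B))
  have hT : T = {one, A, B} := by
    rw [← Finset.insert_erase hone_mem, he]
  have three : ∀ F : IrrCharacter G → ℂ, ∑ χ : IrrCharacter G, (c χ : ℂ) * F χ =
      F one + (c A : ℂ) * F A + (c B : ℂ) * F B := by
    intro F
    rw [← Finset.sum_subset (Finset.subset_univ T) (fun χ _ hχ => by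
      have : c χ = 0 := by simpa [T] using hχ
      rw [this, Int.cast_zero, zero_mul]), hT, Finset.sum_insert (by simp [hA.1.symm, hB.1.symm]),
      Finset.sum_pair hAB, hc1]
    push_cast; ring
  rw [three] at e1 e2 e3
  have hd1 : (d one : ℂ) = 1 := (hd one).symm
  rw [hd1] at e1 e3
  have ha1 : (one : G → ℂ) a = 1 := rfl
  rw [ha1] at e2 e3
  have hdA : (d A : ℂ) ≠ 0 := Nat.cast_ne_zero.mpr (hd0' A)
  have hdB : (d B : ℂ) ≠ 0 := Nat.cast_ne_zero.mpr (hd0' B)
  have e1' : 1 + c A * (d A : ℤ) + c B * (d B : ℤ) = 0 := by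
    have : ((1 + c A * (d A : ℤ) + c B * (d B : ℤ) : ℤ) : ℂ) = 0 := by
      push_cast; linear_combination e1
    exact_mod_cast this
  have hx : ∀ w q : ℂ, q ≠ 0 → (w - q) ^ 2 / q = w ^ 2 / q - 2 * w + q := by
    intro w q hq; field_simp; ring
  have hAa : (A : G → ℂ) a - (d A : ℂ) = 0 := by
    refine NineTI.two_terms (hle A hA.2) (hle B hB.2) (hd0' A) (hd0' B)
      (uB := (B : G → ℂ) a - (d B : ℂ)) e1' ?_ ?_
    · linear_combination e2 - e1
    · rw [hx _ _ hdA, hx _ _ hdB]
      linear_combination e3 - 2 * e2 + e1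
  have hBa : (B : G → ℂ) a - (d B : ℂ) = 0 := by
    refine NineTI.two_terms (hle B hB.2) (hle A hA.2) (hd0' B) (hd0' A)
      (uB := (A : G → ℂ) a - (d A : ℂ)) (by linarith) ?_ ?_
    · linear_combination e2 - e1
    · rw [hx _ _ hdA, hx _ _ hdB]
      linear_combination e3 - 2 * e2 + e1
  obtain ⟨KA, hKA, hmemA, -⟩ := exists_kernel (isCharacter_of_isIrr A.2)
  obtain ⟨KB, hKB, hmemB, -⟩ := exists_kernel (isCharacter_of_isIrr B.2)
  have haA : a ∈ KA := (hmemA a).mpr (by rw [hd]; linear_combination hAa)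
  have haB : a ∈ KB := (hmemB a).mpr (by rw [hd]; linear_combination hBa)
  by_cases htA : (t : G) ∈ KA
  swap
  · exact ⟨KA, hKA, haA, htA⟩
  refine ⟨KB, hKB, haB, fun htB => hft ?_⟩
  have e := congrFun hc (t : G)
  rw [indFun_eq_of_ti N S hTI f hcl hsupp t ht ht1, Finset.sum_apply] at e
  rw [e, show (∑ χ : IrrCharacter G, ((c χ : ℂ) • (χ : G → ℂ)) (t : G)) =
    ∑ χ : IrrCharacter G, (c χ : ℂ) * (χ : G → ℂ) (t : G) from rfl, three,
    show (one : G → ℂ) (t : G) = 1 from rfl, (hmemA _).mp htA, (hmemB _).mp htB, hd, hd]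
  linear_combination e1

end CfsgLib.AltNineThree
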