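import Cfsg.Agent.Lib.AltNineThree.CentPairs
import Cfsg.Agent.Lib.AltNineThree.BlockHom
import Cfsg.Agent.Lib.AltNineThree.NormThree
import Cfsg.Agent.Lib.ThreeCubedTI.Main

/-!
If translations have local centralizers and `(036)(147)(258)` is not fused to `z`, then `J` is
normal.
-/

set_option autoImplicit false
set_option linter.unusedSectionVars false
set_option linter.style.haveILetI false
set_option maxRecDepth 20000

namespace CfsgLib.AltNineThree

open E9 CfsgLib.Transfer

namespace E9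

/-- Elements permuting the three blocks cyclically. -/
def inT2 (x : ℕ) : Bool := Nat.ble 324 x && Nat.blt x 540

/-- `⟨d, z⟩`. -/
def edC (x : ℕ) : Bool :=
  (List.range 3).any fun i => (List.range 3).any fun k =>
    Nat.beq x (mulC (List.getD [0, 324, mulC 324 324] i 0) (13 * k))

/-- `⟨d, z⟩` as a subgroup. -/
def ED : Subgroup E9 where
  carrier := {x | edC x.c = true}
  one_mem' := by decide +kernel
  mul_mem' := fun {x y} hx hy => by
    have h : allC (fun a => impB (edC a) (allC fun b => impB (edC b) (edC (mulC a b)))) = true := by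
      decide +kernel
    show edC ((x * y).c : ℕ) = true
    rw [code_mul]; exact impB_elim (all_spec (impB_elim (all_spec h x) hx) y) hy
  inv_mem' := fun {x} hx => by
    have h : allC (fun a => impB (edC a) (edC (invC a))) = true := by decide +kernel
    show edC ((x⁻¹).c : ℕ) = true
    rw [code_inv]; exact impB_elim (all_spec h x) hx

theorem mem_ED {x : E9} : x ∈ ED ↔ edC x.c = true := Iff.rfl

theorem ed_facts : allC (fun x => impB (commC x 324 && commC x 13) (edC x)) = true ∧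
    allC (fun x => impB (commC x 324) (edC x)) = true ∧
    allC (fun x => impB (edC x) (impB (jC x) (Nat.beq x 0 || Nat.beq x 13 || Nat.beq x 26) &&
      impB (!jC x) (inT2 x) && Nat.beq (cubeC x) 0)) = true ∧
    allC (fun x => impB (inT2 x)
      (zType (cubeC x) || (Nat.beq (cubeC x) 0 &&
        (List.range 648).any fun h => Nat.beq (conjC h 324) x))) = true ∧
    allC (fun x => impB (inT2 x) (inT2 (invC x) && !Nat.beq (mulC x x) 0)) = true := by
  refine ⟨?_, ?_, ?_, ?_, ?_⟩ <;> decide +kernel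

theorem invol_facts : allC (fun x => impB (Nat.beq (mulC x x) 0)
      (Nat.blt x 108 || (List.range 648).any fun h => Nat.beq (conjC h 162) x)) = true ∧
    (mulC 162 162 = 0 ∧ commC 162 12 = true ∧ commC 27 1 = true ∧ mulC 27 27 = 0) ∧
    allC (fun x => impB (commC x 27 && (Nat.beq (conjC x 1) 1 || Nat.beq (conjC x 1) 2) &&
      Nat.beq (cubeC (cubeC x)) 0) (Nat.blt x 3)) = true ∧
    allC (fun x => !Nat.beq (conjC x 1) 12 && !Nat.beq (conjC x 2) 12) = true := by
  refine ⟨?_, ?_, ?_, ?_⟩ <;> decide +kernel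

theorem kernel_facts :
    (conjC 27 3 = 6 ∧ (List.range 648).any (fun h => Nat.beq (conjC h 3) 1) = true ∧
      (List.range 648).any (fun h => Nat.beq (conjC h 3) 9) = true) ∧
    ((List.range 648).any (fun h => Nat.beq (conjC h 27) 54) = true ∧
      (List.range 648).any (fun h => Nat.beq (conjC h 27) 81) = true) ∧
    (List.range 108).all (fun x => Nat.beq x (mulC (Nat.mod x 27) (27 * Nat.div x 27)) &&
      impB (Nat.beq (cubeC x) 0) (jC x)) = true ∧
    allC (fun x => impB (Nat.ble 108 x) (Nat.blt (mulC x (invC 324)) 108 || Nat.blt (mulC x 324) 108 ||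
      Nat.blt (mulC (mulC (mulC (mulC x 324) (invC x)) (invC 324)) (invC 324)) 108 ||
      Nat.blt (mulC (mulC (mulC (mulC x 324) (invC x)) (invC 324)) 324) 108)) = true := by
  refine ⟨⟨?_, ?_, ?_⟩, ⟨?_, ?_⟩, ?_, ?_⟩ <;> decide +kernel

theorem dE_facts : dE ∈ ED ∧ zE ∈ ED ∧ dE ^ 3 = 1 ∧ dE ≠ 1 ∧ commC 324 13 = true ∧
    inT2 (dE.c : ℕ) = true := by
  refine ⟨mem_ED.mpr (by decide +kernel), mem_ED.mpr (by decide +kernel),
    code_inj (by rw [code_cube]; decide +kernel), fun e => ?_, by decide +kernel, by decide +kernel⟩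
  exact absurd (congrArg (fun x : E9 => (x.c : ℕ)) e) (by decide +kernel)

/-- Conversion of `inT2` into the block action. -/
theorem π_ne_one {x : E9} (h : inT2 (x.c : ℕ) = true) : π x ≠ 1 := fun e => by
  have := π_eq_one.mp e
  simp only [inT2, Bool.and_eq_true] at h
  have := Nat.le_of_ble_eq_true h.1
  omega

end E9

namespace Setup

variable {G : Type*} [Group G] [Finite G] (S : Setup G)
  (hloc : ∀ j ∈ JE, j ≠ 1 → Subgroup.centralizer ({S.Φ j} : Set G) ≤ S.Φ.range)
  (hdz : ∀ g : G, g * S.Φ dE * g⁻¹ ≠ S.Φ zE)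

include hloc hdz

/-- `C(d) = ⟨d, z⟩`. -/
theorem cent_d : Subgroup.centralizer ({S.Φ dE} : Set G) = ED.map S.Φ := by
  classical
  haveI := Fact.mk Nat.prime_three
  obtain ⟨hd, hz, hd3, hd1, hdzc, -⟩ := dE_facts
  obtain ⟨hcz, hcd, hed, hT, -⟩ := ed_facts
  set C := Subgroup.centralizer ({S.Φ dE} : Set G) with hC
  set E := ED.map S.Φ with hE
  have hEC : E ≤ C := by
    rintro _ ⟨e, he, rfl⟩
    rw [hC, Subgroup.mem_centralizer_singleton_iff, ← map_mul, ← map_mul]
    congr 1
    rw [← comm_iff]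
    have h : allC (fun x => impB (edC x) (commC x 324)) = true := by decide +kernel
    exact impB_elim (all_spec h e) he
  -- the normalizer of `E` in `C`
  have hnorm : ∀ g ∈ C, (∀ e ∈ E, g * e * g⁻¹ ∈ E) → g ∈ E := by
    intro g hg hgE
    have hgd := Subgroup.mem_centralizer_singleton_iff.mp hg
    obtain ⟨e, he, hge⟩ := hgE _ ⟨zE, hz, rfl⟩
    have he1 : e ≠ 1 := fun h => zType_zE.2.2.1 (S.inj (by
      rw [h, map_one] at hge
      rw [map_one]; exact conj_eq_one_iff.mp hge.symm))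
    have h := impB_elim (all_spec hed e) he
    simp only [Bool.and_eq_true] at h
    by_cases hj : jC (e.c : ℕ) = true
    · have hgr : g ∈ S.Φ.range := S.mem_range_of_conj zType_zE.2.1 zType_zE.2.2.1
        (S.cent_zType zType_zE.1) (hge ▸ S.Φ_mem_J.mpr hj)
      obtain ⟨x, rfl⟩ := hgr
      refine ⟨x, impB_elim (all_spec hcd x) ((comm_iff x dE).mpr (S.inj ?_)), rfl⟩
      rw [map_mul, map_mul]; exact hgd
    · exfalso
      have h2 := impB_elim h.1.2 (by rw [Bool.not_eq_true']; exact Bool.eq_false_iff.mpr hj)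
      have h3 := impB_elim (all_spec hT e) h2
      rw [Bool.or_eq_true] at h3
      rcases h3 with h3 | h3
      · rw [Nat.eq_of_beq_eq_true h.2] at h3; exact absurd h3 (by decide +kernel)
      · rw [Bool.and_eq_true, List.any_eq_true] at h3
        obtain ⟨k, hk, hk'⟩ := h3.2
        have he' : mk' k * dE * (mk' k)⁻¹ = e := code_inj (by
          rw [code_conj, code_mk (List.mem_range.mp hk)]
          exact Nat.eq_of_beq_eq_true hk')
        refine hdz (g⁻¹ * S.Φ (mk' k)) ?_
        rw [show g⁻¹ * S.Φ (mk' k) * S.Φ dE * (g⁻¹ * S.Φ (mk' k))⁻¹ =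
          g⁻¹ * (S.Φ (mk' k) * S.Φ dE * (S.Φ (mk' k))⁻¹) * g by group,
          ← map_inv, ← map_mul, ← map_mul, he', hge]
        group
  have hEcomm : ∀ u ∈ E, ∀ v ∈ E, u * v = v * u := by
    rintro _ ⟨u, hu, rfl⟩ _ ⟨v, hv, rfl⟩
    rw [← map_mul, ← map_mul]; congr 1
    have h : allC (fun x => impB (edC x) (allC fun y => impB (edC y) (commC x y))) = true := by
      decide +kernel
    exact (comm_iff u v).mp (impB_elim (all_spec (impB_elim (all_spec h u) hu) v) hv)
  have hEp : IsPGroup 3 E := by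
    rintro ⟨_, u, hu, rfl⟩
    refine ⟨1, Subtype.ext ?_⟩
    show S.Φ u ^ (3 ^ 1) = 1
    have h := impB_elim (all_spec hed u) hu
    simp only [Bool.and_eq_true] at h
    rw [pow_one, ← map_pow, show u ^ 3 = 1 from code_inj (by
      rw [code_cube]; exact Nat.eq_of_beq_eq_true h.2), map_one]
  have hmax : ∀ R : Subgroup G, IsPGroup 3 R → R ≤ C → E ≤ R → R = E := by
    intro R hR hRC hER
    by_contra hne
    haveI := hR.isNilpotent
    have hlt : E.subgroupOf R < ⊤ := lt_top_iff_ne_top.mpr fun e =>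
      hne (le_antisymm (Subgroup.subgroupOf_eq_top.mp e) hER)
    obtain ⟨⟨r, hrR⟩, hr, hrn⟩ :=
      SetLike.exists_of_lt (Group.normalizerCondition_of_isNilpotent _ hlt)
    refine hrn (Subgroup.mem_subgroupOf.mpr (hnorm r (hRC hrR) fun e he => ?_))
    exact Subgroup.mem_subgroupOf.mp ((Subgroup.mem_normalizer_iff.mp hr ⟨e, hER he⟩).mp
      (Subgroup.mem_subgroupOf.mpr he))
  obtain ⟨R, hR⟩ := (hEp.comap_of_injective C.subtype C.subtype_injective).exists_le_sylow
  have hRE : (R : Subgroup C).map C.subtype = E :=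
    hmax _ (R.2.map _) (Subgroup.map_subtype_le _) fun e he =>
      ⟨⟨e, hEC he⟩, hR (Subgroup.mem_comap.mpr he), rfl⟩
  have hburn : Cfsg.HasNormalPComplement 3 C := by
    refine hasNormalPComplement_of_normalizer_le_centralizer R fun g hg => ?_
    rw [Subgroup.mem_centralizer_iff]
    intro u hu
    have hgE : (g : G) ∈ E := hnorm g g.2 fun e he => by
      rw [← hRE] at he ⊢
      obtain ⟨v, hv, rfl⟩ := he
      exact ⟨g * v * g⁻¹, (Subgroup.mem_normalizer_iff.mp hg v).mp hv, rfl⟩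
    exact Subtype.ext (hEcomm _ (hRE ▸ ⟨u, hu, rfl⟩) _ hgE)
  have hd' : orderOf (S.Φ dE) = 3 := orderOf_eq_prime (by rw [← map_pow, hd3, map_one])
    fun e => hd1 (S.inj (e.trans (map_one _).symm))
  have hcore := S.core dE hd'
  rw [pPrimeCore_eq_pResidual hburn] at hcore
  haveI := pResidual_normal 3 C
  have hCp : IsPGroup 3 C := by
    refine (isPGroup_quotient_pResidual : IsPGroup 3 (C ⧸ Cfsg.pResidual 3 C)).of_injective
      (QuotientGroup.mk' _) ?_
    rw [← MonoidHom.ker_eq_bot_iff, QuotientGroup.ker_mk', hcore]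
  exact hmax C hCp le_rfl hEC

/-- The cyclic block permutations form a TI set. -/
theorem ti {x y : E9} (hx : inT2 (x.c : ℕ) = true) (hy : inT2 (y.c : ℕ) = true) {g : G}
    (hg : g * S.Φ x * g⁻¹ = S.Φ y) : g ∈ S.Φ.range := by
  obtain ⟨-, -, -, hT, -⟩ := ed_facts
  have h3 : g * S.Φ (x ^ 3) * g⁻¹ = S.Φ (y ^ 3) := by rw [map_pow, map_pow, ← hg, conj_pow]
  have hx' := impB_elim (all_spec hT x) hx
  have hy' := impB_elim (all_spec hT y) hy
  rw [Bool.or_eq_true] at hx' hy'
  have hzJ : ∀ w : E9, zType (cubeC w.c) = true → w ^ 3 ∈ JE ∧ zType ((w ^ 3).c : ℕ) = true := by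
    intro w h
    rw [← code_cube] at h
    have h' := h
    simp only [zType, Bool.and_eq_true] at h'
    exact ⟨h'.1.1.1, h⟩
  rcases hx' with hx' | hx'
  · obtain ⟨hxJ, hxz⟩ := hzJ x hx'
    have hx1 : x ^ 3 ≠ 1 := fun e => by rw [e] at hxz; exact absurd hxz (by decide +kernel)
    refine S.mem_range_of_conj hxJ hx1 (S.cent_zType hxz) ?_
    rcases hy' with hy' | hy'
    · exact h3 ▸ S.Φ_mem_J.mpr (hzJ y hy').1
    · rw [Bool.and_eq_true] at hy'
      rw [h3, show y ^ 3 = 1 from code_inj (by rw [code_cube]; exact Nat.eq_of_beq_eq_true hy'.1),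
        map_one]
      exact one_mem _
  · rw [Bool.and_eq_true, List.any_eq_true] at hx'
    have hx3 : x ^ 3 = 1 := code_inj (by rw [code_cube]; exact Nat.eq_of_beq_eq_true hx'.1)
    rcases hy' with hy' | hy'
    · exfalso
      obtain ⟨-, hyz⟩ := hzJ y hy'
      rw [hx3, map_one, mul_one, mul_inv_cancel, ← map_one S.Φ] at h3
      rw [← S.inj h3] at hyz
      exact absurd hyz (by decide +kernel)
    · rw [Bool.and_eq_true, List.any_eq_true] at hy'
      obtain ⟨k, hk, hk'⟩ := hx'.2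
      obtain ⟨l, hl, hl'⟩ := hy'.2
      have ex : mk' k * dE * (mk' k)⁻¹ = x := code_inj (by
        rw [code_conj, code_mk (List.mem_range.mp hk)]; exact Nat.eq_of_beq_eq_true hk')
      have ey : mk' l * dE * (mk' l)⁻¹ = y := code_inj (by
        rw [code_conj, code_mk (List.mem_range.mp hl)]; exact Nat.eq_of_beq_eq_true hl')
      have hm : (S.Φ (mk' l))⁻¹ * g * S.Φ (mk' k) ∈ Subgroup.centralizer ({S.Φ dE} : Set G) := by
        rw [Subgroup.mem_centralizer_singleton_iff]
        rw [← ex, ← ey, map_mul, map_mul, map_mul, map_mul, map_inv, map_inv] at hg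
        calc (S.Φ (mk' l))⁻¹ * g * S.Φ (mk' k) * S.Φ dE
            = (S.Φ (mk' l))⁻¹ * (g * (S.Φ (mk' k) * S.Φ dE * (S.Φ (mk' k))⁻¹) * g⁻¹) * g *
              S.Φ (mk' k) := by group
          _ = (S.Φ (mk' l))⁻¹ * (S.Φ (mk' l) * S.Φ dE * (S.Φ (mk' l))⁻¹) * g * S.Φ (mk' k) := by rw [hg]
          _ = _ := by group
      rw [S.cent_d hloc hdz] at hm
      obtain ⟨e, -, he⟩ := hm
      refine ⟨mk' l * e * (mk' k)⁻¹, ?_⟩
      rw [map_mul, map_mul, map_inv, he]; group

omit hdz in
/-- The involutions in the kernel are not fused to the others. -/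
theorem not_conj_u_s : ∀ g : G, g * S.Φ (mk' 27) * g⁻¹ ≠ S.Φ (mk' 162) := by
  classical
  haveI := Fact.mk Nat.prime_three
  intro g hg
  obtain ⟨-, ⟨-, hs12, hu1, -⟩, hN, hno⟩ := invol_facts
  have ha : aE ∈ JE := by show jC (aE.c : ℕ) = true; decide +kernel
  have ha1 : aE ≠ 1 := fun e => absurd (congrArg (fun x : E9 => (x.c : ℕ)) e) (by decide +kernel)
  have h12 : mk' 12 ∈ JE := by show jC ((mk' 12).c : ℕ) = true; decide +kernel
  have h121 : mk' 12 ≠ 1 := fun e => absurd (congrArg (fun x : E9 => (x.c : ℕ)) e) (by decide +kernel)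
  set C := Subgroup.centralizer ({S.Φ (mk' 27)} : Set G) with hC
  set A := Subgroup.zpowers (S.Φ aE)
  have hAC : A ≤ C := Subgroup.zpowers_le.mpr (Subgroup.mem_centralizer_singleton_iff.mpr (by
    rw [← map_mul, ← map_mul]
    exact congrArg S.Φ ((comm_iff (mk' 27) aE).mp hu1).symm))
  have hsmall : ∀ x : E9, (x.c : ℕ) < 3 → S.Φ x ∈ A := fun x hx => by
    have : x = aE ^ (x.c : ℕ) := code_inj (by
      generalize hk : (x.c : ℕ) = k at hx ⊢
      interval_cases k
      · rfl
      · rw [pow_one]; rfl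
      · rw [pow_two, code_mul]; decide +kernel)
    rw [this, map_pow]; exact Subgroup.npow_mem_zpowers _ _
  have hmax : ∀ R : Subgroup G, IsPGroup 3 R → R ≤ C → A ≤ R → R = A := by
    intro R hR hRC hAR
    by_contra hne
    haveI := hR.isNilpotent
    have hlt : A.subgroupOf R < ⊤ := lt_top_iff_ne_top.mpr fun e =>
      hne (le_antisymm (Subgroup.subgroupOf_eq_top.mp e) hAR)
    obtain ⟨⟨r, hrR⟩, hr, hrn⟩ :=
      SetLike.exists_of_lt (Group.normalizerCondition_of_isNilpotent _ hlt)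
    apply hrn
    have hra : r * S.Φ aE * r⁻¹ ∈ A := Subgroup.mem_subgroupOf.mp
      ((Subgroup.mem_normalizer_iff.mp hr ⟨_, hAR (Subgroup.mem_zpowers _)⟩).mp
        (Subgroup.mem_subgroupOf.mpr (Subgroup.mem_zpowers _)))
    have hAJ : A ≤ S.J := Subgroup.zpowers_le.mpr (S.Φ_mem_J.mpr ha)
    obtain ⟨x, rfl⟩ := S.mem_range_of_conj ha ha1 (hloc aE ha ha1) (hAJ hra)
    refine Subgroup.mem_subgroupOf.mpr (hsmall x (Nat.le_of_ble_eq_true
      (impB_elim (all_spec hN x) ?_)))
    simp only [Bool.and_eq_true, Bool.or_eq_true, Nat.beq_eq]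
    refine ⟨⟨(comm_iff x (mk' 27)).mpr (S.inj (by
      rw [map_mul, map_mul]; exact Subgroup.mem_centralizer_singleton_iff.mp (hRC hrR))), ?_⟩, ?_⟩
    · obtain ⟨k, hk⟩ := Subgroup.mem_zpowers_iff.mp hra
      have hcube : aE ^ (3 : ℤ) = 1 := by exact_mod_cast JE_cube ha
      have e1 : x * aE * x⁻¹ = aE ^ k := S.inj (by rw [map_mul, map_mul, map_inv, map_zpow, hk])
      rw [← Int.emod_add_mul_ediv k 3, zpow_add, zpow_mul, hcube, one_zpow, mul_one] at e1
      have e2 := congrArg (fun t : E9 => (t.c : ℕ)) e1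
      rw [code_conj] at e2
      rcases (by omega : k % 3 = 0 ∨ k % 3 = 1 ∨ k % 3 = 2) with e | e | e
      · rw [e, zpow_zero] at e1
        exact absurd (conj_eq_one_iff.mp e1) ha1
      · left; rw [e, zpow_one] at e2; exact e2
      · right; rw [e, zpow_two, code_mul] at e2; exact e2.trans (by decide +kernel)
    · obtain ⟨n, hn⟩ := hR ⟨S.Φ x, hrR⟩
      have h1 : x ^ (3 ^ n) = 1 := S.inj (by
        rw [map_pow, map_one]; exact congrArg Subtype.val hn)
      have h648 : orderOf x ∣ 648 := E9.card_eq ▸ orderOf_dvd_natCard x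
      have hd : orderOf x ∣ 81 := by
        obtain ⟨k, -, hk⟩ := (Nat.dvd_prime_pow Nat.prime_three).mp (orderOf_dvd_of_pow_eq_one h1)
        rw [hk] at h648 ⊢
        have : k ≤ 4 := by
          by_contra hk4
          exact absurd ((pow_dvd_pow 3 (by omega : 5 ≤ k)).trans h648) (by decide)
        exact (pow_dvd_pow 3 this).trans (by norm_num)
      have h81 : allC (fun x => impB (Nat.beq (cubeC (cubeC (cubeC (cubeC x)))) 0)
          (Nat.beq (cubeC (cubeC x)) 0)) = true := by decide +kernel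
      refine Nat.eq_of_beq_eq_true (impB_elim (all_spec h81 x) ?_)
      rw [Nat.beq_eq, ← code_cube, ← code_cube, ← code_cube, ← code_cube, ← pow_mul, ← pow_mul,
        ← pow_mul, orderOf_dvd_iff_pow_eq_one.mp hd]
      rfl
  have hAp : IsPGroup 3 (A.subgroupOf C) := by
    refine IsPGroup.of_card (n := 1) ?_
    rw [Nat.card_congr (Subgroup.subgroupOfEquivOfLe hAC).toEquiv, Nat.card_zpowers,
      S.orderOf_Φ ha ha1, pow_one]
  obtain ⟨R, hR⟩ := hAp.exists_le_sylow
  have hRA : (R : Subgroup C).map C.subtype = A :=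
    hmax _ (R.2.map _) (Subgroup.map_subtype_le _) fun e he =>
      ⟨⟨e, hAC he⟩, hR (Subgroup.mem_subgroupOf.mpr he), rfl⟩
  -- the translation centralizing `s`, moved into `C(u)`
  set t := g⁻¹ * S.Φ (mk' 12) * g with ht
  have htC : t ∈ C := by
    rw [hC, Subgroup.mem_centralizer_singleton_iff, ht]
    have hc : S.Φ (mk' 12) * S.Φ (mk' 162) = S.Φ (mk' 162) * S.Φ (mk' 12) := by
      rw [← map_mul, ← map_mul]
      exact congrArg S.Φ ((comm_iff (mk' 162) (mk' 12)).mp hs12).symm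
    rw [← hg] at hc
    calc g⁻¹ * S.Φ (mk' 12) * g * S.Φ (mk' 27)
        = g⁻¹ * (S.Φ (mk' 12) * (g * S.Φ (mk' 27) * g⁻¹)) * g := by group
      _ = g⁻¹ * (g * S.Φ (mk' 27) * g⁻¹ * S.Φ (mk' 12)) * g := by rw [hc]
      _ = _ := by group
  have ht3 : t ^ 3 = 1 := by
    rw [ht, show g⁻¹ * S.Φ (mk' 12) * g = g⁻¹ * S.Φ (mk' 12) * g⁻¹⁻¹ by rw [inv_inv], conj_pow,
      ← map_pow, JE_cube h12, map_one, mul_one, mul_inv_cancel]
  have htp : IsPGroup 3 (Subgroup.zpowers (⟨t, htC⟩ : C)) := by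
    rintro ⟨y, k, rfl⟩
    refine ⟨1, Subtype.ext ?_⟩
    show ((⟨t, htC⟩ : C) ^ k) ^ (3 ^ 1) = 1
    rw [pow_one, ← zpow_natCast, zpow_comm, zpow_natCast,
      show (⟨t, htC⟩ : C) ^ 3 = 1 from Subtype.ext ht3, one_zpow]
  obtain ⟨T, hT⟩ := htp.exists_le_sylow
  obtain ⟨c, hc⟩ := MulAction.exists_smul_eq C T R
  have hm : (c : G) * t * (c : G)⁻¹ ∈ A := by
    rw [← hRA, ← hc, Sylow.coe_subgroup_smul]
    exact ⟨c * ⟨t, htC⟩ * c⁻¹, ⟨⟨t, htC⟩, hT (Subgroup.mem_zpowers _), rfl⟩, rfl⟩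
  obtain ⟨k, hk⟩ := Subgroup.mem_zpowers_iff.mp hm
  rw [← map_zpow] at hk
  have hak : aE ^ k ∈ JE := zpow_mem ha k
  have hconj : g * (c : G)⁻¹ * S.Φ (aE ^ k) * (g * (c : G)⁻¹)⁻¹ = S.Φ (mk' 12) := by
    rw [hk, ht]; group
  obtain ⟨x, hx, -⟩ := S.fusion hak h12 h121 hconj
  have h := all_spec hno x
  simp only [Bool.and_eq_true, Bool.not_eq_true'] at h
  have hcube : aE ^ (3 : ℤ) = 1 := by exact_mod_cast JE_cube ha
  rw [← Int.emod_add_mul_ediv k 3, zpow_add, zpow_mul, hcube, one_zpow, mul_one] at hx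
  have e2 := congrArg (fun t : E9 => (t.c : ℕ)) hx
  rw [code_conj, code_mk (by norm_num)] at e2
  rcases (by omega : k % 3 = 0 ∨ k % 3 = 1 ∨ k % 3 = 2) with e | e | e
  · rw [e, zpow_zero, mul_one, mul_inv_cancel] at hx
    exact h121 hx.symm
  · rw [e, zpow_one] at e2
    exact Bool.false_ne_true (h.1.symm.trans (by rw [Nat.beq_eq]; exact e2))
  · rw [e, zpow_two, code_mul] at e2
    exact Bool.false_ne_true (h.2.symm.trans (by rw [Nat.beq_eq]; exact e2))

/-- A normal subgroup containing the kernel of the block action and avoiding `d`. -/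
theorem exists_normal : ∃ K : Subgroup G, K.Normal ∧ S.Φ (mk' 27) ∈ K ∧ S.Φ dE ∉ K := by
  classical
  haveI : Fintype G := Fintype.ofFinite G
  set H := S.Φ.range with hH
  haveI : Fintype H := Fintype.ofFinite H
  let e := MonoidHom.ofInjective S.inj
  let ρ : H →* Equiv.Perm (Fin 3) := π.comp e.symm.toMonoidHom
  have hρ : ∀ x : E9, ρ ⟨S.Φ x, ⟨x, rfl⟩⟩ = π x := fun x => by
    show π (e.symm ⟨S.Φ x, ⟨x, rfl⟩⟩) = π x
    congr 1
    exact e.symm_apply_eq.mpr (Subtype.ext rfl)
  letI : MulAction H (Fin 3) := MulAction.compHom _ ρ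
  have hπsurj : ∀ p q : Fin 3, ∃ x : E9, π x p = q := by
    have h : ∀ p q : Fin 3, ∃ w : Fin 24, blk w p = q := by decide +kernel
    intro p q
    obtain ⟨w, hw⟩ := h p q
    refine ⟨mk' (27 * w), ?_⟩
    show blk (((mk' (27 * w)).c : ℕ) / 27) p = q
    rw [code_mk (by omega), Nat.mul_div_cancel_left _ (by norm_num : 0 < 27)]
    exact hw
  haveI : MulAction.IsPretransitive H (Fin 3) := ⟨fun p q => by
    obtain ⟨x, hx⟩ := hπsurj p q
    exact ⟨⟨S.Φ x, ⟨x, rfl⟩⟩, by show ρ _ p = q; rw [hρ]; exact hx⟩⟩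
  let sgn : H →* ℂˣ := (Units.map ((Int.castRingHom ℂ).toMonoidHom)).comp (Equiv.Perm.sign.comp ρ)
  let f : H → ℂ := fun n => 2 + (sgn n : ℂ) - (Nat.card (MulAction.fixedBy (Fin 3) n) : ℂ)
  let T : Set G := {g | ∃ x : E9, inT2 (x.c : ℕ) = true ∧ S.Φ x = g}
  have hgen : Cfsg.IsGeneralizedCharacter H f := by
    have h2 : Cfsg.IsCharacter H (fun _ : H => (2 : ℂ)) := by
      have := CfsgLib.Char.isCharacter_add (CfsgLib.Char.isCharacter_one (G := H))
        (CfsgLib.Char.isCharacter_one (G := H))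
      have e : ((fun _ : H => (1 : ℂ)) + fun _ => 1) = fun _ => 2 := funext fun _ => by
        simp [one_add_one_eq_two]
      exact e ▸ this
    exact CfsgLib.Char.isGeneralized_sub (CfsgLib.Char.isGeneralized_of_isCharacter
      (CfsgLib.Char.isCharacter_add h2 (CfsgLib.Char.isCharacter_monoidHom sgn)))
      (CfsgLib.Char.isGeneralized_of_isCharacter (CfsgLib.Char.isCharacter_perm (Fin 3)))
  have hblk : ∀ w : Fin 24,
      (2 + ((Equiv.Perm.sign (blk w) : ℤˣ) : ℤ) -
        ((Finset.univ.filter fun p => blk w p = p).card : ℤ) : ℤ) =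
      if 12 ≤ (w : ℕ) ∧ (w : ℕ) < 20 then 3 else 0 := by decide +kernel
  have hf : ∀ x : E9, f ⟨S.Φ x, ⟨x, rfl⟩⟩ = if inT2 (x.c : ℕ) = true then (3 : ℂ) else 0 := by
    intro x
    set n : H := ⟨S.Φ x, ⟨x, rfl⟩⟩
    have hfix : Nat.card (MulAction.fixedBy (Fin 3) n) =
        (Finset.univ.filter fun p => ρ n p = p).card := by
      rw [← Fintype.card_subtype, ← Nat.card_eq_fintype_card]
      rfl
    have hval : f n = ((2 + ((Equiv.Perm.sign (ρ n) : ℤˣ) : ℤ) -
        ((Finset.univ.filter fun p => ρ n p = p).card : ℤ) : ℤ) : ℂ) := by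
      simp only [f, hfix]; push_cast; rfl
    rw [hval, show ρ n = blk ((x.c : ℕ) / 27) from hρ x, hblk ⟨(x.c : ℕ) / 27, by omega⟩]
    simp only [inT2, Bool.and_eq_true]
    have hiff : (12 ≤ (x.c : ℕ) / 27 ∧ (x.c : ℕ) / 27 < 20) ↔
        (Nat.ble 324 (x.c : ℕ) = true ∧ Nat.blt (x.c : ℕ) 540 = true) := by
      rw [Nat.ble_eq, Nat.blt_eq]; omega
    by_cases hc : 12 ≤ (x.c : ℕ) / 27 ∧ (x.c : ℕ) / 27 < 20
    · rw [if_pos hc, if_pos (hiff.mp hc)]; norm_num
    · rw [if_neg hc, if_neg (fun h => hc (hiff.mpr h))]; norm_num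
  have hmemT : ∀ x : E9, S.Φ x ∈ T ↔ inT2 (x.c : ℕ) = true := fun x =>
    ⟨fun ⟨y, hy, e⟩ => S.inj e ▸ hy, fun h => ⟨x, h, rfl⟩⟩
  have hsupp : ∀ n : H, (n : G) ∉ T → f n = 0 := by
    rintro ⟨_, x, rfl⟩ hn
    rw [hf, if_neg fun h => hn ((hmemT x).mpr h)]
  have h1 : f 1 = 0 := hsupp 1 fun ⟨y, hy, e⟩ => π_ne_one hy (by
    rw [show y = 1 from S.inj (e.trans (map_one S.Φ).symm), map_one])
  have hTI : ∀ g : G, g ∉ H → ∀ t ∈ T, g * t * g⁻¹ ∈ T → t = 1 := by
    rintro g hg _ ⟨x, hx, rfl⟩ ⟨y, hy, e'⟩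
    exact absurd (S.ti hloc hdz hx hy e'.symm) hg
  have hsum : ∑ n : H, f n = 648 := by
    haveI : Fintype E9 := Fintype.ofFinite E9
    rw [← Equiv.sum_comp e.toEquiv]
    have : ∀ x : E9, f (e.toEquiv x) = if inT2 (x.c : ℕ) = true then (3 : ℂ) else 0 := fun x => by
      rw [← hf x]; rfl
    simp only [this]
    rw [Finset.sum_ite, Finset.sum_const_zero, add_zero, Finset.sum_const]
    have hc : (Finset.univ.filter fun x : E9 => inT2 (x.c : ℕ) = true).card = 216 := by
      rw [← Finset.card_range 216]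
      refine Finset.card_bij (fun x _ => (x.c : ℕ) - 324) (fun x hx => ?_) (fun x hx y hy h => ?_)
        (fun k hk => ?_)
      · simp only [Finset.mem_filter, Finset.mem_univ, true_and, inT2, Bool.and_eq_true, Nat.blt_eq,
          Nat.ble_eq] at hx
        rw [Finset.mem_range]; omega
      · simp only [Finset.mem_filter, Finset.mem_univ, true_and, inT2, Bool.and_eq_true, Nat.blt_eq,
          Nat.ble_eq] at hx hy
        exact code_inj (by omega)
      · rw [Finset.mem_range] at hk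
        refine ⟨mk' (k + 324), ?_, by rw [code_mk (by omega)]; omega⟩
        simp only [Finset.mem_filter, Finset.mem_univ, true_and, inT2, Bool.and_eq_true, Nat.blt_eq,
          Nat.ble_eq, code_mk (show k + 324 < 648 by omega)]
        omega
    rw [hc]; norm_num
  have hcard : Nat.card H = 648 := by rw [← Nat.card_congr e.toEquiv, E9.card_eq]
  have hone : Cfsg.classInner f (fun _ => (1 : ℂ)) = 1 := by
    simp only [Cfsg.classInner, map_one, mul_one]
    rw [hsum, hcard]; norm_num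
  have hnorm : Cfsg.classInner f f = 3 := by
    have e' : Cfsg.classInner f f = 3 * Cfsg.classInner f (fun _ => (1 : ℂ)) := by
      simp only [Cfsg.classInner, Finset.mul_sum]
      refine Finset.sum_congr rfl fun n _ => ?_
      obtain ⟨_, x, rfl⟩ := n
      rw [hf x]
      split_ifs <;> simp only [map_ofNat, map_zero, map_one] <;> ring
    rw [e', hone, mul_one]
  obtain ⟨hinv, -, -, -⟩ := invol_facts
  obtain ⟨-, -, -, -, hT5⟩ := ed_facts
  have huu : S.Φ (mk' 27) * S.Φ (mk' 27) = 1 := by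
    rw [← map_mul, show mk' 27 * mk' 27 = (1 : E9) from code_inj (by rw [code_mul]; decide +kernel),
      map_one]
  have hd : inT2 (dE.c : ℕ) = true := dE_facts.2.2.2.2.2
  obtain ⟨K, hK, huK, hdK⟩ := exists_normal_avoid H T hTI f hgen hsupp h1 hnorm hone (S.Φ (mk' 27))
    (fun g ⟨y, hy, hye⟩ => by
      have hyy : y * y = 1 := S.inj (by
        rw [map_mul, map_one, hye, show g * S.Φ (mk' 27) * g⁻¹ * (g * S.Φ (mk' 27) * g⁻¹) =
          g * (S.Φ (mk' 27) * S.Φ (mk' 27)) * g⁻¹ by group, huu, mul_one, mul_inv_cancel])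
      have h := impB_elim (all_spec hT5 y) hy
      rw [Bool.and_eq_true, Bool.not_eq_true'] at h
      refine Bool.false_ne_true (h.2.symm.trans ?_)
      rw [Nat.beq_eq, ← code_mul, hyy]; rfl)
    (by
      rintro ⟨_, x, rfl⟩ hn u v hu hv huv
      change u * v = S.Φ x at huv
      have hx : inT2 (x.c : ℕ) = true := by
        by_contra h; exact hn (by rw [hf, if_neg h])
      have hI : ∀ w : G, IsConj (S.Φ (mk' 27)) w → w * w = 1 := by
        intro w hw
        obtain ⟨g, rfl⟩ := isConj_iff.mp hw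
        rw [show g * S.Φ (mk' 27) * g⁻¹ * (g * S.Φ (mk' 27) * g⁻¹) =
          g * (S.Φ (mk' 27) * S.Φ (mk' 27)) * g⁻¹ by group, huu, mul_one, mul_inv_cancel]
      have hu' : u⁻¹ = u := inv_eq_of_mul_eq_one_left (hI u hu)
      have hux : u * S.Φ x * u⁻¹ = S.Φ x⁻¹ := by
        rw [map_inv, hu', ← huv, mul_inv_rev, hu', inv_eq_of_mul_eq_one_left (hI v hv)]
        calc u * (u * v) * u = (u * u) * (v * u) := by group
          _ = v * u := by rw [hI u hu, one_mul]
      have hxi : inT2 ((x⁻¹).c : ℕ) = true := by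
        have h := impB_elim (all_spec hT5 x) hx
        rw [Bool.and_eq_true] at h
        rw [code_inv]; exact h.1
      obtain ⟨p, rfl⟩ := S.ti hloc hdz hx hxi hux
      have hv' : v = S.Φ (p⁻¹ * x) := by rw [map_mul, map_inv, ← huv, inv_mul_cancel_left]
      subst hv'
      have hker : ∀ q : E9, IsConj (S.Φ (mk' 27)) (S.Φ q) → π q = 1 := by
        intro q hq
        have hqq : q * q = 1 := S.inj (by rw [map_mul, map_one]; exact hI _ hq)
        have h := impB_elim (all_spec hinv q) (by rw [Nat.beq_eq, ← code_mul, hqq]; rfl)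
        rw [Bool.or_eq_true] at h
        rcases h with h | h
        · exact π_eq_one.mpr (Nat.le_of_ble_eq_true h)
        · exfalso
          rw [List.any_eq_true] at h
          obtain ⟨k, hk, hk'⟩ := h
          have ek : mk' k * mk' 162 * (mk' k)⁻¹ = q := code_inj (by
            rw [code_conj, code_mk (List.mem_range.mp hk), code_mk (by norm_num)]
            exact Nat.eq_of_beq_eq_true hk')
          obtain ⟨g, hg⟩ := isConj_iff.mp hq
          refine S.not_conj_u_s hloc ((S.Φ (mk' k))⁻¹ * g) ?_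
          rw [show (S.Φ (mk' k))⁻¹ * g * S.Φ (mk' 27) * ((S.Φ (mk' k))⁻¹ * g)⁻¹ =
            (S.Φ (mk' k))⁻¹ * (g * S.Φ (mk' 27) * g⁻¹) * S.Φ (mk' k) by group, hg, ← ek,
            map_mul, map_mul, map_inv]
          group
      refine π_ne_one hx ?_
      rw [show x = p * (p⁻¹ * x) by group, map_mul, hker _ hu, hker _ hv, one_mul])
    ⟨S.Φ dE, ⟨dE, rfl⟩⟩ ((hmemT dE).mpr hd)
    (fun e' => dE_facts.2.2.2.1 (S.inj ((congrArg Subtype.val e').trans (map_one S.Φ).symm)))
    (by rw [hf, if_pos hd]; norm_num)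
  exact ⟨K, hK, huK, hdK⟩

omit hloc hdz in
/-- A normal subgroup containing `u` contains the kernel of the block action. -/
theorem mem_of_mem_u {K : Subgroup G} [hK : K.Normal] (huK : S.Φ (mk' 27) ∈ K) :
    ∀ x : E9, (x.c : ℕ) < 108 → S.Φ x ∈ K := by
  obtain ⟨⟨h27, hba, hbc⟩, ⟨h54, h81⟩, hdec, -⟩ := kernel_facts
  have hconjK : ∀ {p q : E9}, S.Φ p ∈ K → ∀ k : E9, k * p * k⁻¹ = q → S.Φ q ∈ K := by
    intro p q hp k hk
    rw [← hk, map_mul, map_mul, map_inv]
    exact hK.conj_mem _ hp _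
  have hmk : ∀ {a b : ℕ}, a < 648 → b < 648 →
      (List.range 648).any (fun h => Nat.beq (conjC h a) b) = true →
      S.Φ (mk' a) ∈ K → S.Φ (mk' b) ∈ K := by
    intro a b ha hb h hin
    rw [List.any_eq_true] at h
    obtain ⟨k, hk, hk'⟩ := h
    refine hconjK hin (mk' k) (code_inj ?_)
    rw [code_conj, code_mk (List.mem_range.mp hk), code_mk ha, code_mk hb]
    exact Nat.eq_of_beq_eq_true hk'
  have hb : S.Φ (mk' 3) ∈ K := by
    have e : mk' 27 * mk' 3 * (mk' 27)⁻¹ * (mk' 3)⁻¹ = mk' 3 := code_inj (by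
      rw [code_mul, code_conj, code_inv]; decide +kernel)
    rw [← e]
    simp only [map_mul, map_inv]
    rw [show S.Φ (mk' 27) * S.Φ (mk' 3) * (S.Φ (mk' 27))⁻¹ * (S.Φ (mk' 3))⁻¹ =
      S.Φ (mk' 27) * (S.Φ (mk' 3) * (S.Φ (mk' 27))⁻¹ * (S.Φ (mk' 3))⁻¹) by group]
    exact mul_mem huK (hK.conj_mem _ (inv_mem huK) _)
  have ha : S.Φ (mk' 1) ∈ K := hmk (by norm_num) (by norm_num) hba hb
  have hc : S.Φ (mk' 9) ∈ K := hmk (by norm_num) (by norm_num) hbc hb
  have hJK : ∀ j ∈ JE, S.Φ j ∈ K := by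
    intro j hj
    have h : allJ (fun v => (List.range 3).any fun p => (List.range 3).any fun q =>
        (List.range 3).any fun r => Nat.beq v (mulC (mulC (List.getD [0, 1, 2] p 0)
          (List.getD [0, 3, 6] q 0)) (List.getD [0, 9, 18] r 0))) = true := by decide +kernel
    have h' := allJ_spec h hj
    simp only [List.any_eq_true, List.mem_range] at h'
    obtain ⟨p, hp, q, hq, r, hr, e⟩ := h'
    have e' : j = mk' (List.getD [0, 1, 2] p 0) * mk' (List.getD [0, 3, 6] q 0) *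
        mk' (List.getD [0, 9, 18] r 0) := code_inj (by
      rw [code_mul, code_mul, code_mk, code_mk, code_mk]
      · exact Nat.eq_of_beq_eq_true e
      all_goals first
        | (interval_cases p <;> norm_num; done)
        | (interval_cases q <;> norm_num; done)
        | (interval_cases r <;> norm_num; done))
    have hpow : ∀ a b : ℕ, S.Φ (mk' a) ∈ K → mk' a * mk' a = mk' b → S.Φ (mk' b) ∈ K :=
      fun a b h e => by rw [← e, map_mul]; exact mul_mem h h
    have h0 : S.Φ (mk' 0) ∈ K := by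
      rw [show mk' 0 = (1 : E9) from code_inj rfl, map_one]; exact one_mem _
    have h2 := hpow 1 2 ha (code_inj (by rw [code_mul]; decide +kernel))
    have h6 := hpow 3 6 hb (code_inj (by rw [code_mul]; decide +kernel))
    have h18 := hpow 9 18 hc (code_inj (by rw [code_mul]; decide +kernel))
    rw [e', map_mul, map_mul]
    refine mul_mem (mul_mem ?_ ?_) ?_
    · interval_cases p <;> assumption
    · interval_cases q <;> assumption
    · interval_cases r <;> assumption
  have hwK : ∀ w : ℕ, w < 4 → S.Φ (mk' (27 * w)) ∈ K := by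
    intro w hw
    interval_cases w
    · rw [show mk' (27 * 0) = (1 : E9) from code_inj rfl, map_one]; exact one_mem _
    · exact huK
    · exact hmk (by norm_num) (by norm_num) h54 huK
    · exact hmk (by norm_num) (by norm_num) h81 huK
  have hkerK : ∀ x : E9, (x.c : ℕ) < 108 → S.Φ x ∈ K := by
    intro x hx
    have h := List.all_eq_true.mp hdec x.c (List.mem_range.mpr hx)
    rw [Bool.and_eq_true] at h
    have e : x = mk' ((x.c : ℕ) % 27) * mk' (27 * ((x.c : ℕ) / 27)) := code_inj (by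
      rw [code_mul, code_mk (by omega), code_mk (by omega)]
      exact Nat.eq_of_beq_eq_true h.1)
    rw [e, map_mul]
    refine mul_mem (hJK _ ?_) (hwK _ (by omega))
    show jC ((mk' ((x.c : ℕ) % 27)).c : ℕ) = true
    rw [code_mk (by omega)]
    exact Nat.ble_eq_true_of_le (Nat.mod_lt _ (by norm_num))
  exact hkerK

/-- Without fusion of `d` into `J`, the normalizer of `J` is the whole group. -/
theorem range_eq_top : S.Φ.range = ⊤ := by
  classical
  haveI := Fact.mk Nat.prime_three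
  obtain ⟨K, hK, huK, hdK⟩ := S.exists_normal hloc hdz
  haveI := hK
  obtain ⟨-, -, hdec, hout⟩ := kernel_facts
  have hkerK := S.mem_of_mem_u (K := K) huK
  have hJK : ∀ j ∈ JE, S.Φ j ∈ K := fun j hj => hkerK j (by
    have := Nat.le_of_ble_eq_true hj
    omega)
  have hKker : ∀ x : E9, S.Φ x ∈ K → (x.c : ℕ) < 108 := by
    intro x hxK
    by_contra hge
    have h := impB_elim (all_spec hout x) (Nat.ble_eq_true_of_le (not_lt.mp hge))
    simp only [Bool.or_eq_true] at h
    have hcm : S.Φ (x * dE * x⁻¹ * dE⁻¹) ∈ K := by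
      rw [map_mul, map_mul, map_mul, map_inv, map_inv,
        show S.Φ x * S.Φ dE * (S.Φ x)⁻¹ * (S.Φ dE)⁻¹ =
          S.Φ x * (S.Φ dE * (S.Φ x)⁻¹ * (S.Φ dE)⁻¹) by group]
      exact mul_mem hxK (hK.conj_mem _ (inv_mem hxK) _)
    have hd1 : ∀ y : E9, S.Φ y ∈ K → ((y * dE⁻¹).c : ℕ) < 108 → False := fun y hy h' => by
      have := mul_mem (inv_mem (hkerK _ h')) hy
      rw [map_mul, map_inv, mul_inv_rev, inv_inv, inv_mul_cancel_right] at this
      exact hdK this
    have hd2 : ∀ y : E9, S.Φ y ∈ K → ((y * dE).c : ℕ) < 108 → False := fun y hy h' => by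
      have := mul_mem (inv_mem hy) (hkerK _ h')
      rw [map_mul, inv_mul_cancel_left] at this
      exact hdK this
    rcases h with ((h | h) | h) | h
    · exact hd1 x hxK (by rw [code_mul, code_inv]; exact Nat.le_of_ble_eq_true h)
    · exact hd2 x hxK (by rw [code_mul]; exact Nat.le_of_ble_eq_true h)
    · exact hd1 _ hcm (by
        rw [code_mul, code_mul, code_mul, code_mul, code_inv, code_inv]
        exact Nat.le_of_ble_eq_true h)
    · exact hd2 _ hcm (by
        rw [code_mul, code_mul, code_mul, code_mul, code_inv, code_inv]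
        exact Nat.le_of_ble_eq_true h)
  -- the data inside `K`
  set H' := S.Φ.range.subgroupOf K with hH'
  set T' := S.J.subgroupOf K with hT'
  have hpre : ∀ n : H', ∃ x : E9, (x.c : ℕ) < 108 ∧ S.Φ x = ((n : K) : G) := fun n => by
    obtain ⟨x, hx⟩ := Subgroup.mem_subgroupOf.mp n.2
    exact ⟨x, hKker x (by rw [hx]; exact (n : K).2), hx⟩
  choose pre hlt hpre' using hpre
  have hpre_mul : ∀ m n : H', pre (m * n) = pre m * pre n := fun m n => S.inj (by
    rw [map_mul, hpre', hpre', hpre']; rfl)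
  let θ : H' →* ThreeCubedTI.P3 := MonoidHom.mk' (fun n => resC ((pre n).c : ℕ)) fun m n => by
    show resC ((pre (m * n)).c : ℕ) = _
    rw [hpre_mul, code_mul]
    exact resC_mul ⟨_, hlt m⟩ ⟨_, hlt n⟩
  have hθ : ∀ n : H', θ n = resC ((pre n).c : ℕ) := fun n => rfl
  have hTH : T' ≤ H' := fun y hy => Subgroup.mem_subgroupOf.mpr (by
    obtain ⟨j, -, e⟩ := Subgroup.mem_subgroupOf.mp hy
    exact ⟨j, e⟩)
  have D : ThreeCubedTI.Data H' T' θ :=
    { inj := fun m n e => by
        have h1 : θ (m * n⁻¹) = 1 := by rw [map_mul, map_inv, e, mul_inv_cancel]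
        have h2 := (resC_facts.1 ⟨_, hlt (m * n⁻¹)⟩).2.2.1 h1
        have h3 : pre (m * n⁻¹) = 1 := code_inj h2
        have h4 := hpre' (m * n⁻¹)
        rw [h3, map_one] at h4
        exact mul_inv_eq_one.mp (Subtype.ext (Subtype.ext h4.symm))
      even := fun n => (resC_facts.1 ⟨_, hlt n⟩).1
      surj := fun f hf => by
        obtain ⟨x, hx⟩ := resC_facts.2 f hf
        have hxK : S.Φ (mk' x) ∈ K := hkerK _ (by rw [code_mk (by omega)]; exact x.isLt)
        refine ⟨⟨⟨S.Φ (mk' x), hxK⟩, Subgroup.mem_subgroupOf.mpr ⟨_, rfl⟩⟩, ?_⟩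
        rw [hθ, ← hx]
        congr 1
        have := S.inj (hpre' ⟨⟨S.Φ (mk' x), hxK⟩, Subgroup.mem_subgroupOf.mpr ⟨_, rfl⟩⟩)
        rw [this, code_mk (by omega)]
      T_le := hTH
      memT := fun n => by
        rw [hθ, (resC_facts.1 ⟨_, hlt n⟩).2.1, hT', Subgroup.mem_subgroupOf, ← hpre' n,
          S.Φ_mem_J, mem_JE]
        exact ⟨fun h => Nat.le_of_ble_eq_true h, fun h => Nat.ble_eq_true_of_le h⟩
      norm := by
        ext y
        rw [hH', Subgroup.mem_subgroupOf, Subgroup.mem_normalizer_iff]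
        constructor
        · intro hy
          refine S.normalizer_J (Subgroup.mem_normalizer_iff_map_conj_eq.mpr ?_)
          refine Subgroup.eq_of_le_of_card_ge ?_ (le_of_eq
            (Subgroup.card_map_of_injective (MulAut.conj (y : G)).injective).symm)
          rintro _ ⟨_, ⟨j, hj, rfl⟩, rfl⟩
          exact (hy ⟨S.Φ j, hJK j hj⟩).mp (S.Φ_mem_J.mpr hj)
        · rintro ⟨x, hx⟩ ⟨w, hw⟩
          have hn := Subgroup.mem_normalizer_iff.mp (S.range_le_normalizer ⟨x, hx⟩) w
          exact hn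
      loc := fun t ht ht1 c hc => by
        obtain ⟨j, hj, e⟩ := Subgroup.mem_subgroupOf.mp ht
        have hj1 : j ≠ 1 := fun h => ht1 (Subtype.ext (by rw [← e, h, map_one]; rfl))
        refine Subgroup.mem_subgroupOf.mpr (hloc j hj hj1 ?_)
        rw [Subgroup.mem_centralizer_singleton_iff, e]
        exact congrArg Subtype.val (Subgroup.mem_centralizer_singleton_iff.mp hc) }
  have htop : K ≤ S.Φ.range := Subgroup.subgroupOf_eq_top.mp D.eq_top
  refine eq_top_iff.mpr fun g _ => S.normalizer_J ?_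
  rw [Subgroup.mem_normalizer_iff_map_conj_eq]
  refine Subgroup.eq_of_le_of_card_ge ?_ (le_of_eq
    (Subgroup.card_map_of_injective (MulAut.conj g).injective).symm)
  rintro _ ⟨_, ⟨j, hj, rfl⟩, rfl⟩
  show g * S.Φ j * g⁻¹ ∈ S.J
  have hin := hK.conj_mem _ (hJK j hj) g
  obtain ⟨x, hx⟩ := htop hin
  rw [← hx] at hin ⊢
  have h := List.all_eq_true.mp hdec x.c (List.mem_range.mpr (hKker x hin))
  rw [Bool.and_eq_true] at h
  refine S.Φ_mem_J.mpr (impB_elim h.2 ?_)
  rw [Nat.beq_eq, ← code_cube, show x ^ 3 = 1 from S.inj (by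
    rw [map_pow, map_one, hx, conj_pow, ← map_pow, JE_cube hj, map_one, mul_one, mul_inv_cancel])]
  rfl

end Setup

end CfsgLib.AltNineThree
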