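import Cfsg.Agent.Lib.AltNineThree.Arith
import Cfsg.Agent.Lib.AltNineThree.CaseTab
import Cfsg.Agent.Lib.AltNineThree.JChar
import Cfsg.Agent.Lib.AltNineThree.NoFuse
import Cfsg.Agent.Lib.Char.TI
import Cfsg.Agent.Lib.Char.Kernel
import Cfsg.Agent.Lib.ZStar.Eight

/-!
If all translations have local centralizers, then `(036)(147)(258)` is not fused to `z`.
-/

set_option autoImplicit false
set_option linter.unusedSectionVars false
set_option linter.style.haveILetI false
set_option maxRecDepth 20000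

namespace CfsgLib.AltNineThree

open Cfsg CfsgLib.Char E9
open scoped ComplexConjugate

namespace E9

/-- The classes carrying the vectors. -/
def tC (x : ℕ) : Bool := Nat.ble 5 (clsC x)

/-- The fourth power of a code. -/
def fourC (x : ℕ) : ℕ := mulC (cubeC x) x

theorem tset_facts :
    allC (fun x => impB (tC x)
      ((jC (fourC x) && !Nat.beq (fourC x) 0 && Nat.beq (cubeC (fourC x)) 0) ||
        (jC (cubeC x) && !Nat.beq (cubeC x) 0 && Nat.beq (cubeC (cubeC x)) 0))) = true ∧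
    allC (fun x => impB (tC x) (impB (Nat.beq (cubeC (fourC x)) 0) (jC (fourC x)) &&
      impB (Nat.beq (cubeC (cubeC x)) 0) (jC (cubeC x)))) = true ∧
    allC (fun x => impB (tC x) (tC (invC x) && !Nat.beq (mulC x x) 0 && !Nat.beq x 0)) = true ∧
    allC (fun x => impB (Nat.beq (mulC x x) 0)
      (Nat.beq x 0 || Nat.beq (clsC x) 1 || Nat.beq (clsC x) 3)) = true ∧
    (mulC 27 27 = 0 ∧ mulC 162 162 = 0) := by
  refine ⟨?_, ?_, ?_, ?_, ?_, ?_⟩ <;> decide +kernel

theorem gen_facts :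
    allC (fun x => Nat.blt x 108 || inT2 x || Nat.blt (mulC x 162) 108 || inT2 (mulC x 162)) = true ∧
    allC (fun x => impB (inT2 x) (Nat.blt (mulC x (invC 324)) 108 || Nat.blt (mulC x 324) 108)) = true ∧
    allC (fun x => impB (pC x) (Nat.blt x 108 || inT2 x)) = true ∧
    mulC (conjC 162 3) (invC 3) = 15 ∧
    allJ (fun j => (List.range 24).any fun a => (List.range 24).any fun b =>
      Nat.beq (mulC (conjC (27 * a) 15) (conjC (27 * b) 15)) j) = true ∧
    ((List.range 27).any fun v => Nat.beq (mulC (invC 324) (conjC 81 324)) (mulC v 27)) = true ∧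
    allC (fun x => (sgnL.getD (clsC x) 0) == (if Nat.blt x 108 || inT2 x then (1 : ℤ) else -1)) = true ∧
    (Nat.blt 162 108 || inT2 162) = false := by
  refine ⟨?_, ?_, ?_, ?_, ?_, ?_, ?_, ?_⟩ <;> decide +kernel

theorem code_four (x : E9) : ((x ^ 4).c : ℕ) = fourC x.c := by
  rw [pow_succ, code_mul, code_cube]; rfl

end E9

namespace Setup

variable {G : Type*} [Group G] [Fintype G] (S : Setup G)
  (hloc : ∀ j ∈ JE, j ≠ 1 → Subgroup.centralizer ({S.Φ j} : Set G) ≤ S.Φ.range)
  (hdz : ∃ g : G, g * S.Φ dE * g⁻¹ = S.Φ zE)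

include hloc

/-- The classes carrying the vectors form a TI set. -/
theorem tset_ti {x y : E9} (hx : tC (x.c : ℕ) = true) (hy : tC (y.c : ℕ) = true) {g : G}
    (hg : g * S.Φ x * g⁻¹ = S.Φ y) : g ∈ S.Φ.range := by
  obtain ⟨h1, h2, -, -, -⟩ := tset_facts
  have hyJ := impB_elim (all_spec h2 y) hy
  rw [Bool.and_eq_true] at hyJ
  have key : ∀ m : ℕ, g * S.Φ (x ^ m) * g⁻¹ = S.Φ (y ^ m) := fun m => by
    rw [map_pow, map_pow, ← hg, conj_pow]
  have hpow : ∀ m : ℕ, (x ^ m) ^ 3 = 1 → (y ^ m) ^ 3 = 1 := fun m e => S.inj (by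
    rw [← pow_mul, ← key (m * 3), pow_mul, e, map_one, mul_one, mul_inv_cancel])
  have hnz : ∀ z : E9, (!Nat.beq (z.c : ℕ) 0) = true → z ≠ 1 := fun z h e => by
    rw [e] at h; exact Bool.false_ne_true h
  have hx' := impB_elim (all_spec h1 x) hx
  simp only [Bool.or_eq_true, Bool.and_eq_true] at hx'
  rcases hx' with ⟨⟨hj, hne⟩, hcube⟩ | ⟨⟨hj, hne⟩, hcube⟩
  · rw [← code_four] at hj hne hcube
    have e3 := hpow 4 (code_inj (by rw [code_cube]; exact Nat.eq_of_beq_eq_true hcube))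
    have hJy : y ^ 4 ∈ JE := mem_JE.mpr (by
      rw [code_four]
      refine impB_elim hyJ.1 ?_
      rw [← code_four, ← code_cube, e3]; rfl)
    exact S.mem_range_of_conj (mem_JE.mpr hj) (hnz _ hne) (hloc _ (mem_JE.mpr hj) (hnz _ hne))
      (key 4 ▸ S.Φ_mem_J.mpr hJy)
  · rw [← code_cube] at hj hne hcube
    have e3 := hpow 3 (code_inj (by rw [code_cube]; exact Nat.eq_of_beq_eq_true hcube))
    have hJy : y ^ 3 ∈ JE := mem_JE.mpr (by
      rw [code_cube]
      refine impB_elim hyJ.2 ?_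
      rw [← code_cube, ← code_cube, e3]; rfl)
    exact S.mem_range_of_conj (mem_JE.mpr hj) (hnz _ hne) (hloc _ (mem_JE.mpr hj) (hnz _ hne))
      (key 3 ▸ S.Φ_mem_J.mpr hJy)

/-- The two kinds of involutions in `N(J)`. -/
theorem invol_cls (x : E9) :
    (IsConj (S.Φ (mk' 27)) (S.Φ x) ↔ clsC (x.c : ℕ) = 1) ∧
      (IsConj (S.Φ (mk' 162)) (S.Φ x) ↔ clsC (x.c : ℕ) = 3) := by
  obtain ⟨-, -, -, hinv, hu, hs⟩ := tset_facts
  have hrep : ∀ y : E9, ∀ k r : ℕ, clsC (y.c : ℕ) = k → repC k = r →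
      IsConj (S.Φ (mk' r)) (S.Φ y) := by
    intro y k r hk hr
    obtain ⟨-, h, e⟩ := exists_conj_rep y
    rw [hk, hr] at e
    exact isConj_iff.mpr ⟨S.Φ h, by rw [← map_inv, ← map_mul, ← map_mul, e]⟩
  have hcases : ∀ a : E9, a * a = 1 → a ≠ 1 → IsConj (S.Φ a) (S.Φ x) →
      clsC (x.c : ℕ) = 1 ∨ clsC (x.c : ℕ) = 3 := by
    intro a ha ha1 hc
    obtain ⟨g, hg⟩ := isConj_iff.mp hc
    have hxx : x * x = 1 := S.inj (by
      rw [map_mul, ← hg, conj_mul, ← map_mul, ha, map_one, mul_one, mul_inv_cancel])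
    have hx1 : x ≠ 1 := fun e => ha1 (S.inj (by
      rw [e, map_one] at hg
      rw [map_one]; exact conj_eq_one_iff.mp hg))
    have h := impB_elim (all_spec hinv x) (by rw [← code_mul, hxx]; rfl)
    simp only [Bool.or_eq_true, Nat.beq_eq] at h
    rcases h with (h | h) | h
    · exact absurd (code_inj h) hx1
    · exact Or.inl h
    · exact Or.inr h
  have hne := S.not_conj_u_s hloc
  have hmk : ∀ n : ℕ, n < 648 → n ≠ 0 → mulC n n = 0 → mk' n * mk' n = 1 ∧ mk' n ≠ 1 :=
    fun n hn h0 e => ⟨code_inj (by rw [code_mul, code_mk hn, e]; rfl), fun h => h0 (by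
      have := congrArg (fun z : E9 => (z.c : ℕ)) h
      simpa [code_mk hn, code_one] using this)⟩
  refine ⟨⟨fun hc => ?_, fun h => hrep x 1 27 h rfl⟩, ⟨fun hc => ?_, fun h => hrep x 3 162 h rfl⟩⟩
  · obtain ⟨e, e1⟩ := hmk 27 (by norm_num) (by norm_num) hu
    refine (hcases _ e e1 hc).resolve_right fun h => ?_
    obtain ⟨g, hg⟩ := isConj_iff.mp (hc.trans (hrep x 3 162 h rfl).symm)
    exact hne g hg
  · obtain ⟨e, e1⟩ := hmk 162 (by norm_num) (by norm_num) hs
    refine (hcases _ e e1 hc).resolve_left fun h => ?_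
    obtain ⟨g, hg⟩ := isConj_iff.mp ((hrep x 1 27 h rfl).trans hc.symm)
    exact hne g hg

/-- Two involutions with product in the TI set both normalize `J`. -/
theorem pairs_card {a b : G} {ka kb : ℕ} (ha : a * a = 1) (hb : b * b = 1)
    (hA : ∀ x : E9, IsConj a (S.Φ x) ↔ clsC (x.c : ℕ) = ka)
    (hB : ∀ x : E9, IsConj b (S.Φ x) ↔ clsC (x.c : ℕ) = kb) (n : E9) (hn : tC (n.c : ℕ) = true) :
    Nat.card {p : G × G // IsConj a p.1 ∧ IsConj b p.2 ∧ p.1 * p.2 = S.Φ n} = cntC ka kb n.c := by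
  classical
  obtain ⟨-, -, hT, -, -⟩ := tset_facts
  have hTi := impB_elim (all_spec hT n) hn
  simp only [Bool.and_eq_true] at hTi
  have hsq : ∀ {c p : G}, c * c = 1 → IsConj c p → p * p = 1 := by
    intro c p hc h
    obtain ⟨g, rfl⟩ := isConj_iff.mp h
    rw [conj_mul, hc, mul_one, mul_inv_cancel]
  let f : {x : E9 // clsC (x.c : ℕ) = ka ∧ clsC ((x⁻¹ * n).c : ℕ) = kb} →
      {p : G × G // IsConj a p.1 ∧ IsConj b p.2 ∧ p.1 * p.2 = S.Φ n} := fun x =>
    ⟨(S.Φ x.1, S.Φ (x.1⁻¹ * n)), (hA _).mpr x.2.1, (hB _).mpr x.2.2,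
      by rw [← map_mul, mul_inv_cancel_left]⟩
  have hbij : Function.Bijective f := by
    refine ⟨fun x y e => Subtype.ext (S.inj (congrArg (fun q => q.1.1) e)), ?_⟩
    rintro ⟨⟨p, q⟩, hp, hq, hpq⟩
    have hp2 := hsq ha hp
    have hq2 := hsq hb hq
    have hinv : p * S.Φ n * p⁻¹ = S.Φ n⁻¹ := by
      have hp' : p⁻¹ = p := inv_eq_of_mul_eq_one_right hp2
      have hq' : q⁻¹ = q := inv_eq_of_mul_eq_one_right hq2
      rw [map_inv, ← hpq, mul_inv_rev, hq', hp', ← mul_assoc, hp2, one_mul]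
    obtain ⟨x, hx⟩ := S.tset_ti hloc hn (by rw [code_inv]; exact hTi.1.1) hinv
    have hqx : q = S.Φ (x⁻¹ * n) := by
      rw [map_mul, map_inv, hx, ← hpq, inv_mul_cancel_left]
    refine ⟨⟨x, (hA x).mp (hx ▸ hp), (hB _).mp (hqx ▸ hq)⟩, Subtype.ext (Prod.ext hx hqx.symm)⟩
  rw [← Nat.card_congr (Equiv.ofBijective f hbij), Nat.card_eq_fintype_card, Fintype.card_subtype,
    cntC, ← List.toFinset_card_of_nodup (List.nodup_range.filter _),
    ← Finset.card_map ⟨fun x : E9 => (x.c : ℕ), fun x y => code_inj⟩]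
  refine congrArg Finset.card ?_
  ext m
  simp only [Finset.mem_map, Finset.mem_filter, Finset.mem_univ, true_and, List.mem_toFinset,
    List.mem_filter, List.mem_range, Bool.and_eq_true, Nat.beq_eq, code_mul, code_inv,
    Function.Embedding.coeFn_mk]
  exact ⟨fun ⟨x, hx, e⟩ => e ▸ ⟨x.c.isLt, hx⟩,
    fun ⟨hm, e⟩ => ⟨mk' m, by rw [code_mk hm]; exact e, code_mk hm⟩⟩

/-- The sum against pairs of involutions. -/
theorem pair_sum {A B : List ℤ} (hz : zLow A B = true) {a b : G} {ka kb : ℕ} (ha : a * a = 1)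
    (hb : b * b = 1) (hA : ∀ x : E9, IsConj a (S.Φ x) ↔ clsC (x.c : ℕ) = ka)
    (hB : ∀ x : E9, IsConj b (S.Φ x) ↔ clsC (x.c : ℕ) = kb) (N : List ℕ)
    (hN : ∀ k, k < 14 → 5 ≤ k → cntC ka kb (repC k) = N.getD k 0) {q : ℤ}
    (h : 2 * pairR N A = 648 * q ∧ pairR N B = 0) :
    ∑ χ : IrrCharacter G, classInner (tabFun A B) (fun x => (χ : G → ℂ) (S.Φ x)) *
        ((χ : G → ℂ) a * (χ : G → ℂ) b / (χ : G → ℂ) 1) =
      (q : ℂ) / 2 * ((Nat.card G : ℂ) / (((Subgroup.centralizer ({a} : Set G)).index : ℂ) *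
        ((Subgroup.centralizer ({b} : Set G)).index : ℂ))) := by
  classical
  set R : ℂ := (Nat.card G : ℂ) / (((Subgroup.centralizer ({a} : Set G)).index : ℂ) *
    ((Subgroup.centralizer ({b} : Set G)).index : ℂ)) with hR
  set W : E9 → ℂ := fun x => ∑ χ : IrrCharacter G,
    (χ : G → ℂ) a * (χ : G → ℂ) b * conj ((χ : G → ℂ) (S.Φ x)) / (χ : G → ℂ) 1 with hW
  have hrep : ∀ k, k < 14 → repC k < 648 ∧ clsC (repC k) = k := by
    intro k hk; interval_cases k <;> decide +kernel
  have hterm : ∀ x : E9, tabFun A B x * W x =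
      tabVal A B (clsC x.c) * (N.getD (clsC x.c) 0 : ℂ) * R := by
    intro x
    obtain ⟨hk, g, e⟩ := exists_conj_rep x
    by_cases h5 : clsC (x.c : ℕ) < 5
    · have hv := tabFun_low hz h5
      rw [hv, zero_mul, ← tabFun_eq, hv, zero_mul, zero_mul]
    · set r := mk' (repC (clsC x.c)) with hr
      have hcr : (r.c : ℕ) = repC (clsC x.c) := code_mk (hrep _ hk).1
      have hWx : W x = W r := by
        simp only [hW]
        refine Finset.sum_congr rfl fun χ _ => ?_
        rw [← e, map_mul, map_mul, map_inv, isClassFunction_irr χ]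
      have hrT : tC (r.c : ℕ) = true := by
        rw [tC, hcr, (hrep _ hk).2]; exact Nat.ble_eq_true_of_le (not_lt.mp h5)
      have hm := class_mult a b (S.Φ r)
      rw [S.pairs_card hloc ha hb hA hB r hrT, hcr, hN _ hk (not_lt.mp h5)] at hm
      have hia : ((Subgroup.centralizer ({a} : Set G)).index : ℂ) ≠ 0 :=
        Nat.cast_ne_zero.mpr Subgroup.index_ne_zero_of_finite
      have hib : ((Subgroup.centralizer ({b} : Set G)).index : ℂ) ≠ 0 :=
        Nat.cast_ne_zero.mpr Subgroup.index_ne_zero_of_finite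
      have hG : (Nat.card G : ℂ) ≠ 0 := Nat.cast_ne_zero.mpr Nat.card_pos.ne'
      rw [hWx, tabFun_eq, mul_assoc]
      congr 1
      rw [hm, hR]
      simp only [hW]
      field_simp
  calc ∑ χ : IrrCharacter G, classInner (tabFun A B) (fun x => (χ : G → ℂ) (S.Φ x)) *
        ((χ : G → ℂ) a * (χ : G → ℂ) b / (χ : G → ℂ) 1)
      = (648 : ℂ)⁻¹ * ∑ x : E9, tabFun A B x * W x := by
        simp only [classInner, E9.card_eq, hW, Finset.mul_sum, Finset.sum_mul]
        rw [Finset.sum_comm]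
        refine Finset.sum_congr rfl fun x _ => Finset.sum_congr rfl fun χ _ => ?_
        push_cast
        ring
    _ = (648 : ℂ)⁻¹ * (((pairR N A : ℤ) : ℂ) + ((pairR N B : ℤ) : ℂ) * Real.sqrt 3) * R := by
        simp only [hterm]
        rw [sum_cls (fun k => tabVal A B k * (N.getD k 0 : ℂ) * R), pairR, pairR, wsum_eq, wsum_eq,
          Finset.sum_mul, ← Finset.sum_add_distrib, mul_assoc, Finset.sum_mul]
        congr 1
        refine Finset.sum_congr rfl fun k _ => ?_
        simp only [tabVal]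
        push_cast
        ring
    _ = _ := by
        have e : (2 : ℂ) * ((pairR N A : ℤ) : ℂ) = 648 * (q : ℂ) := by exact_mod_cast h.1
        rw [h.2]
        push_cast
        linear_combination (1 / 1296 : ℂ) * R * e

/-- The expansion of an induced vector. -/
theorem expand {A B : List ℤ} (hgen : IsGeneralizedCharacter E9 (tabFun A B)) (hz : zLow A B = true)
    {A' B' : List ℤ} (hgen' : IsGeneralizedCharacter E9 (tabFun A' B')) (hz' : zLow A' B' = true)
    {c c' : IrrCharacter G → ℤ}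
    (hc : ∀ χ, (c χ : ℂ) = classInner (tabFun A B) (fun x => (χ : G → ℂ) (S.Φ x)))
    (hc' : ∀ χ, (c' χ : ℂ) = classInner (tabFun A' B') (fun x => (χ : G → ℂ) (S.Φ x))) :
    (∀ g : G, g * g = 1 → ∑ χ : IrrCharacter G, (c χ : ℂ) * (χ : G → ℂ) g = 0) ∧
      ((∑ χ : IrrCharacter G, c χ * c' χ : ℤ) : ℂ) = classInner (tabFun A B) (tabFun A' B') := by
  classical
  obtain ⟨-, -, hT, -, -⟩ := tset_facts
  let e : E9 ≃* S.Φ.range := MonoidHom.ofInjective S.inj
  haveI : Fintype S.Φ.range := Fintype.ofFinite _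
  have he : ∀ x : E9, ((e x : S.Φ.range) : G) = S.Φ x := fun x => rfl
  have key : ∀ (A B : List ℤ), IsGeneralizedCharacter E9 (tabFun A B) → zLow A B = true →
      let f : S.Φ.range → ℂ := fun n => tabFun A B (e.symm n)
      IsClassFunction S.Φ.range f ∧
      (∀ n : S.Φ.range, (n : G) ∉ {g : G | ∃ x : E9, tC (x.c : ℕ) = true ∧ S.Φ x = g} → f n = 0) ∧
      (∀ χ : IrrCharacter G, classInner (indFun S.Φ.range f) (χ : G → ℂ) =
        classInner (tabFun A B) (fun x => (χ : G → ℂ) (S.Φ x))) := by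
    intro A B hg hz f
    refine ⟨isClassFunction_of_isGeneralized (isGeneralized_comp e.symm.toMonoidHom hg),
      fun n hn => ?_, fun χ => ?_⟩
    · refine tabFun_low hz (not_le.mp fun h => hn ⟨e.symm n, Nat.ble_eq_true_of_le h, ?_⟩)
      rw [← he, MulEquiv.apply_symm_apply]
    · rw [frobenius_reciprocity _ f (isClassFunction_irr χ), ← classInner_comp_equiv e]
      congr 1
      funext x
      simp only [f, MulEquiv.symm_apply_apply]
  obtain ⟨hcl, hsupp, hcoef⟩ := key A B hgen hz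
  obtain ⟨hcl', hsupp', hcoef'⟩ := key A' B' hgen' hz'
  set f : S.Φ.range → ℂ := fun n => tabFun A B (e.symm n) with hf
  set f' : S.Φ.range → ℂ := fun n => tabFun A' B' (e.symm n) with hf'
  have hf1 : f 1 = 0 := by
    simp only [hf, map_one]
    exact tabFun_low hz (by decide +kernel)
  have hexp : ∀ (φ : S.Φ.range → ℂ) (d : IrrCharacter G → ℤ),
      (∀ χ : IrrCharacter G, classInner (indFun S.Φ.range φ) (χ : G → ℂ) = (d χ : ℂ)) →
      indFun S.Φ.range φ = ∑ χ : IrrCharacter G, (d χ : ℂ) • (χ : G → ℂ) := by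
    intro φ d hd
    conv_lhs => rw [classFunction_expansion (isClassFunction_indFun S.Φ.range φ)]
    exact Finset.sum_congr rfl fun χ _ => by rw [hd]
  have e1 := hexp f c fun χ => by rw [hcoef, hc]
  have e2 := hexp f' c' fun χ => by rw [hcoef', hc']
  refine ⟨fun g hg => ?_, ?_⟩
  · have hzero : indFun S.Φ.range f g = 0 := by
      simp only [indFun]
      rw [Finset.sum_eq_zero fun x _ => ?_, mul_zero]
      by_cases hx : x⁻¹ * g * x ∈ S.Φ.range
      · rw [extendByZero_mem _ f hx]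
        refine hsupp _ ?_
        rintro ⟨y, hy, hey⟩
        have hsq : y * y = 1 := S.inj (by
          rw [map_mul, map_one, hey]
          show x⁻¹ * g * x * (x⁻¹ * g * x) = 1
          rw [show x⁻¹ * g * x * (x⁻¹ * g * x) = x⁻¹ * (g * g) * x by group, hg, mul_one,
            inv_mul_cancel])
        have h := impB_elim (all_spec hT y) hy
        simp only [Bool.and_eq_true] at h
        have h' := h.1.2
        rw [← code_mul, hsq] at h'
        exact Bool.false_ne_true h'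
      · exact extendByZero_notMem _ f hx
    have h := congrFun e1 g
    rw [hzero, Finset.sum_apply] at h
    exact (Finset.sum_congr rfl fun χ _ => by rw [Pi.smul_apply, smul_eq_mul]).trans h.symm
  · have hTI : ∀ g : G, g ∉ S.Φ.range → ∀ t ∈ {g : G | ∃ x : E9, tC (x.c : ℕ) = true ∧ S.Φ x = g},
        g * t * g⁻¹ ∈ {g : G | ∃ x : E9, tC (x.c : ℕ) = true ∧ S.Φ x = g} → t = 1 := by
      rintro g hg _ ⟨x, hx, rfl⟩ ⟨y, hy, hxy⟩
      exact absurd (S.tset_ti hloc hx hy hxy.symm) hg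
    have h := classInner_indFun_of_ti S.Φ.range _ hTI f f' hcl' hsupp hsupp' hf1
    rw [e1, e2, classInner_sum_smul_sum_smul] at h
    rw [← classInner_comp_equiv e.symm, ← h]
    push_cast
    exact Finset.sum_congr rfl fun χ _ => by rw [map_intCast]

include hdz

omit hloc in
/-- A normal subgroup containing `u` contains the even block permutations. -/
theorem even_mem {K : Subgroup G} [hK : K.Normal] (huK : S.Φ (mk' 27) ∈ K) :
    (∀ x : E9, ((x.c : ℕ) < 108 ∨ inT2 (x.c : ℕ) = true) → S.Φ x ∈ K) ∧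
      ∀ g : G, g ∈ K ∨ g * S.Φ (mk' 162) ∈ K := by
  classical
  haveI := Fact.mk Nat.prime_three
  obtain ⟨hall, hT2, hP, -⟩ := gen_facts
  have hker := S.mem_of_mem_u (K := K) huK
  have hd : S.Φ dE ∈ K := by
    obtain ⟨g, hg⟩ := hdz
    have hz : S.Φ zE ∈ K := hker zE (by decide +kernel)
    have := hK.conj_mem _ hz g⁻¹
    rwa [← hg, inv_inv, show g⁻¹ * (g * S.Φ dE * g⁻¹) * g = S.Φ dE by group] at this
  have heven : ∀ x : E9, ((x.c : ℕ) < 108 ∨ inT2 (x.c : ℕ) = true) → S.Φ x ∈ K := by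
    intro x hx
    rcases hx with hx | hx
    · exact hker x hx
    · have h := impB_elim (all_spec hT2 x) hx
      rw [Bool.or_eq_true] at h
      rcases h with h | h
      · have hm : S.Φ (x * dE⁻¹) ∈ K := hker _ (by
          rw [code_mul, code_inv]; exact Nat.le_of_ble_eq_true h)
        have := mul_mem hm hd
        rwa [map_mul, map_inv, inv_mul_cancel_right] at this
      · have hm : S.Φ (x * dE) ∈ K := hker _ (by rw [code_mul]; exact Nat.le_of_ble_eq_true h)
        have := mul_mem hm (inv_mem hd)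
        rwa [map_mul, mul_inv_cancel_right] at this
  refine ⟨heven, fun g => ?_⟩
  have hPK : S.P ≤ K := by
    rintro _ ⟨p, hp, rfl⟩
    have h := impB_elim (all_spec hP p) (mem_PE.mp hp)
    rw [Bool.or_eq_true] at h
    exact heven p (h.imp (fun h => Nat.le_of_ble_eq_true h) id)
  have hfrat := Sylow.normalizer_sup_eq_top (S.sylow.subtype (show (S.sylow : Subgroup G) ≤ K from hPK))
  rw [Sylow.coe_subtype, Subgroup.map_subgroupOf_eq_of_le (show (S.sylow : Subgroup G) ≤ K from hPK)] at hfrat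
  obtain ⟨n, hn, k, hk, rfl⟩ := Subgroup.mem_sup_of_normal_right.mp (hfrat ▸ Subgroup.mem_top g)
  obtain ⟨x, rfl⟩ : n ∈ S.Φ.range := by
    refine S.normalizer_J (Subgroup.mem_normalizer_iff_map_conj_eq.mpr ?_)
    refine S.unique ?_ ((Subgroup.card_map_of_injective (MulAut.conj n).injective).trans S.card_J) ?_
    · rintro _ ⟨j, hj, rfl⟩
      exact (Subgroup.mem_normalizer_iff.mp hn j).mp (S.J_le_P hj)
    · rintro _ ⟨p, hp, rfl⟩ _ ⟨q, hq, rfl⟩
      rw [← map_mul, ← map_mul, S.J_comm hp hq]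
  have h := all_spec hall x
  simp only [Bool.or_eq_true] at h
  rcases h with ((h | h) | h) | h
  · exact Or.inl (mul_mem (heven x (Or.inl (Nat.le_of_ble_eq_true h))) hk)
  · exact Or.inl (mul_mem (heven x (Or.inr h)) hk)
  all_goals
    refine Or.inr ?_
    have hm : S.Φ (x * mk' 162) ∈ K := heven _ (by
      rw [code_mul, code_mk (by norm_num)]
      first
        | exact Or.inl (Nat.le_of_ble_eq_true h)
        | exact Or.inr h)
    have := mul_mem hm (hK.conj_mem _ hk (S.Φ (mk' 162))⁻¹)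
    rw [map_mul, inv_inv] at this
    rwa [show S.Φ x * S.Φ (mk' 162) * ((S.Φ (mk' 162))⁻¹ * k * S.Φ (mk' 162)) =
      S.Φ x * k * S.Φ (mk' 162) by group] at this

omit hloc in
/-- A normal subgroup containing the translations contains `u`. -/
theorem u_mem {K : Subgroup G} [hK : K.Normal] (hJ : ∀ j ∈ JE, S.Φ j ∈ K) :
    S.Φ (mk' 27) ∈ K := by
  obtain ⟨-, -, -, -, -, h, -⟩ := gen_facts
  rw [List.any_eq_true] at h
  obtain ⟨v, hv, e⟩ := h
  have hv27 := List.mem_range.mp hv
  have hd : S.Φ dE ∈ K := by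
    obtain ⟨g, hg⟩ := hdz
    have := hK.conj_mem _ (hJ zE zType_zE.2.1) g⁻¹
    rwa [← hg, inv_inv, show g⁻¹ * (g * S.Φ dE * g⁻¹) * g = S.Φ dE by group] at this
  have e' : dE⁻¹ * (mk' 81 * dE * (mk' 81)⁻¹) = mk' v * mk' 27 := code_inj (by
    rw [code_mul dE⁻¹, code_inv, code_conj, code_mul, code_mk (show v < 648 by omega), code_mk (by norm_num),
      code_mk (by norm_num), show (dE.c : ℕ) = 324 from code_mk (by norm_num)]
    exact Nat.eq_of_beq_eq_true e)
  have h2 : S.Φ (mk' v * mk' 27) ∈ K := by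
    rw [← e']
    simp only [map_mul, map_inv]
    exact mul_mem (inv_mem hd) (hK.conj_mem _ hd _)
  have hj : S.Φ (mk' v) ∈ K := hJ _ (mem_JE.mpr (by
    rw [code_mk (by omega)]; exact Nat.ble_eq_true_of_le hv27))
  have := mul_mem (inv_mem hj) h2
  rwa [map_mul, inv_mul_cancel_left] at this

omit hloc in
/-- A normal subgroup containing `s` contains the translations. -/
theorem J_mem_of_s {K : Subgroup G} [hK : K.Normal] (hs : S.Φ (mk' 162) ∈ K) :
    ∀ j ∈ JE, S.Φ j ∈ K := by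
  obtain ⟨-, -, -, h15, hgen, -⟩ := gen_facts
  have e15 : mk' 162 * mk' 3 * (mk' 162)⁻¹ * (mk' 3)⁻¹ = mk' 15 := code_inj (by
    rw [code_mul, code_conj, code_inv, code_mk (by norm_num), code_mk (by norm_num),
      code_mk (by norm_num)]
    exact h15)
  have hm15 : S.Φ (mk' 15) ∈ K := by
    rw [← e15]
    simp only [map_mul, map_inv]
    rw [show S.Φ (mk' 162) * S.Φ (mk' 3) * (S.Φ (mk' 162))⁻¹ * (S.Φ (mk' 3))⁻¹ =
      S.Φ (mk' 162) * (S.Φ (mk' 3) * (S.Φ (mk' 162))⁻¹ * (S.Φ (mk' 3))⁻¹) by group]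
    exact mul_mem hs (hK.conj_mem _ (inv_mem hs) _)
  intro j hj
  have h := allJ_spec hgen hj
  simp only [List.any_eq_true, List.mem_range] at h
  obtain ⟨a, ha, b, hb, e⟩ := h
  have e' : (mk' (27 * a) * mk' 15 * (mk' (27 * a))⁻¹) *
      (mk' (27 * b) * mk' 15 * (mk' (27 * b))⁻¹) = j := code_inj (by
    rw [code_mul, code_conj, code_conj, code_mk (by omega), code_mk (by norm_num),
      code_mk (by omega)]
    exact Nat.eq_of_beq_eq_true e)
  rw [← e']
  simp only [map_mul, map_inv]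
  exact mul_mem (hK.conj_mem _ hm15 _) (hK.conj_mem _ hm15 _)

omit hloc in
/-- A nontrivial constituent does not contain `s` in its kernel, and only signs restrict like that
when `u` is in the kernel. -/
theorem kernel_cases (χ : IrrCharacter G) (hχ : (χ : G → ℂ) ≠ fun _ => 1) :
    (χ : G → ℂ) (S.Φ (mk' 162)) ≠ (χ : G → ℂ) 1 ∧
    ((χ : G → ℂ) (S.Φ (mk' 27)) = (χ : G → ℂ) 1 →
      ∀ x : E9, (χ : G → ℂ) (S.Φ x) = (χ : G → ℂ) 1 * tabFun sgnL [] x) ∧
    ((∀ j ∈ JE, (χ : G → ℂ) (S.Φ j) = (χ : G → ℂ) 1) →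
      (χ : G → ℂ) (S.Φ (mk' 27)) = (χ : G → ℂ) 1) := by
  classical
  obtain ⟨K, hK, hmem, htrans⟩ := exists_kernel (isCharacter_of_isIrr χ.2)
  haveI := hK
  have hs2 : S.Φ (mk' 162) * S.Φ (mk' 162) = 1 := by
    rw [← map_mul, ← map_one S.Φ]
    exact congrArg S.Φ (code_inj (by
      rw [code_mul, code_mk (by norm_num)]; exact tset_facts.2.2.2.2.2))
  have hsK : S.Φ (mk' 162) ∉ K := by
    intro hs
    obtain ⟨-, hhalf⟩ := S.even_mem hdz (K := K) (S.u_mem hdz (K := K) (S.J_mem_of_s hdz (K := K) hs))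
    have htop : ∀ g : G, g ∈ K := fun g => (hhalf g).elim id fun h => by
      have := mul_mem h (inv_mem hs)
      rwa [mul_inv_cancel_right] at this
    refine hχ ((irr_eq_of_smul_eq χ.2 isIrrCharacter_one (a := (χ : G → ℂ) 1) ?_).1)
    funext g
    rw [Pi.smul_apply, smul_eq_mul, mul_one]
    exact (hmem g).mp (htop g)
  refine ⟨fun h => hsK ((hmem _).mpr h), fun hu => ?_, fun hJ =>
    (hmem _).mp (S.u_mem hdz (K := K) fun j hj => (hmem _).mpr (hJ j hj))⟩
  obtain ⟨heven, hhalf⟩ := S.even_mem hdz (K := K) ((hmem _).mpr hu)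
  set s := S.Φ (mk' 162) with hs
  have hout : ∀ g : G, g ∉ K → (χ : G → ℂ) g = (χ : G → ℂ) s := by
    intro g hg
    have := htrans _ ((hhalf g).resolve_left hg) s
    rwa [mul_assoc, hs2, mul_one] at this
  have hpair : ∀ g : G, (χ : G → ℂ) g + (χ : G → ℂ) (g * s) = (χ : G → ℂ) 1 + (χ : G → ℂ) s := by
    intro g
    by_cases hg : g ∈ K
    · rw [(hmem g).mp hg, htrans g hg s]
    · rw [hout g hg, (hmem _).mp ((hhalf g).resolve_left hg), add_comm]
  have hsum : ∑ g : G, (χ : G → ℂ) g = 0 := by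
    have h0 := classInner_irr_ne χ.2 isIrrCharacter_one hχ
    simp only [classInner, map_one, mul_one] at h0
    exact (mul_eq_zero.mp h0).resolve_left (inv_ne_zero (Nat.cast_ne_zero.mpr Nat.card_pos.ne'))
  have hneg : (χ : G → ℂ) s = -(χ : G → ℂ) 1 := by
    have h2 : ∑ g : G, ((χ : G → ℂ) g + (χ : G → ℂ) (g * s)) = 0 := by
      rw [Finset.sum_add_distrib, hsum, zero_add]
      exact (Equiv.sum_comp (Equiv.mulRight s) fun g => (χ : G → ℂ) g).trans hsum
    rw [Finset.sum_congr rfl fun g _ => hpair g, Finset.sum_const, Finset.card_univ,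
      nsmul_eq_mul, mul_eq_zero] at h2
    exact eq_neg_of_add_eq_zero_right (h2.resolve_left (Nat.cast_ne_zero.mpr Fintype.card_ne_zero))
  intro x
  obtain ⟨-, -, -, -, -, -, hsg, h162⟩ := gen_facts
  have hx := all_spec hsg x
  rw [beq_iff_eq] at hx
  rw [tabFun, hx]
  by_cases h : (Nat.blt (x.c : ℕ) 108 || inT2 (x.c : ℕ)) = true
  · rw [if_pos h, (hmem _).mp (heven x ?_)]
    · simp
    · rw [Bool.or_eq_true] at h
      exact h.imp (fun h => Nat.le_of_ble_eq_true h) id
  · rw [if_neg h]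
    have hxK : S.Φ x ∉ K := by
      intro hxK
      obtain ⟨hall, -⟩ := gen_facts
      have h' := all_spec hall x
      simp only [Bool.or_eq_true] at h'
      have hm : S.Φ (x * mk' 162) ∈ K := heven _ (by
        rw [code_mul, code_mk (by norm_num)]
        rcases h' with ((h' | h') | h') | h'
        · exact absurd (Bool.or_eq_true _ _ ▸ Or.inl h') h
        · exact absurd (Bool.or_eq_true _ _ ▸ Or.inr h') h
        · exact Or.inl (Nat.le_of_ble_eq_true h')
        · exact Or.inr h')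
      have := mul_mem (inv_mem hxK) hm
      rw [map_mul, inv_mul_cancel_left] at this
      exact hsK this
    rw [hout _ hxK, hneg]
    simp

omit hloc in
/-- The conditions on the constituents. -/
theorem constituent (χ : IrrCharacter G) (hχ : (χ : G → ℂ) ≠ fun _ => 1) {d : ℕ}
    (hd : (χ : G → ℂ) 1 = d) {A B : List ℤ} (hsgn : gramR A B sgnL [] = 0 ∧ gramI A B sgnL [] = 0)
    (hne : classInner (tabFun A B) (fun x => (χ : G → ℂ) (S.Φ x)) ≠ 0) :
    6 ≤ d ∧ (χ : G → ℂ) (S.Φ (mk' 27)) ≠ d ∧ (χ : G → ℂ) (S.Φ (mk' 162)) ≠ d := by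
  obtain ⟨hs, hu, hJ⟩ := S.kernel_cases hdz χ hχ
  have hu' : (χ : G → ℂ) (S.Φ (mk' 27)) ≠ (χ : G → ℂ) 1 := by
    intro e
    refine hne ?_
    have hres : (fun x : E9 => (χ : G → ℂ) (S.Φ x)) = (χ : G → ℂ) 1 • tabFun sgnL [] :=
      funext fun x => by rw [Pi.smul_apply, smul_eq_mul, hu e x]
    rw [hres, classInner_smul_right, inner_tab (q := 0) (by simpa using hsgn), Int.cast_zero, mul_zero]
  refine ⟨?_, hd ▸ hu', hd ▸ hs⟩
  refine six_le_degree (χ := fun x => (χ : G → ℂ) (S.Φ x))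
    (isCharacter_comp S.Φ (isCharacter_of_isIrr χ.2)) (by rw [map_one, hd]) ?_
  by_contra hn
  push Not at hn
  exact hu' (hJ fun j hj => by have := hn j hj; rwa [map_one] at this)

/-- Local centralizers exclude the fusion of `d` with `z`. -/
theorem case_c : False := by
  classical
  haveI : Finite (IrrCharacter G) := finite_irrCharacter
  set u := S.Φ (mk' 27) with hu
  set s := S.Φ (mk' 162) with hs
  obtain ⟨-, -, -, -, hu0, hs0⟩ := tset_facts
  have huu : u * u = 1 := by
    rw [hu, ← map_mul, ← map_one S.Φ]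
    exact congrArg S.Φ (code_inj (by rw [code_mul, code_mk (by norm_num)]; exact hu0))
  have hss : s * s = 1 := by
    rw [hs, ← map_mul, ← map_one S.Φ]
    exact congrArg S.Φ (code_inj (by rw [code_mul, code_mk (by norm_num)]; exact hs0))
  have hcu : ∀ x : E9, IsConj u (S.Φ x) ↔ clsC (x.c : ℕ) = 1 := fun x => (S.invol_cls hloc x).1
  have hcs : ∀ x : E9, IsConj s (S.Φ x) ↔ clsC (x.c : ℕ) = 3 := fun x => (S.invol_cls hloc x).2
  choose dg hdg0 hdg using fun χ : IrrCharacter G => exists_nat_degree_irr χ.2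
  choose nu hnu using fun χ : IrrCharacter G => ZStar.exists_int_value_involution (χ := χ) huu
  choose ns hns using fun χ : IrrCharacter G => ZStar.exists_int_value_involution (χ := χ) hss
  have hd0 : ∀ χ, (dg χ : ℂ) ≠ 0 := fun χ => by rw [← hdg]; exact irr_degree_ne_zero χ.2
  let one : IrrCharacter G := ⟨fun _ => 1, isIrrCharacter_one⟩
  let ι := {χ : IrrCharacter G // χ ≠ one}
  haveI : Fintype ι := Fintype.ofFinite _
  have hι : ∀ {M : Type} [AddCommGroup M] (F : IrrCharacter G → M),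
      ∑ i : ι, F i.1 = (∑ χ : IrrCharacter G, F χ) - F one := by
    intro M _ F
    rw [← Finset.sum_erase_add _ _ (Finset.mem_univ one), add_sub_cancel_right]
    exact (Finset.sum_subtype _ (fun χ => by simp) F).symm
  have hne : ∀ i : ι, ((i.1 : IrrCharacter G) : G → ℂ) ≠ fun _ => 1 :=
    fun i e => i.2 (Subtype.ext e)
  set iu : ℕ := (Subgroup.centralizer ({u} : Set G)).index with hiu
  set is : ℕ := (Subgroup.centralizer ({s} : Set G)).index with his
  have hiu0 : iu ≠ 0 := Subgroup.index_ne_zero_of_finite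
  have his0 : is ≠ 0 := Subgroup.index_ne_zero_of_finite
  let d : ι → ℤ := fun i => dg i.1
  let zu : ι → ℚ := fun i => ((nu i.1 - dg i.1 : ℤ) : ℚ)
  let zs : ι → ℚ := fun i => ((ns i.1 - dg i.1 : ℤ) : ℚ)
  have hone_d : dg one = 1 := by
    have h : (1 : ℂ) = dg one := hdg one
    exact_mod_cast h.symm
  have hone_u : nu one = 1 := by
    have h : (1 : ℂ) = nu one := hnu one
    exact_mod_cast h.symm
  have hone_s : ns one = 1 := by
    have h : (1 : ℂ) = ns one := hns one
    exact_mod_cast h.symm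
  have mk : ∀ (A B : List ℤ), IsGeneralizedCharacter E9 (tabFun A B) →
      ∃ c : IrrCharacter G → ℤ,
        ∀ χ, (c χ : ℂ) = classInner (tabFun A B) (fun x => (χ : G → ℂ) (S.Φ x)) := by
    intro A B hg
    choose c hc using fun χ : IrrCharacter G => exists_int_classInner hg
      (isGeneralized_comp S.Φ (isGeneralized_of_isIrr χ.2))
    exact ⟨c, fun χ => (hc χ).symm⟩
  -- all that is used about one vector
  have vec : ∀ {A B : List ℤ} (c : IrrCharacter G → ℤ) (t : ℤ),
      IsGeneralizedCharacter E9 (tabFun A B) → zLow A B = true →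
      (gramR A B oneL [] = 648 * t ∧ gramI A B oneL [] = 0) →
      (∀ χ, (c χ : ℂ) = classInner (tabFun A B) (fun x => (χ : G → ℂ) (S.Φ x))) →
      c one = t ∧ (∑ i : ι, (c i.1 : ℚ) * d i = -t) ∧
      (∑ i : ι, (c i.1 : ℚ) * zu i = 0) ∧ (∑ i : ι, (c i.1 : ℚ) * zs i = 0) ∧
      (∀ (N : List ℕ) (q : ℤ), (∀ k, k < 14 → 5 ≤ k → cntC 1 1 (repC k) = N.getD k 0) →
        (2 * pairR N A = 648 * q ∧ pairR N B = 0) →
        ∑ i : ι, (c i.1 : ℚ) * (zu i ^ 2 / d i) = q / 2 * ((Nat.card G : ℚ) / (iu * iu))) ∧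
      (∀ (N : List ℕ) (q : ℤ), (∀ k, k < 14 → 5 ≤ k → cntC 3 3 (repC k) = N.getD k 0) →
        (2 * pairR N A = 648 * q ∧ pairR N B = 0) →
        ∑ i : ι, (c i.1 : ℚ) * (zs i ^ 2 / d i) = q / 2 * ((Nat.card G : ℚ) / (is * is))) ∧
      (∀ (N : List ℕ) (q : ℤ), (∀ k, k < 14 → 5 ≤ k → cntC 1 3 (repC k) = N.getD k 0) →
        (2 * pairR N A = 648 * q ∧ pairR N B = 0) →
        ∑ i : ι, (c i.1 : ℚ) * (zu i * zs i / d i) = q / 2 * ((Nat.card G : ℚ) / (iu * is))) := by
    intro A B c t hg hz ht hc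
    obtain ⟨hval, -⟩ := S.expand hloc hg hz hg hz hc hc
    have hc1 : c one = t := by
      have h := hc one
      rw [show (fun x : E9 => (one : G → ℂ) (S.Φ x)) = tabFun oneL [] from tab_one.symm,
        inner_tab ht] at h
      exact_mod_cast h
    have e1 : ∑ χ : IrrCharacter G, (c χ : ℚ) * (dg χ : ℚ) = 0 := by
      have h := hval 1 (one_mul 1)
      simp only [hdg] at h
      apply Rat.cast_injective (α := ℂ)
      push_cast
      exact h
    have eu : ∑ χ : IrrCharacter G, (c χ : ℚ) * (nu χ : ℚ) = 0 := by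
      have h := hval u huu
      simp only [hnu] at h
      apply Rat.cast_injective (α := ℂ)
      push_cast
      exact h
    have es : ∑ χ : IrrCharacter G, (c χ : ℚ) * (ns χ : ℚ) = 0 := by
      have h := hval s hss
      simp only [hns] at h
      apply Rat.cast_injective (α := ℂ)
      push_cast
      exact h
    have sumι : ∀ F : IrrCharacter G → ℚ, F one = 0 →
        ∑ i : ι, F i.1 = ∑ χ : IrrCharacter G, F χ := fun F h => by rw [hι, h, sub_zero]
    have hdQ : ∀ χ, (dg χ : ℚ) ≠ 0 := fun χ => by exact_mod_cast (hdg0 χ).ne'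
    have quad : ∀ (a b : G) (na nb : IrrCharacter G → ℤ), na one = 1 → nb one = 1 →
        (∀ χ : IrrCharacter G, (χ : G → ℂ) a = na χ) → (∀ χ : IrrCharacter G, (χ : G → ℂ) b = nb χ) →
        (∑ χ : IrrCharacter G, (c χ : ℚ) * (na χ : ℚ) = 0) →
        (∑ χ : IrrCharacter G, (c χ : ℚ) * (nb χ : ℚ) = 0) → ∀ r : ℚ,
        ∑ χ : IrrCharacter G, classInner (tabFun A B) (fun x => (χ : G → ℂ) (S.Φ x)) *
          ((χ : G → ℂ) a * (χ : G → ℂ) b / (χ : G → ℂ) 1) = (r : ℂ) →
        ∑ i : ι, (c i.1 : ℚ) * (((na i.1 - dg i.1 : ℤ) : ℚ) * ((nb i.1 - dg i.1 : ℤ) : ℚ) /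
          (d i : ℚ)) = r := by
      intro a b na nb ha1 hb1 hna hnb ea eb r hr
      have e2 : ∑ χ : IrrCharacter G, (c χ : ℚ) * ((na χ : ℚ) * nb χ / dg χ) = r := by
        apply Rat.cast_injective (α := ℂ)
        push_cast
        rw [← hr]
        exact Finset.sum_congr rfl fun χ _ => by rw [hc, hna, hnb, hdg]
      have hs' := sumι (fun χ => (c χ : ℚ) * (((na χ - dg χ : ℤ) : ℚ) * ((nb χ - dg χ : ℤ) : ℚ) /
        (dg χ : ℚ))) (by simp [ha1, hb1, hone_d])
      simp only [d, Int.cast_natCast]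
      rw [hs']
      have e : ∀ χ : IrrCharacter G,
          (c χ : ℚ) * (((na χ - dg χ : ℤ) : ℚ) * ((nb χ - dg χ : ℤ) : ℚ) / (dg χ : ℚ)) =
          (c χ : ℚ) * ((na χ : ℚ) * nb χ / dg χ) - (c χ : ℚ) * na χ - (c χ : ℚ) * nb χ +
            (c χ : ℚ) * dg χ := by
        intro χ
        have := hdQ χ
        push_cast
        field_simp
        ring
      rw [Finset.sum_congr rfl fun χ _ => e χ, Finset.sum_add_distrib, Finset.sum_sub_distrib,
        Finset.sum_sub_distrib, e2, ea, eb, e1]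
      ring
    refine ⟨hc1, ?_, ?_, ?_, fun N q hN hq => ?_, fun N q hN hq => ?_, fun N q hN hq => ?_⟩
    · have := hι (fun χ => (c χ : ℚ) * (dg χ : ℚ))
      simp only [e1, hc1, hone_d, Nat.cast_one, mul_one, zero_sub] at this
      simpa [d] using this
    · have := sumι (fun χ => (c χ : ℚ) * ((nu χ - dg χ : ℤ) : ℚ)) (by simp [hone_u, hone_d])
      simp only [Int.cast_sub, Int.cast_natCast, mul_sub, Finset.sum_sub_distrib, eu, e1, sub_zero]
        at this
      simpa [zu, mul_sub] using this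
    · have := sumι (fun χ => (c χ : ℚ) * ((ns χ - dg χ : ℤ) : ℚ)) (by simp [hone_s, hone_d])
      simp only [Int.cast_sub, Int.cast_natCast, mul_sub, Finset.sum_sub_distrib, es, e1, sub_zero]
        at this
      simpa [zs, mul_sub] using this
    · simp only [pow_two]
      refine quad u u nu nu hone_u hone_u hnu hnu eu eu _ ?_
      rw [S.pair_sum hloc hz huu huu hcu hcu N hN hq]
      push_cast
      rfl
    · simp only [pow_two]
      refine quad s s ns ns hone_s hone_s hns hns es es _ ?_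
      rw [S.pair_sum hloc hz hss hss hcs hcs N hN hq]
      push_cast
      rfl
    · refine quad u s nu ns hone_u hone_s hnu hns eu es _ ?_
      rw [S.pair_sum hloc hz huu hss hcu hcs N hN hq]
      push_cast
      rfl
  obtain ⟨c8, hc8⟩ := mk _ _ gen8
  obtain ⟨c3, hc3⟩ := mk _ _ gen3
  obtain ⟨c6, hc6⟩ := mk _ _ gen6
  obtain ⟨c4, hc4⟩ := mk _ _ gen4
  obtain ⟨c0, hc0⟩ := mk _ _ gen0
  obtain ⟨cv, hcv⟩ := mk _ _ gen21
  obtain ⟨z8, z3, z6, z4, z0, zv⟩ := zLow_facts
  obtain ⟨o8, d8, u8, s8, -, -, -⟩ := vec c8 0 gen8 z8 (by decide +kernel) hc8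
  obtain ⟨o3, d3, u3, s3, uu3, ss3, -⟩ := vec c3 0 gen3 z3 (by decide +kernel) hc3
  obtain ⟨o6, d6, u6, s6, uu6, ss6, -⟩ := vec c6 0 gen6 z6 (by decide +kernel) hc6
  obtain ⟨o4, d4, u4, s4, uu4, ss4, us4⟩ := vec c4 (-1) gen4 z4 (by decide +kernel) hc4
  obtain ⟨o0, d0, u0, s0, uu0, ss0, us0⟩ := vec c0 (-1) gen0 z0 (by decide +kernel) hc0
  obtain ⟨ov, dv, uv, sv, -, -, -⟩ := vec cv 0 gen21 zv (by decide +kernel) hcv
  have gram : ∀ {A B A' B' : List ℤ} {c c' : IrrCharacter G → ℤ} {t t' : ℤ} (q : ℤ),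
      IsGeneralizedCharacter E9 (tabFun A B) → zLow A B = true →
      IsGeneralizedCharacter E9 (tabFun A' B') → zLow A' B' = true →
      (∀ χ, (c χ : ℂ) = classInner (tabFun A B) (fun x => (χ : G → ℂ) (S.Φ x))) →
      (∀ χ, (c' χ : ℂ) = classInner (tabFun A' B') (fun x => (χ : G → ℂ) (S.Φ x))) →
      c one = t → c' one = t' → (gramR A B A' B' = 648 * q ∧ gramI A B A' B' = 0) →
      ∑ i : ι, c i.1 * c' i.1 = q - t * t' := by
    intro A B A' B' c c' t t' q hg hz hg' hz' hc hc' e e' hq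
    have h := (S.expand hloc hg hz hg' hz' hc hc').2
    rw [inner_tab hq] at h
    rw [hι (fun χ => c χ * c' χ), e, e', Int.cast_inj.mp h]
  have hU : (0 : ℚ) < (Nat.card G : ℚ) / (iu * iu) :=
    div_pos (by exact_mod_cast Nat.card_pos) (mul_pos (by positivity) (by positivity))
  have hS : (0 : ℚ) < (Nat.card G : ℚ) / (is * is) :=
    div_pos (by exact_mod_cast Nat.card_pos) (mul_pos (by positivity) (by positivity))
  refine sixData_false (d := d) (zu := zu) (zs := zs) (c8 := fun i => c8 i.1) (c3 := fun i => c3 i.1)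
    (c6 := fun i => c6 i.1) (c4 := fun i => c4 i.1) (c0 := fun i => c0 i.1)
    (c21 := fun i => cv i.1) (U := (Nat.card G : ℚ) / (iu * iu)) (S := (Nat.card G : ℚ) / (is * is))
    (M := (Nat.card G : ℚ) / (iu * is))
    { Upos := hU
      Spos := hS
      MM := by
        have h1 : (iu : ℚ) ≠ 0 := by exact_mod_cast hiu0
        have h2 : (is : ℚ) ≠ 0 := by exact_mod_cast his0
        field_simp
      n8 := (gram 2 gen8 z8 gen8 z8 hc8 hc8 o8 o8 (by decide +kernel)).trans (by norm_num)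
      n3 := (gram 3 gen3 z3 gen3 z3 hc3 hc3 o3 o3 (by decide +kernel)).trans (by norm_num)
      n6 := (gram 3 gen6 z6 gen6 z6 hc6 hc6 o6 o6 (by decide +kernel)).trans (by norm_num)
      n4 := (gram 4 gen4 z4 gen4 z4 hc4 hc4 o4 o4 (by decide +kernel)).trans (by norm_num)
      n0 := (gram 4 gen0 z0 gen0 z0 hc0 hc0 o0 o0 (by decide +kernel)).trans (by norm_num)
      n21 := (gram 2 gen21 zv gen21 zv hcv hcv ov ov (by decide +kernel)).trans (by norm_num)
      i83 := (gram (-1) gen8 z8 gen3 z3 hc8 hc3 o8 o3 (by decide +kernel)).trans (by norm_num)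
      i86 := (gram (-1) gen8 z8 gen6 z6 hc8 hc6 o8 o6 (by decide +kernel)).trans (by norm_num)
      i84 := (gram 0 gen8 z8 gen4 z4 hc8 hc4 o8 o4 (by decide +kernel)).trans (by norm_num)
      i80 := (gram 0 gen8 z8 gen0 z0 hc8 hc0 o8 o0 (by decide +kernel)).trans (by norm_num)
      i8v := (gram 0 gen8 z8 gen21 zv hc8 hcv o8 ov (by decide +kernel)).trans (by norm_num)
      i36 := (gram 0 gen3 z3 gen6 z6 hc3 hc6 o3 o6 (by decide +kernel)).trans (by norm_num)
      i34 := (gram 1 gen3 z3 gen4 z4 hc3 hc4 o3 o4 (by decide +kernel)).trans (by norm_num)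
      i30 := (gram (-1) gen3 z3 gen0 z0 hc3 hc0 o3 o0 (by decide +kernel)).trans (by norm_num)
      i3v := (gram 0 gen3 z3 gen21 zv hc3 hcv o3 ov (by decide +kernel)).trans (by norm_num)
      i64 := (gram 1 gen6 z6 gen4 z4 hc6 hc4 o6 o4 (by decide +kernel)).trans (by norm_num)
      i60 := (gram 1 gen6 z6 gen0 z0 hc6 hc0 o6 o0 (by decide +kernel)).trans (by norm_num)
      i6v := (gram 1 gen6 z6 gen21 zv hc6 hcv o6 ov (by decide +kernel)).trans (by norm_num)
      i40 := (gram 1 gen4 z4 gen0 z0 hc4 hc0 o4 o0 (by decide +kernel)).trans (by norm_num)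
      i4v := (gram 1 gen4 z4 gen21 zv hc4 hcv o4 ov (by decide +kernel)).trans (by norm_num)
      i0v := (gram 1 gen0 z0 gen21 zv hc0 hcv o0 ov (by decide +kernel)).trans (by norm_num)
      deg := fun i h => by
        have hcon : ∀ {A B : List ℤ} {c : IrrCharacter G → ℤ},
            (∀ χ, (c χ : ℂ) = classInner (tabFun A B) (fun x => (χ : G → ℂ) (S.Φ x))) →
            (gramR A B sgnL [] = 0 ∧ gramI A B sgnL [] = 0) → c i.1 ≠ 0 →
            6 ≤ d i ∧ zu i ≠ 0 ∧ zs i ≠ 0 := by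
          intro A B c hc hsg hci
          obtain ⟨h6, h1, h2⟩ := S.constituent hdz i.1 (hne i) (hdg i.1) hsg
            (by rw [← hc]; exact_mod_cast hci)
          refine ⟨by simp only [d]; exact_mod_cast h6, fun e => h1 ?_, fun e => h2 ?_⟩
          · have e' : nu i.1 - dg i.1 = 0 := Int.cast_eq_zero.mp e
            rw [hnu, sub_eq_zero.mp e', Int.cast_natCast]
          · have e' : ns i.1 - dg i.1 = 0 := Int.cast_eq_zero.mp e
            rw [hns, sub_eq_zero.mp e', Int.cast_natCast]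
        rcases h with h | h | h | h | h | h
        · exact hcon hc8 (by decide +kernel) h
        · exact hcon hc3 (by decide +kernel) h
        · exact hcon hc6 (by decide +kernel) h
        · exact hcon hc4 (by decide +kernel) h
        · exact hcon hc0 (by decide +kernel) h
        · exact hcon hcv (by decide +kernel) h
      d8 := d8.trans (by norm_num)
      d3 := d3.trans (by norm_num)
      d6 := d6.trans (by norm_num)
      d4 := d4.trans (by norm_num)
      d0 := d0.trans (by norm_num)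
      dv := dv.trans (by norm_num)
      u8 := u8
      u3 := u3
      u6 := u6
      u4 := u4
      u0 := u0
      uv := uv
      s8 := s8
      s3 := s3
      s6 := s6
      s4 := s4
      s0 := s0
      sv := sv
      uu3 := (uu3 nUU 0 (fun k hk h5 => (cnt_facts k hk h5).1) (by decide +kernel)).trans (by norm_num)
      uu6 := (uu6 nUU 6 (fun k hk h5 => (cnt_facts k hk h5).1) (by decide +kernel)).trans (by norm_num)
      uu4 := (uu4 nUU 0 (fun k hk h5 => (cnt_facts k hk h5).1) (by decide +kernel)).trans (by norm_num)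
      uu0 := (uu0 nUU (-3) (fun k hk h5 => (cnt_facts k hk h5).1) (by decide +kernel)).trans (by norm_num)
      ss3 := (ss3 nSS 6 (fun k hk h5 => (cnt_facts k hk h5).2.1) (by decide +kernel)).trans (by norm_num)
      ss6 := (ss6 nSS 0 (fun k hk h5 => (cnt_facts k hk h5).2.1) (by decide +kernel)).trans (by norm_num)
      ss4 := (ss4 nSS (-6) (fun k hk h5 => (cnt_facts k hk h5).2.1) (by decide +kernel)).trans (by norm_num)
      ss0 := (ss0 nSS (-9) (fun k hk h5 => (cnt_facts k hk h5).2.1) (by decide +kernel)).trans (by norm_num)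
      us4 := (us4 nUS (-6) (fun k hk h5 => (cnt_facts k hk h5).2.2) (by decide +kernel)).trans (by norm_num)
      us0 := (us0 nUS (-3) (fun k hk h5 => (cnt_facts k hk h5).2.2) (by decide +kernel)).trans (by norm_num) }

end Setup

end CfsgLib.AltNineThree
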