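import Cfsg.Agent.Lib.AltNineThree.CentPairs
import Cfsg.Agent.Lib.NineSelfCent.Main

/-!
The centralizer of a three-cycle: either inside `N(J)`, or with quotient `A₆`.
-/

set_option autoImplicit false
set_option linter.unusedSectionVars false
set_option linter.style.haveILetI false
set_option maxRecDepth 20000

namespace CfsgLib.AltNineThree

open E9 CfsgLib.Transfer

namespace E9

/-- An element of order four centralizing `(012)`. -/
def fE : E9 := mk' 108

theorem fE_facts : commC 108 1 = true ∧ mulC 108 108 = 27 ∧ commC 27 1 = true ∧ mulC 27 27 = 0 ∧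
    allJ (fun v => (List.range 3).any fun k => Nat.beq (mulC (conjC 27 v) v) k) = true := by
  refine ⟨?_, ?_, ?_, ?_, ?_⟩ <;> decide +kernel

theorem a_outside : allJ (fun j => impB (Nat.ble 3 j)
    ((two j || two (mulC j 1)) && allC fun x => impB (commC x 1 &&
      (List.range 3).any (fun k => Nat.beq (conjC x j) (mulC j k))) (jC x))) = true ∧
    allJ (fun j => impB (Nat.ble 3 j) (allJ fun i =>
      (List.range 3).any fun p => (List.range 3).any fun q => (List.range 3).any fun k =>
        Nat.beq i (mulC (mulC (List.getD [0, j, mulC j j] p 0)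
          (List.getD [0, conjC 108 j, mulC (conjC 108 j) (conjC 108 j)] q 0)) k))) = true ∧
    allC (fun x => impB (commC x 1) (jC x || jC (mulC x 27) || jC (mulC x 108) ||
      jC (mulC x (mulC 27 108)))) = true ∧
    allC (fun x => impB (commC x 1)
      (!(List.range 3).any fun k => Nat.beq (conjC x 3) (mulC 12 k))) = true ∧
    allC (fun x => impB (commC x 1) (jC (mulC (mulC x x) (mulC x x)))) = true := by
  refine ⟨?_, ?_, ?_, ?_, ?_⟩ <;> decide +kernel

theorem aE_mem : aE ∈ JE := by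
  show jC (aE.c : ℕ) = true
  decide +kernel

theorem code_pow_a : ∀ k : ℕ, k < 3 → ((aE ^ k).c : ℕ) = k := by
  intro k hk
  interval_cases k
  · rfl
  · rw [pow_one]; rfl
  · rw [pow_two, code_mul]; decide +kernel

end E9

/-- A normal subgroup has trivial core when the group has. -/
theorem core_normal_bot {p : ℕ} [Fact p.Prime] {X : Type*} [Group X] [Finite X] (N : Subgroup X)
    [hN : N.Normal] (hcore : Cfsg.pPrimeCore p X = ⊥) : Cfsg.pPrimeCore p N = ⊥ := by
  haveI : (Cfsg.pPrimeCore p N).Normal := SelfCent.pPrimeCore_normal' p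
  have hchar : ∀ φ : N ≃* N, (Cfsg.pPrimeCore p N).map φ.toMonoidHom ≤ Cfsg.pPrimeCore p N := by
    intro φ
    refine SelfCent.le_pPrimeCore ((inferInstance : (Cfsg.pPrimeCore p N).Normal).map _ φ.surjective) ?_
    rw [Subgroup.card_map_of_injective φ.injective]
    exact SelfCent.pPrimeCore_coprime p
  have hn : ((Cfsg.pPrimeCore p N).map N.subtype).Normal := ⟨by
    rintro _ ⟨r, hr, rfl⟩ g
    exact ⟨MulAut.conjNormal g r, hchar (MulAut.conjNormal g) ⟨r, hr, rfl⟩, by simp⟩⟩
  have hle := SelfCent.le_pPrimeCore (p := p) hn (by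
    rw [Subgroup.card_map_of_injective N.subtype_injective]
    exact SelfCent.pPrimeCore_coprime p)
  rwa [hcore, le_bot_iff, Subgroup.map_eq_bot_iff_of_injective _ N.subtype_injective] at hle

namespace Setup

universe u

variable {G : Type u} [Group G] [Finite G] (S : Setup G)

/-- The centralizer of `(012)`. -/
abbrev CA : Subgroup G := Subgroup.centralizer ({S.Φ aE} : Set G)

/-- `(012)` inside its centralizer. -/
def za : S.CA := ⟨S.Φ aE, Subgroup.mem_centralizer_singleton_iff.mpr rfl⟩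

theorem za_central : Subgroup.zpowers S.za ≤ Subgroup.center S.CA :=
  Subgroup.zpowers_le.mpr (Subgroup.mem_center_iff.mpr fun c =>
    Subtype.ext (Subgroup.mem_centralizer_singleton_iff.mp c.2))

instance za_normal : (Subgroup.zpowers S.za).Normal := ⟨fun n hn k => by
  rw [Subgroup.mem_center_iff.mp (S.za_central hn) k, mul_inv_cancel_right]; exact hn⟩

/-- The dichotomy for `C((012))`. -/
theorem cent_a_cases : S.CA ≤ S.Φ.range ∨
    Nonempty (S.CA ⧸ Subgroup.zpowers S.za ≃* alternatingGroup (Fin 6)) := by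
  classical
  haveI := Fact.mk Nat.prime_three
  by_cases hle : S.CA ≤ S.Φ.range
  · exact Or.inl hle
  refine Or.inr ?_
  set C := S.CA with hC
  set z := S.za with hz
  set Z := Subgroup.zpowers z with hZ
  have ha1 : aE ≠ 1 := fun e => absurd (congrArg (fun x : E9 => (x.c : ℕ)) e) (by decide +kernel)
  have hJC : S.J ≤ C := fun y hy => Subgroup.mem_centralizer_singleton_iff.mpr
    (S.J_comm hy (S.Φ_mem_J.mpr aE_mem))
  have hzc := S.za_central
  have hz3 : Nat.card Z = 3 := by
    rw [hZ, Nat.card_zpowers, ← Subgroup.orderOf_coe]; exact S.orderOf_Φ aE_mem ha1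
  have hcore : Cfsg.pPrimeCore 3 (C ⧸ Z) = ⊥ :=
    core_quot_bot Z hzc (IsPGroup.of_card (n := 1) (by rw [hz3, pow_one]))
      (S.core aE (S.orderOf_Φ aE_mem ha1))
  set π := QuotientGroup.mk' Z with hπ
  set M := (S.J.subgroupOf C).map π with hM
  have hpow : ∀ l : ℤ, ∃ k : ℕ, k < 3 ∧ (z ^ l : C) = z ^ k := fun l => by
    refine ⟨(l % 3).toNat, by omega, ?_⟩
    have hz0 : z ^ (3 : ℕ) = 1 := Subtype.ext (S.J_cube (S.Φ_mem_J.mpr aE_mem))
    rw [← zpow_natCast, Int.toNat_of_nonneg (by omega)]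
    conv_lhs => rw [← Int.emod_add_mul_ediv l 3, zpow_add, zpow_mul,
      show z ^ (3 : ℤ) = 1 by exact_mod_cast hz0, one_zpow, mul_one]
  have hπeq : ∀ {u v : C}, π u = π v → ∃ k : ℕ, k < 3 ∧ (v : G) = u * S.Φ (aE ^ k) := fun {u v} e => by
    obtain ⟨l, hl⟩ := QuotientGroup.eq.mp e
    obtain ⟨k, hk, hk'⟩ := hpow l
    refine ⟨k, hk, ?_⟩
    have : v = u * z ^ k := by rw [← hk', show z ^ l = u⁻¹ * v from hl, mul_inv_cancel_left]
    rw [this, Subgroup.coe_mul, SubmonoidClass.coe_pow, map_pow]; rfl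
  have hZJ : Z ≤ S.J.subgroupOf C :=
    Subgroup.zpowers_le.mpr (Subgroup.mem_subgroupOf.mpr (S.Φ_mem_J.mpr aE_mem))
  have memM : ∀ {u : C}, π u ∈ M ↔ (u : G) ∈ S.J := fun {u} => by
    refine ⟨?_, fun hu => ⟨u, Subgroup.mem_subgroupOf.mpr hu, rfl⟩⟩
    rintro ⟨v, hv, e⟩
    have := mul_mem hv (hZJ (QuotientGroup.eq.mp e))
    rwa [mul_inv_cancel_left] at this
  have hcard : Nat.card M = 9 := by
    have h27 : Nat.card (S.J.subgroupOf C) = 27 := by
      rw [Nat.card_congr (Subgroup.subgroupOfEquivOfLe hJC).toEquiv, S.card_J]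
    have hmap := Subgroup.relIndex_ker (S.J.subgroupOf C) π
    rw [QuotientGroup.ker_mk', Subgroup.relIndex] at hmap
    have hm := (Z.subgroupOf (S.J.subgroupOf C)).card_mul_index
    rw [Nat.card_congr (Subgroup.subgroupOfEquivOfLe hZJ).toEquiv, hz3, hmap, h27] at hm
    show Nat.card ((S.J.subgroupOf C).map π) = 9
    omega
  have hMcomm : ∀ x ∈ M, ∀ y ∈ M, x * y = y * x := by
    rintro _ ⟨u, hu, rfl⟩ _ ⟨v, hv, rfl⟩
    rw [← map_mul, ← map_mul]
    exact congrArg π (Subtype.ext (S.J_comm hu hv))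
  have hMcube : ∀ x ∈ M, x ^ 3 = 1 := by
    rintro _ ⟨u, hu, rfl⟩
    rw [← map_pow, show u ^ 3 = 1 from Subtype.ext (S.J_cube hu), map_one]
  obtain ⟨hout, hspan, hNa, hfus, hfour⟩ := a_outside
  obtain ⟨hf1, hff, hi1, hii, hiinv⟩ := fE_facts
  let mkC : ∀ x : E9, commC (x.c : ℕ) 1 = true → C := fun x hx => ⟨S.Φ x, by
    rw [hC, Subgroup.mem_centralizer_singleton_iff, ← map_mul, ← map_mul,
      (comm_iff x aE).mp hx]⟩
  let jM : ∀ j : E9, j ∈ JE → C := fun j hj => ⟨S.Φ j, hJC (S.Φ_mem_J.mpr hj)⟩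
  -- elements of `C` conjugating a translation into its coset modulo `⟨a⟩` lie in `N(J)`
  have hloc : ∀ (g : C) (j : E9), j ∈ JE → Nat.ble 3 (j.c : ℕ) = true →
      ((g : G) * S.Φ j * (g : G)⁻¹) ∈ S.J → (g : G) ∈ S.Φ.range := by
    intro g j hj h3 hg
    have h := impB_elim (allJ_spec hout hj) h3
    rw [Bool.and_eq_true, Bool.or_eq_true] at h
    have hga : (g : G) * S.Φ aE * (g : G)⁻¹ = S.Φ aE := by
      rw [Subgroup.mem_centralizer_singleton_iff.mp g.2, mul_inv_cancel_right]
    have hj1 : j ≠ 1 := fun e => absurd (e ▸ h3) (by decide +kernel)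
    rcases h.1 with h2 | h2
    · exact S.mem_range_of_conj hj hj1 (S.cent_two h2) hg
    · have h2' : two ((j * aE).c : ℕ) = true := by rw [code_mul]; exact h2
      refine S.mem_range_of_conj (mul_mem hj aE_mem) (fun e => ?_) (S.cent_two h2') ?_
      · rw [e] at h2'; exact absurd h2' (by decide +kernel)
      · rw [map_mul, show (g : G) * (S.Φ j * S.Φ aE) * (g : G)⁻¹ =
          ((g : G) * S.Φ j * (g : G)⁻¹) * ((g : G) * S.Φ aE * (g : G)⁻¹) by group, hga]
        exact mul_mem hg (S.Φ_mem_J.mpr aE_mem)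
  -- the nontrivial elements of `M`
  have hrep : ∀ m ∈ M, m ≠ 1 → ∃ (j : E9) (hj : j ∈ JE), Nat.ble 3 (j.c : ℕ) = true ∧ m = π (jM j hj) := by
    rintro _ ⟨u, hu, rfl⟩ hne
    obtain ⟨j, hj, e⟩ := Subgroup.mem_subgroupOf.mp hu
    refine ⟨j, hj, ?_, congrArg π (Subtype.ext e.symm)⟩
    by_contra h3
    refine hne ?_
    have hlt : (j.c : ℕ) < 3 := by
      by_contra h; exact h3 (Nat.ble_eq_true_of_le (not_lt.mp h))
    have hj' : j = aE ^ (j.c : ℕ) := code_inj (code_pow_a _ hlt).symm
    refine (QuotientGroup.eq_one_iff u).mpr ⟨((j.c : ℕ) : ℤ), Subtype.ext ?_⟩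
    show ((z ^ ((j.c : ℕ) : ℤ) : C) : G) = u
    rw [zpow_natCast, SubmonoidClass.coe_pow, show ((z : C) : G) = S.Φ aE from rfl, ← map_pow, ← hj']
    exact e
  have hcent : ∀ m ∈ M, m ≠ 1 → Subgroup.centralizer ({m} : Set (C ⧸ Z)) = M := by
    intro m hm hne
    obtain ⟨j, hj, h3, rfl⟩ := hrep m hm hne
    refine le_antisymm (fun q hq => ?_) fun q hq =>
      Subgroup.mem_centralizer_singleton_iff.mpr (hMcomm q hq _ hm)
    obtain ⟨g, rfl⟩ := QuotientGroup.mk'_surjective Z q
    rw [Subgroup.mem_centralizer_singleton_iff] at hq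
    have hq' : π (jM j hj) = π (g * jM j hj * g⁻¹) := by
      rw [map_mul, map_inv, map_mul]
      exact (mul_inv_eq_iff_eq_mul.mpr hq).symm
    obtain ⟨k, hk, hk'⟩ := hπeq hq'
    have hgc : (g : G) * S.Φ j * (g : G)⁻¹ = S.Φ (j * aE ^ k) := by
      rw [map_mul]; exact hk'
    obtain ⟨x, hx⟩ := hloc g j hj h3 (hgc ▸ S.Φ_mem_J.mpr (mul_mem hj (pow_mem aE_mem k)))
    have h := impB_elim (allJ_spec hout hj) h3
    rw [Bool.and_eq_true] at h
    refine memM.mpr (hx ▸ S.Φ_mem_J.mpr (impB_elim (all_spec h.2 x) ?_))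
    rw [Bool.and_eq_true]
    refine ⟨(comm_iff x aE).mpr (S.inj (by
      rw [map_mul, map_mul, hx]; exact Subgroup.mem_centralizer_singleton_iff.mp g.2)), ?_⟩
    rw [List.any_eq_true]
    refine ⟨k, List.mem_range.mpr hk, ?_⟩
    have : x * j * x⁻¹ = j * aE ^ k := S.inj (by rw [map_mul, map_mul, map_inv, hx]; exact hgc)
    rw [Nat.beq_eq, ← code_conj, this, code_mul, code_pow_a k hk]
  -- the normalizer of `M`
  have hNM : ∀ q ∈ Subgroup.normalizer (M : Set (C ⧸ Z)),
      ∃ (x : E9) (hx : commC (x.c : ℕ) 1 = true), q = π (mkC x hx) := by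
    intro q hq
    obtain ⟨g, rfl⟩ := QuotientGroup.mk'_surjective Z q
    have hgN : (g : G) ∈ Subgroup.normalizer (S.J : Set G) := by
      rw [Subgroup.mem_normalizer_iff_map_conj_eq]
      refine Subgroup.eq_of_le_of_card_ge ?_ (le_of_eq
        (Subgroup.card_map_of_injective (MulAut.conj (g : G)).injective).symm)
      rintro _ ⟨y, hy, rfl⟩
      have := (Subgroup.mem_normalizer_iff.mp hq (π ⟨y, hJC hy⟩)).mp (memM.mpr hy)
      rw [← map_inv, ← map_mul, ← map_mul, memM] at this
      exact this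
    obtain ⟨x, hx⟩ := S.normalizer_J hgN
    exact ⟨x, (comm_iff x aE).mpr (S.inj (by
      rw [map_mul, map_mul, hx]; exact Subgroup.mem_centralizer_singleton_iff.mp g.2)),
      congrArg π (Subtype.ext hx.symm)⟩
  have hfour' : ∀ q ∈ Subgroup.normalizer (M : Set (C ⧸ Z)), q ^ 4 ∈ M := by
    intro q hq
    obtain ⟨x, hx, rfl⟩ := hNM q hq
    rw [← map_pow]
    refine memM.mpr ?_
    rw [SubmonoidClass.coe_pow, show ((mkC x hx : C) : G) = S.Φ x from rfl, ← map_pow]
    refine S.Φ_mem_J.mpr ?_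
    show jC ((x ^ 4).c : ℕ) = true
    rw [show x ^ 4 = (x * x) * (x * x) by rw [pow_succ, pow_succ, pow_two, mul_assoc],
      code_mul, code_mul]
    exact impB_elim (all_spec hfour x) hx
  have hMp : IsPGroup 3 M := fun g => ⟨1, Subtype.ext (by simpa using hMcube g g.2)⟩
  have hmax : ∀ R : Subgroup (C ⧸ Z), IsPGroup 3 R → M ≤ R → R = M := by
    intro R hR hMR
    by_contra hne
    haveI := hR.isNilpotent
    have hlt : M.subgroupOf R < ⊤ := lt_top_iff_ne_top.mpr fun e =>
      hne (le_antisymm (Subgroup.subgroupOf_eq_top.mp e) hMR)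
    obtain ⟨⟨r, hrR⟩, hr, hrn⟩ :=
      SetLike.exists_of_lt (Group.normalizerCondition_of_isNilpotent _ hlt)
    rw [Subgroup.mem_subgroupOf] at hrn
    have hrN : r ∈ Subgroup.normalizer (M : Set (C ⧸ Z)) := by
      rw [Subgroup.mem_normalizer_iff_map_conj_eq]
      refine Subgroup.eq_of_le_of_card_ge ?_ (le_of_eq
        (Subgroup.card_map_of_injective (MulAut.conj r).injective).symm)
      rintro _ ⟨m, hm, rfl⟩
      exact Subgroup.mem_subgroupOf.mp ((Subgroup.mem_normalizer_iff.mp hr ⟨m, hMR hm⟩).mp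
        (Subgroup.mem_subgroupOf.mpr hm))
    obtain ⟨n, hn⟩ := hR ⟨r, hrR⟩
    have hn' : r ^ (3 ^ n) = 1 := congrArg Subtype.val hn
    apply hrn
    have hgcd := Nat.gcd_eq_gcd_ab 4 (3 ^ n)
    rw [Nat.Coprime.pow_right n (by norm_num : Nat.Coprime 4 3)] at hgcd
    suffices r ^ ((1 : ℕ) : ℤ) ∈ M by
      rw [Nat.cast_one, zpow_one] at this; exact this
    rw [hgcd, zpow_add, zpow_mul, zpow_mul,
      zpow_natCast, zpow_natCast, hn', one_zpow, mul_one]
    exact zpow_mem (hfour' r hrN) _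
  let PM : Sylow 3 (C ⧸ Z) := ⟨M, hMp, fun hQ hle' => hmax _ hQ hle'⟩
  have hHyp : NineSelfCent.Hyp PM M :=
    { eq := rfl, comm := hMcomm, exp := hMcube, card := hcard, cent := hcent }
  -- nontrivial normal subgroups contain `M`
  have hfC := mkC fE (by rw [fE, code_mk (by norm_num)]; exact hf1)
  set ff := π (mkC fE (by rw [fE, code_mk (by norm_num)]; exact hf1)) with hffdef
  have hMle : ∀ N : Subgroup (C ⧸ Z), N.Normal → N ≠ ⊥ → M ≤ N := by
    intro N hN hNb
    haveI := hN
    have hd : 3 ∣ Nat.card N := by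
      by_contra hnd
      refine hNb (le_bot_iff.mp (hcore ▸ SelfCent.le_pPrimeCore hN ?_))
      exact ((Fact.out : (3 : ℕ).Prime).coprime_iff_not_dvd.mpr hnd).symm
    obtain ⟨w, hw⟩ := exists_prime_orderOf_dvd_card' (G := N) 3 hd
    rw [← Subgroup.orderOf_coe] at hw
    obtain ⟨g, hg⟩ := hHyp.exists_conj_elem (x := (w : C ⧸ Z)) (hw ▸ pow_orderOf_eq_one _)
    have hgN : g * w * g⁻¹ ∈ N := hN.conj_mem _ w.2 g
    have hg1 : g * (w : C ⧸ Z) * g⁻¹ ≠ 1 := fun e => by
      rw [conj_eq_one_iff.mp e, orderOf_one] at hw; norm_num at hw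
    obtain ⟨j, hj, h3, hjm⟩ := hrep _ hg hg1
    intro m hm
    obtain ⟨u, hu, rfl⟩ := hm
    obtain ⟨i, hi, e⟩ := Subgroup.mem_subgroupOf.mp hu
    have h := allJ_spec (impB_elim (allJ_spec hspan hj) h3) hi
    simp only [List.any_eq_true, List.mem_range] at h
    obtain ⟨p, hp, q, hq, k, hk, hcode⟩ := h
    have hfj : fE * j * fE⁻¹ ∈ JE := by
      have hcj : allJ (fun v => allC fun x => jC (conjC x v)) = true := by decide +kernel
      show jC ((fE * j * fE⁻¹).c : ℕ) = true
      rw [code_conj]; exact all_spec (allJ_spec hcj hj) fE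
    have hi' : i = j ^ p * (fE * j * fE⁻¹) ^ q * aE ^ k := code_inj (by
      rw [code_mul, code_mul, code_pow_a k hk, Nat.eq_of_beq_eq_true hcode]
      congr 2
      · interval_cases p
        · rfl
        · rw [pow_one]; rfl
        · rw [pow_two, code_mul]; rfl
      · interval_cases q
        · rfl
        · rw [pow_one, code_conj, fE, code_mk (by norm_num)]; rfl
        · rw [pow_two, code_mul, code_conj, fE, code_mk (by norm_num)]; rfl)
    have hu' : u = jM j hj ^ p * (mkC fE (by rw [fE, code_mk (by norm_num)]; exact hf1) * jM j hj *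
        (mkC fE (by rw [fE, code_mk (by norm_num)]; exact hf1))⁻¹) ^ q * z ^ k := Subtype.ext (by
      simp only [Subgroup.coe_mul, SubmonoidClass.coe_pow, InvMemClass.coe_inv]
      show (u : G) = S.Φ j ^ p * (S.Φ fE * S.Φ j * (S.Φ fE)⁻¹) ^ q * S.Φ aE ^ k
      rw [← show S.Φ i = (u : G) from e, hi']
      simp only [map_mul, map_pow, map_inv])
    rw [hu', map_mul, map_mul, map_pow, map_pow, map_pow, map_mul, map_mul, map_inv,
      show π z = 1 from (QuotientGroup.eq_one_iff z).mpr (Subgroup.mem_zpowers z), one_pow, mul_one]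
    rw [hjm] at hgN
    exact mul_mem (pow_mem hgN p) (pow_mem (hN.conj_mem _ hgN _) q)
  have hMbot : M ≠ ⊥ := fun e => by rw [e, Subgroup.card_bot] at hcard; norm_num at hcard
  -- `M` is not normal
  have hMnn : Subgroup.normalizer (M : Set (C ⧸ Z)) ≠ ⊤ := by
    intro htop
    refine hle fun g hg => S.normalizer_J ?_
    rw [Subgroup.mem_normalizer_iff_map_conj_eq]
    refine Subgroup.eq_of_le_of_card_ge ?_ (le_of_eq
      (Subgroup.card_map_of_injective (MulAut.conj g).injective).symm)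
    rintro _ ⟨y, hy, rfl⟩
    have hmem : π ⟨g, hg⟩ ∈ Subgroup.normalizer (M : Set (C ⧸ Z)) := htop ▸ Subgroup.mem_top _
    have := (Subgroup.mem_normalizer_iff.mp hmem (π ⟨y, hJC hy⟩)).mp (memM.mpr hy)
    rw [← map_inv, ← map_mul, ← map_mul, memM] at this
    exact this
  have hi27 : commC ((mk' 27).c : ℕ) 1 = true := by rw [code_mk (by norm_num)]; exact hi1
  set ii := π (mkC (mk' 27) hi27) with hiidef
  have hiiM : ∀ m ∈ M, ii * m * ii⁻¹ = m⁻¹ := by
    rintro _ ⟨u, hu, rfl⟩
    obtain ⟨j, hj, e⟩ := Subgroup.mem_subgroupOf.mp hu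
    rw [hiidef, ← map_inv, ← map_inv, ← map_mul, ← map_mul, eq_comm]
    have h := allJ_spec hiinv hj
    rw [List.any_eq_true] at h
    obtain ⟨k, hk, hk'⟩ := h
    rw [List.mem_range] at hk
    have h2 : mk' 27 * j * (mk' 27)⁻¹ * j = aE ^ k := code_inj (by
      rw [code_mul, code_conj, code_mk (by norm_num), code_pow_a k hk]; exact Nat.eq_of_beq_eq_true hk')
    refine QuotientGroup.eq.mpr ⟨k, Subtype.ext ?_⟩
    show ((z ^ (k : ℤ) : C) : G) = _
    rw [zpow_natCast, SubmonoidClass.coe_pow, show ((z : C) : G) = S.Φ aE from rfl, ← map_pow, ← h2]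
    simp only [Subgroup.coe_mul, InvMemClass.coe_inv, inv_inv]
    rw [← show S.Φ j = (u : G) from e,
      show ((mkC (mk' 27) hi27 : C) : G) = S.Φ (mk' 27) from rfl]
    have hc : S.Φ j * (S.Φ (mk' 27) * S.Φ j * (S.Φ (mk' 27))⁻¹) =
        S.Φ (mk' 27) * S.Φ j * (S.Φ (mk' 27))⁻¹ * S.Φ j := by
      refine S.J_comm (S.Φ_mem_J.mpr hj) ?_
      rw [← map_inv, ← map_mul, ← map_mul]
      refine S.Φ_mem_J.mpr ?_
      show jC ((mk' 27 * j * (mk' 27)⁻¹).c : ℕ) = true
      have hcj : allJ (fun v => allC fun x => jC (conjC x v)) = true := by decide +kernel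
      rw [code_conj]; exact all_spec (allJ_spec hcj hj) (mk' 27)
    rw [hc]; simp only [map_mul, map_inv]
  have hii2 : ii * ii = 1 := by
    rw [hiidef, ← map_mul, show mkC (mk' 27) hi27 * mkC (mk' 27) hi27 = 1 from Subtype.ext (by
      show S.Φ (mk' 27) * S.Φ (mk' 27) = 1
      rw [← map_mul, show mk' 27 * mk' 27 = (1 : E9) from code_inj (by
        rw [code_mul, code_mk (by norm_num)]; exact hii), map_one]), map_one]
  have hff2 : ff * ff = ii := by
    rw [hffdef, hiidef, ← map_mul]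
    refine congrArg π (Subtype.ext ?_)
    show S.Φ fE * S.Φ fE = S.Φ (mk' 27)
    rw [← map_mul, show fE * fE = mk' 27 from code_inj (by
      rw [code_mul, fE, code_mk (by norm_num), code_mk (by norm_num)]; exact hff)]
  have hdec : ∀ q ∈ Subgroup.normalizer (M : Set (C ⧸ Z)),
      q ∈ M ∨ q * ii ∈ M ∨ q * ff ∈ M ∨ q * (ii * ff) ∈ M := by
    intro q hq
    obtain ⟨x, hx, rfl⟩ := hNM q hq
    have h := impB_elim (all_spec hNa x) hx
    simp only [Bool.or_eq_true] at h
    rcases h with ((h | h) | h) | h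
    · exact Or.inl (memM.mpr (S.Φ_mem_J.mpr h))
    · refine Or.inr (Or.inl ?_)
      rw [hiidef, ← map_mul]
      refine memM.mpr ?_
      show S.Φ x * S.Φ (mk' 27) ∈ S.J
      rw [← map_mul]
      exact S.Φ_mem_J.mpr (show jC ((x * mk' 27).c : ℕ) = true by
        rw [code_mul, code_mk (by norm_num)]; exact h)
    · refine Or.inr (Or.inr (Or.inl ?_))
      rw [hffdef, ← map_mul]
      refine memM.mpr ?_
      show S.Φ x * S.Φ fE ∈ S.J
      rw [← map_mul]
      exact S.Φ_mem_J.mpr (show jC ((x * fE).c : ℕ) = true by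
        rw [code_mul, fE, code_mk (by norm_num)]; exact h)
    · refine Or.inr (Or.inr (Or.inr ?_))
      rw [hffdef, hiidef, ← map_mul, ← map_mul]
      refine memM.mpr ?_
      show S.Φ x * (S.Φ (mk' 27) * S.Φ fE) ∈ S.J
      rw [← map_mul, ← map_mul]
      exact S.Φ_mem_J.mpr (show jC ((x * (mk' 27 * fE)).c : ℕ) = true by
        rw [code_mul, code_mul, fE, code_mk (by norm_num), code_mk (by norm_num)]; exact h)
  haveI : Nontrivial (C ⧸ Z) := by
    obtain ⟨m, hm, hm1⟩ := M.bot_or_exists_ne_one.resolve_left hMbot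
    exact ⟨m, 1, hm1⟩
  haveI : IsSimpleGroup (C ⧸ Z) := ⟨fun N hN => by
    haveI := hN
    by_contra hcon
    push Not at hcon
    obtain ⟨hNb, hNt⟩ := hcon
    have hMN := hMle N hN hNb
    have hfrat := Sylow.normalizer_sup_eq_top' PM (N := N) hMN
    change Subgroup.normalizer (M : Set (C ⧸ Z)) ⊔ N = ⊤ at hfrat
    have hfN : ff ∉ N := fun hf => hNt (by
      rw [← hfrat, eq_comm, sup_eq_right]
      intro q hq
      have hi' : ii ∈ N := hff2 ▸ mul_mem hf hf
      rcases hdec q hq with h | h | h | h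
      · exact hMN h
      all_goals
        have := hMN h
        first
          | exact (N.mul_mem_cancel_right hi').mp this
          | exact (N.mul_mem_cancel_right hf).mp this
          | exact (N.mul_mem_cancel_right (mul_mem hi' hf)).mp this)
    set M' := M.subgroupOf N with hM'
    have hM'p : IsPGroup 3 M' := hMp.comap_of_injective _ N.subtype_injective
    let PN : Sylow 3 N := PM.subtype (show (PM : Subgroup (C ⧸ Z)) ≤ N from hMN)
    have hNnorm : ∀ g : N, g ∈ Subgroup.normalizer (M' : Set N) →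
        (g : C ⧸ Z) ∈ Subgroup.normalizer (M : Set (C ⧸ Z)) := by
      intro g hg
      rw [Subgroup.mem_normalizer_iff_map_conj_eq]
      refine Subgroup.eq_of_le_of_card_ge ?_ (le_of_eq
        (Subgroup.card_map_of_injective (MulAut.conj (g : C ⧸ Z)).injective).symm)
      rintro _ ⟨m, hm, rfl⟩
      exact Subgroup.mem_subgroupOf.mp ((Subgroup.mem_normalizer_iff.mp hg ⟨m, hMN hm⟩).mp
        (Subgroup.mem_subgroupOf.mpr hm))
    have hnormal : M = N → False := fun e => hMnn (by rw [e]; exact Subgroup.normalizer_eq_top N)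
    by_cases hiN : ii ∈ N
    · have hdecN : ∀ g : N, g ∈ Subgroup.normalizer (M' : Set N) → g ∈ M' ∨ g * ⟨ii, hiN⟩ ∈ M' := by
        intro g hg
        rcases hdec g (hNnorm g hg) with h | h | h | h
        · exact Or.inl h
        · exact Or.inr h
        · exact absurd ((N.mul_mem_cancel_left g.2).mp (hMN h)) hfN
        · exact absurd ((N.mul_mem_cancel_left hiN).mp ((N.mul_mem_cancel_left g.2).mp (hMN h))) hfN
      obtain ⟨m0, hm0, hm01⟩ := M.bot_or_exists_ne_one.resolve_left hMbot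
      have hD : DihHyp M' (⟨m0, hMN hm0⟩ : N) ⟨ii, hiN⟩ :=
        { card := by rw [hM', Nat.card_congr (Subgroup.subgroupOfEquivOfLe hMN).toEquiv, hcard]
          comm := fun x hx y hy => Subtype.ext (hMcomm _ hx _ hy)
          cube := fun x hx => Subtype.ext (hMcube _ hx)
          inv := fun m hm => Subtype.ext (hiiM _ hm)
          ii := Subtype.ext hii2
          norm := hdecN
          mem := hm0
          ne := fun e => hm01 (congrArg Subtype.val e)
          cent := fun m hm hml => by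
            have hm1 : (m : C ⧸ Z) ≠ 1 := fun e => hml (by
              rw [show m = 1 from Subtype.ext e]; exact one_mem _)
            ext g
            rw [Subgroup.mem_centralizer_singleton_iff, hM', Subgroup.mem_subgroupOf,
              ← hcent _ hm hm1, Subgroup.mem_centralizer_singleton_iff]
            exact ⟨fun e => congrArg Subtype.val e, fun e => Subtype.ext e⟩ }
      have htop := hD.normal (core_normal_bot N hcore)
      refine hMnn (eq_top_iff.mpr fun g _ => ?_)
      rw [Subgroup.mem_normalizer_iff_map_conj_eq]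
      set Mg := M.map (MulAut.conj g).toMonoidHom with hMg
      have hMgN : Mg ≤ N := by
        rintro _ ⟨m, hm, rfl⟩; exact hN.conj_mem _ (hMN hm) g
      have hMgn : Mg ≤ Subgroup.normalizer (M : Set (C ⧸ Z)) := fun y hy =>
        hNnorm ⟨y, hMgN hy⟩ (htop ▸ Subgroup.mem_top _)
      have hsup := hmax _ (IsPGroup.to_sup_of_normal_right' (hMp.map _) hMp hMgn) le_sup_right
      exact Subgroup.eq_of_le_of_card_ge (le_sup_left.trans hsup.le)
        (le_of_eq (Subgroup.card_map_of_injective (MulAut.conj g).injective).symm)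
    · have hburn : Cfsg.HasNormalPComplement 3 N := by
        refine hasNormalPComplement_of_normalizer_le_centralizer PN fun g hg => ?_
        have hg' : g ∈ Subgroup.normalizer (M' : Set N) := by
          rw [show (M' : Set N) = ((PN : Subgroup N) : Set N) from rfl]; exact hg
        rw [Subgroup.mem_centralizer_iff]
        intro m hm
        have hgM : (g : C ⧸ Z) ∈ M := by
          rcases hdec g (hNnorm g hg') with h | h | h | h
          · exact h
          · exact absurd ((N.mul_mem_cancel_left g.2).mp (hMN h)) hiN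
          · exact absurd ((N.mul_mem_cancel_left g.2).mp (hMN h)) hfN
          · exfalso
            have h1 := (N.mul_mem_cancel_left g.2).mp (hMN h)
            have h2 : ii * ff * (ii * ff) ∈ N := mul_mem h1 h1
            have hif : ii * ff = ff * ii := by rw [← hff2, mul_assoc]
            rw [hif, mul_assoc, ← mul_assoc ii ff, hif, mul_assoc ff ii ii, hii2, mul_one, hff2] at h2
            exact hiN h2
        exact Subtype.ext (hMcomm _ hm _ hgM)
      exact hnormal (hmax N (isPGroup_of_core_bot hcore N hburn) hMN).symm⟩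
  refine NineSelfCent.iso_alternating_six hHyp ?_
  have hb : bE ∈ JE := by show jC (bE.c : ℕ) = true; decide +kernel
  have hc : bE * cE ∈ JE := mul_mem hb (by show jC (cE.c : ℕ) = true; decide +kernel)
  have hne : ∀ (j : E9) (hj : j ∈ JE), Nat.ble 3 (j.c : ℕ) = true → orderOf (π (jM j hj)) = 3 := by
    intro j hj h3
    refine orderOf_eq_prime (hMcube _ (memM.mpr (S.Φ_mem_J.mpr hj))) fun e => ?_
    obtain ⟨k, hk, hk'⟩ := hπeq (u := 1) (v := jM j hj) (by rw [map_one, e])
    have hj' : j = aE ^ k := S.inj (by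
      rw [show ((1 : C) : G) = 1 from rfl, one_mul] at hk'; exact hk')
    rw [hj', code_pow_a k hk] at h3
    exact absurd (Nat.le_of_ble_eq_true h3) (by omega)
  refine ⟨π (jM bE hb), π (jM (bE * cE) hc), hne _ hb (by decide +kernel),
    hne _ hc (by rw [code_mul]; decide +kernel), fun q e => ?_⟩
  obtain ⟨g, rfl⟩ := QuotientGroup.mk'_surjective Z q
  rw [← map_inv, ← map_mul, ← map_mul] at e
  obtain ⟨k, hk, hk'⟩ := hπeq e.symm
  have hgc : (g : G) * S.Φ bE * (g : G)⁻¹ = S.Φ (bE * cE * aE ^ k) := by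
    rw [map_mul]; exact hk'
  obtain ⟨x, hx⟩ := hloc g bE hb (by decide +kernel)
    (hgc ▸ S.Φ_mem_J.mpr (mul_mem hc (pow_mem aE_mem k)))
  have h := impB_elim (all_spec hfus x) ((comm_iff x aE).mpr (S.inj (by
    rw [map_mul, map_mul, hx]; exact Subgroup.mem_centralizer_singleton_iff.mp g.2)))
  rw [Bool.not_eq_true'] at h
  refine Bool.false_ne_true (h.symm.trans ?_)
  rw [List.any_eq_true]
  refine ⟨k, List.mem_range.mpr hk, ?_⟩
  have h' : x * bE * x⁻¹ = bE * cE * aE ^ k := S.inj (by rw [map_mul, map_mul, map_inv, hx]; exact hgc)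
  have h'' := congrArg (fun t : E9 => (t.c : ℕ)) h'
  rw [code_conj, code_mul, code_mul, code_pow_a k hk] at h''
  rw [Nat.beq_eq]
  exact h''

end Setup

end CfsgLib.AltNineThree
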