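import Cfsg.Agent.Lib.Transfer.ThompsonComplement
import Cfsg.Agent.Lib.Groups.SelfCentPrime

/-!
Generalities on normal `p`-complements and trivial `p'`-cores.
-/

set_option autoImplicit false
set_option linter.unusedSectionVars false
set_option linter.style.haveILetI false

namespace CfsgLib.AltNineThree

open CfsgLib.Transfer

/-- An extension of a group with a normal `p`-complement by a `p`-group has one. -/
theorem hasNPC_of_normal {p : ℕ} [Fact p.Prime] {K : Type*} [Group K] [Finite K] (N : Subgroup K)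
    [hN : N.Normal] (hq : IsPGroup p (K ⧸ N)) (h : Cfsg.HasNormalPComplement p N) :
    Cfsg.HasNormalPComplement p K := by
  set R := (Cfsg.pResidual p N).map N.subtype with hR
  haveI : R.Normal := ⟨by
    rintro _ ⟨r, hr, rfl⟩ g
    refine ⟨MulAut.conjNormal g r, ?_, by simp⟩
    exact map_pResidual_le (MulAut.conjNormal g : MulAut N).toMonoidHom ⟨r, hr, rfl⟩⟩
  refine hasNormalPComplement_of_le_of_isPGroup_quotient R ?_ ?_
  · rw [hR, Subgroup.card_map_of_injective N.subtype_injective]
    exact ((Fact.out : p.Prime).coprime_iff_not_dvd.mpr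
      (hasNormalPComplement_iff_pResidual.mp h)).symm
  · haveI := pResidual_normal p N
    obtain ⟨m, hm⟩ := IsPGroup.iff_card.mp
      (isPGroup_quotient_pResidual : IsPGroup p (N ⧸ Cfsg.pResidual p N))
    obtain ⟨n, hn⟩ := IsPGroup.iff_card.mp hq
    refine IsPGroup.of_card (n := m + n) ?_
    rw [← Subgroup.index_eq_card, hR, Subgroup.index_map_subtype, Subgroup.index_eq_card,
      Subgroup.index_eq_card, hm, hn, pow_add]

variable {p : ℕ} [Fact p.Prime] {X : Type*} [Group X] [Finite X]

/-- With trivial core, a normal subgroup with a normal `p`-complement is a `p`-group. -/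
theorem isPGroup_of_core_bot (hcore : Cfsg.pPrimeCore p X = ⊥) (N : Subgroup X) [hN : N.Normal]
    (h : Cfsg.HasNormalPComplement p N) : IsPGroup p N := by
  set R := (Cfsg.pResidual p N).map N.subtype with hR
  have hRn : R.Normal := ⟨by
    rintro _ ⟨r, hr, rfl⟩ g
    refine ⟨MulAut.conjNormal g r, ?_, by simp⟩
    exact map_pResidual_le (MulAut.conjNormal g : MulAut N).toMonoidHom ⟨r, hr, rfl⟩⟩
  have hle : R ≤ Cfsg.pPrimeCore p X := SelfCent.le_pPrimeCore hRn (by
    rw [hR, Subgroup.card_map_of_injective N.subtype_injective]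
    exact ((Fact.out : p.Prime).coprime_iff_not_dvd.mpr
      (hasNormalPComplement_iff_pResidual.mp h)).symm)
  rw [hcore, le_bot_iff, hR, Subgroup.map_eq_bot_iff_of_injective _ N.subtype_injective] at hle
  haveI := pResidual_normal p N
  refine (isPGroup_quotient_pResidual : IsPGroup p (N ⧸ Cfsg.pResidual p N)).of_injective
    (QuotientGroup.mk' _) ?_
  rw [← MonoidHom.ker_eq_bot_iff, QuotientGroup.ker_mk', hle]

/-- A central quotient by a `p`-group keeps the core trivial. -/
theorem core_quot_bot (Z : Subgroup X) [Z.Normal] (hZc : Z ≤ Subgroup.center X) (hZ : IsPGroup p Z)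
    (hcore : Cfsg.pPrimeCore p X = ⊥) : Cfsg.pPrimeCore p (X ⧸ Z) = ⊥ := by
  classical
  set π := QuotientGroup.mk' Z with hπ
  set C := Cfsg.pPrimeCore p (X ⧸ Z)
  haveI : C.Normal := SelfCent.pPrimeCore_normal' p
  set N := C.comap π with hN
  haveI : N.Normal := by rw [hN]; infer_instance
  have hco : (Nat.card C).Coprime p := SelfCent.pPrimeCore_coprime p
  have hnd : ¬ p ∣ Nat.card C := (Fact.out : p.Prime).coprime_iff_not_dvd.mp hco.symm
  have hNc : Nat.card N = Nat.card C * Nat.card Z := by
    rw [hN, CfsgLib.PSolvable.card_comap_of_surjective (QuotientGroup.mk'_surjective Z),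
      QuotientGroup.ker_mk']
    ring
  have hZN : Z ≤ N := fun n hn => Subgroup.mem_comap.mpr (by
    rw [show π n = 1 from (QuotientGroup.eq_one_iff n).mpr hn]; exact one_mem _)
  obtain ⟨k, hk⟩ := IsPGroup.iff_card.mp hZ
  let Q : Sylow p N := Sylow.ofCard (Z.subgroupOf N) (by
    rw [Nat.card_congr (Subgroup.subgroupOfEquivOfLe hZN).toEquiv, hk, hNc, hk,
      Nat.factorization_mul Nat.card_pos.ne' (pow_ne_zero _ (Fact.out : p.Prime).ne_zero)]
    simp [Nat.factorization_eq_zero_of_not_dvd hnd, (Fact.out : p.Prime).factorization_self,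
      Nat.factorization_pow])
  have hp := isPGroup_of_core_bot hcore N (hasNormalPComplement_of_central Q fun z hz =>
    Subgroup.mem_center_iff.mpr fun g => Subtype.ext
      (Subgroup.mem_center_iff.mp (hZc (Subgroup.mem_subgroupOf.mp hz)) g))
  obtain ⟨m, hm⟩ := IsPGroup.iff_card.mp hp
  refine Subgroup.card_eq_one.mp (Nat.eq_one_of_dvd_coprimes
    (Nat.Coprime.pow_right m hco) dvd_rfl ?_)
  rw [← hm, hNc]
  exact dvd_mul_right _ _

end CfsgLib.AltNineThree
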