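import Cfsg.Agent.Lib.NineTI.Isolated
import Cfsg.Agent.Lib.NineTI.KleinAutomizer
import Cfsg.Agent.Lib.NineSelfCent.Basic
import Cfsg.Agent.Lib.AltNineThree.Core

/-!
A self-centralizing Sylow subgroup `M` of order nine inverted by its normalizer, all of whose
elements outside one line have centralizer `M`, is normal when the core is trivial.
-/

set_option autoImplicit false
set_option linter.unusedSectionVars false
set_option linter.style.haveILetI false

namespace CfsgLib.AltNineThree

open CfsgLib.Transfer Cfsg CfsgLib.Char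
open scoped ComplexConjugate

variable {Y : Type*} [Group Y] [Finite Y]

/-- The hypothesis. -/
structure DihHyp (M : Subgroup Y) (a i : Y) : Prop where
  card : Nat.card M = 9
  comm : ∀ x ∈ M, ∀ y ∈ M, x * y = y * x
  cube : ∀ x ∈ M, x ^ 3 = 1
  inv : ∀ m ∈ M, i * m * i⁻¹ = m⁻¹
  ii : i * i = 1
  norm : ∀ g ∈ Subgroup.normalizer (M : Set Y), g ∈ M ∨ g * i ∈ M
  mem : a ∈ M
  ne : a ≠ 1
  cent : ∀ m ∈ M, m ∉ Subgroup.zpowers a → Subgroup.centralizer ({m} : Set Y) = M

theorem val_no_fix : ∀ σ : Equiv.Perm (Fin 3), (∀ k, σ k ≠ k) →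
    2 + ((Equiv.Perm.sign σ : ℤˣ) : ℤ) - ((Finset.univ.filter fun k => σ k = k).card : ℤ) = 3 := by
  decide

namespace DihHyp

variable {M : Subgroup Y} {a i : Y} (h : DihHyp M a i)
include h

theorem card_a : Nat.card (Subgroup.zpowers a) = 3 := by
  haveI := Fact.mk Nat.prime_three
  rw [Nat.card_zpowers]
  exact orderOf_eq_prime (h.cube a h.mem) h.ne

theorem isPGroup : IsPGroup 3 M := fun g => ⟨1, Subtype.ext (by simpa using h.cube g g.2)⟩

theorem le_a : Subgroup.zpowers a ≤ M := Subgroup.zpowers_le.mpr h.mem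

theorem i_norm : i ∈ Subgroup.normalizer (M : Set Y) := by
  have hii : i⁻¹ = i := inv_eq_of_mul_eq_one_left h.ii
  rw [Subgroup.mem_normalizer_iff_map_conj_eq]
  refine Subgroup.eq_of_le_of_card_ge ?_ (le_of_eq
    (Subgroup.card_map_of_injective (MulAut.conj i).injective).symm)
  rintro _ ⟨m, hm, rfl⟩
  show i * m * i⁻¹ ∈ M
  rw [h.inv m hm]; exact inv_mem hm

theorem exists_b : ∃ b ∈ M, b ∉ Subgroup.zpowers a := by
  by_contra hn
  push Not at hn
  have := Subgroup.card_le_of_le (H := M) (K := Subgroup.zpowers a) hn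
  rw [h.card, h.card_a] at this
  omega

theorem i_notMem : i ∉ M := fun hi => by
  have h1 := h.inv a h.mem
  rw [h.comm i hi a h.mem, mul_inv_cancel_right] at h1
  have h2 := h.cube a h.mem
  rw [pow_succ, pow_two, mul_eq_one_iff_eq_inv.mpr h1, one_mul] at h2
  exact h.ne h2

theorem maximal {R : Subgroup Y} (hR : IsPGroup 3 R) (hle : M ≤ R) : R = M := by
  by_contra hne
  haveI := Fact.mk Nat.prime_three
  haveI := hR.isNilpotent
  have hlt : M.subgroupOf R < ⊤ := lt_top_iff_ne_top.mpr fun e =>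
    hne (le_antisymm (Subgroup.subgroupOf_eq_top.mp e) hle)
  obtain ⟨⟨r, hrR⟩, hr, hrn⟩ :=
    SetLike.exists_of_lt (Group.normalizerCondition_of_isNilpotent _ hlt)
  rw [Subgroup.mem_subgroupOf] at hrn
  have hrN : r ∈ Subgroup.normalizer (M : Set Y) := by
    rw [Subgroup.mem_normalizer_iff_map_conj_eq]
    refine Subgroup.eq_of_le_of_card_ge ?_ (le_of_eq
      (Subgroup.card_map_of_injective (MulAut.conj r).injective).symm)
    rintro _ ⟨m, hm, rfl⟩
    exact Subgroup.mem_subgroupOf.mp ((Subgroup.mem_normalizer_iff.mp hr ⟨m, hle hm⟩).mp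
      (Subgroup.mem_subgroupOf.mpr hm))
  have hri := (h.norm r hrN).resolve_left hrn
  have hiR : i ∈ R := by
    have := mul_mem (inv_mem hrR) (hle hri)
    rwa [inv_mul_cancel_left] at this
  obtain ⟨n, hn⟩ := hR ⟨i, hiR⟩
  have h1 : i ^ (3 ^ n) = 1 := congrArg Subtype.val hn
  have h2 : orderOf i = 1 := Nat.eq_one_of_dvd_coprimes
    (Nat.Coprime.pow_right n (by norm_num : Nat.Coprime 2 3))
    (orderOf_dvd_of_pow_eq_one (by rw [pow_two, h.ii])) (orderOf_dvd_of_pow_eq_one h1)
  exact h.i_notMem (orderOf_eq_one_iff.mp h2 ▸ one_mem M)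

/-- `M` as a Sylow subgroup. -/
def sylow : Sylow 3 Y := ⟨M, h.isPGroup, fun hQ hle => h.maximal hQ hle⟩

theorem conj_a_mem {g : Y} (hg : g ∈ Subgroup.normalizer (M : Set Y)) :
    g * a * g⁻¹ ∈ Subgroup.zpowers a := by
  rcases h.norm g hg with hm | hm
  · rw [h.comm g hm a h.mem, mul_inv_cancel_right]
    exact Subgroup.mem_zpowers a
  · rw [show g = g * i * i by rw [mul_assoc, h.ii, mul_one],
      show g * i * i * a * (g * i * i)⁻¹ = g * i * (i * a * i⁻¹) * (g * i)⁻¹ by group,
      h.inv a h.mem, h.comm _ hm _ (inv_mem h.mem), mul_inv_cancel_right]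
    exact inv_mem (Subgroup.mem_zpowers a)

theorem card_N : Nat.card (Subgroup.normalizer (M : Set Y)) = 18 := by
  classical
  haveI : Fintype Y := Fintype.ofFinite Y
  set s := Finset.univ.filter (fun y : Y => y ∈ M) with hs
  have hsc : s.card = 9 := by rw [hs, ← Fintype.card_subtype, ← Nat.card_eq_fintype_card]; exact h.card
  rw [Nat.card_eq_fintype_card, Fintype.card_subtype,
    show (Finset.univ.filter fun y : Y => y ∈ Subgroup.normalizer (M : Set Y)) =
      s ∪ s.image (· * i) from ?_,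
    Finset.card_union_of_disjoint, Finset.card_image_of_injective _ (mul_left_injective i), hsc]
  · rw [Finset.disjoint_left]
    intro y hy hy'
    simp only [hs, Finset.mem_filter, Finset.mem_univ, true_and, Finset.mem_image] at hy hy'
    obtain ⟨m, hm, rfl⟩ := hy'
    exact h.i_notMem ((M.mul_mem_cancel_left hm).mp hy)
  · ext y
    simp only [hs, Finset.mem_filter, Finset.mem_univ, true_and, Finset.mem_union, Finset.mem_image]
    constructor
    · exact fun hy => (h.norm y hy).imp_right fun hm => ⟨y * i, hm, by rw [mul_assoc, h.ii, mul_one]⟩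
    · rintro (hy | ⟨m, hm, rfl⟩)
      · exact Subgroup.le_normalizer hy
      · exact mul_mem (Subgroup.le_normalizer hm) h.i_norm

/-- The line lies in a proper normal subgroup. -/
theorem exists_normal : ∃ K : Subgroup Y, K.Normal ∧ K ≠ ⊤ ∧ a ∈ K := by
  classical
  haveI := Fact.mk Nat.prime_three
  haveI : Fintype Y := Fintype.ofFinite Y
  obtain ⟨b, hb, hba⟩ := h.exists_b
  set A := Subgroup.zpowers a with hA
  set N := Subgroup.normalizer (M : Set Y) with hNdef
  haveI : Fintype N := Fintype.ofFinite N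
  have hii : i⁻¹ = i := inv_eq_of_mul_eq_one_left h.ii
  have hAi : ∀ x ∈ A, i * x * i = x⁻¹ := fun x hx => by
    have := h.inv x (h.le_a hx); rwa [hii] at this
  let H0 : Subgroup N :=
    { carrier := {g | (g : Y) ∈ A ∨ (g : Y) * i ∈ A}
      one_mem' := Or.inl (one_mem A)
      mul_mem' := by
        rintro g g' (hg | hg) (hg' | hg')
        · exact Or.inl (mul_mem hg hg')
        · exact Or.inr (by rw [Subgroup.coe_mul, mul_assoc]; exact mul_mem hg hg')
        · refine Or.inr ?_
          have e : (g : Y) * g' * i = (g * i) * (i * g' * i) := by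
            calc (g : Y) * g' * i = g * (i * i) * g' * i := by rw [h.ii, mul_one]
              _ = _ := by group
          rw [Subgroup.coe_mul, e, hAi _ hg']
          exact mul_mem hg (inv_mem hg')
        · refine Or.inl ?_
          have e : (g : Y) * g' = (g * i) * (i * (g' * i) * i) := by
            calc (g : Y) * g' = g * (i * i) * g' * (i * i) := by rw [h.ii, mul_one, mul_one]
              _ = _ := by group
          rw [Subgroup.coe_mul, e, hAi _ hg']
          exact mul_mem hg (inv_mem hg')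
      inv_mem' := by
        rintro g (hg | hg)
        · exact Or.inl (inv_mem hg)
        · refine Or.inr ?_
          have e : ((g⁻¹ : N) : Y) * i = i * (g * i)⁻¹ * i := by
            rw [InvMemClass.coe_inv, mul_inv_rev, hii]
            calc (g : Y)⁻¹ * i = (i * i) * (g : Y)⁻¹ * i := by rw [h.ii, one_mul]
              _ = _ := by group
          rw [e, hAi _ (inv_mem hg), inv_inv]
          exact hg }
  have hbk : ∀ k : ℤ, b ^ k ∈ A → b ^ k = 1 := by
    intro k hk
    by_contra hne
    have hbo : orderOf b = 3 := orderOf_eq_prime (h.cube b hb) fun e => hne (by rw [e, one_zpow])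
    have h1 : Subgroup.zpowers (b ^ k) = Subgroup.zpowers b := by
      refine Subgroup.eq_of_le_of_card_ge (Subgroup.zpowers_le.mpr ⟨k, rfl⟩) ?_
      rw [Nat.card_zpowers, Nat.card_zpowers, hbo, orderOf_eq_prime (h.cube _ (zpow_mem hb k)) hne]
    exact hba (Subgroup.zpowers_le.mpr hk (h1 ▸ Subgroup.mem_zpowers b))
  have hinj : Function.Injective (fun p : Fin 3 × A => b ^ (p.1 : ℕ) * (p.2 : Y)) := by
    rintro ⟨k, x⟩ ⟨l, y⟩ e
    simp only at e
    have h1 : b ^ ((k : ℤ) - l) = 1 := hbk _ (by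
      have : b ^ ((k : ℤ) - l) = (y : Y) * (x : Y)⁻¹ := by
        rw [zpow_sub, zpow_natCast, zpow_natCast, eq_mul_inv_iff_mul_eq,
          show b ^ (k : ℕ) * (b ^ (l : ℕ))⁻¹ = (b ^ (l : ℕ))⁻¹ * b ^ (k : ℕ) from
            (((Commute.refl b).pow_pow (k : ℕ) (l : ℕ)).inv_right).eq, mul_assoc, e,
          inv_mul_cancel_left]
      exact this ▸ mul_mem y.2 (inv_mem x.2))
    have h2 : (3 : ℤ) ∣ (k : ℤ) - l := by
      rw [← orderOf_dvd_iff_zpow_eq_one, orderOf_eq_prime (h.cube b hb) fun e' => hba (e' ▸ one_mem A)] at h1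
      exact_mod_cast h1
    have hkl : k = l := Fin.ext (by omega)
    subst hkl
    exact Prod.ext rfl (Subtype.ext (mul_left_cancel e))
  have hdec : ∀ m ∈ M, ∃ k : Fin 3, (b ^ (k : ℕ))⁻¹ * m ∈ A := by
    intro m hm
    have hbij := (Nat.bijective_iff_injective_and_card
      (fun p : Fin 3 × A => (⟨b ^ (p.1 : ℕ) * (p.2 : Y),
        mul_mem (pow_mem hb _) (h.le_a p.2.2)⟩ : M))).mpr
      ⟨fun p q e => hinj (congrArg Subtype.val e), by
        rw [Nat.card_prod, Nat.card_fin, h.card_a, h.card]⟩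
    obtain ⟨⟨k, x⟩, hx⟩ := hbij.2 ⟨m, hm⟩
    refine ⟨k, ?_⟩
    rw [← show b ^ (k : ℕ) * (x : Y) = m from congrArg Subtype.val hx, inv_mul_cancel_left]
    exact x.2
  let bN : Fin 3 → N := fun k => ⟨b ^ (k : ℕ), Subgroup.le_normalizer (pow_mem hb _)⟩
  have hq : ∀ k l : Fin 3, (QuotientGroup.mk (bN k) : N ⧸ H0) = QuotientGroup.mk (bN l) → k = l := by
    intro k l e
    have e' := QuotientGroup.eq.mp e
    rcases e' with e' | e'
    · have : (b ^ (k : ℕ) * (((b ^ (k : ℕ))⁻¹ * b ^ (l : ℕ) : Y)), l) =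
          (b ^ (l : ℕ), l) := by rw [mul_inv_cancel_left]
      have := hinj (a₁ := (k, ⟨_, e'⟩)) (a₂ := (l, ⟨1, one_mem A⟩)) (by simp [bN])
      exact congrArg Prod.fst this
    · exfalso
      exact h.i_notMem ((M.mul_mem_cancel_left
        (mul_mem (inv_mem (pow_mem hb (k : ℕ))) (pow_mem hb (l : ℕ)))).mp (h.le_a e'))
  have hsurjq : ∀ g : N, ∃ k : Fin 3, (QuotientGroup.mk (bN k) : N ⧸ H0) = QuotientGroup.mk g := by
    intro g
    rcases h.norm g g.2 with hm | hm <;> obtain ⟨k, hk⟩ := hdec _ hm <;>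
      refine ⟨k, QuotientGroup.eq.mpr ?_⟩
    · exact Or.inl hk
    · refine Or.inr ?_
      show (b ^ (k : ℕ))⁻¹ * g * i ∈ A
      rw [mul_assoc]; exact hk
  let eX : Fin 3 ≃ N ⧸ H0 := Equiv.ofBijective (fun k => QuotientGroup.mk (bN k))
    ⟨fun k l e => hq k l e, fun q => QuotientGroup.induction_on q hsurjq⟩
  let π : N →* Equiv.Perm (Fin 3) :=
    (Equiv.permCongrHom eX.symm).toMonoidHom.comp (MulAction.toPermHom N (N ⧸ H0))
  have hπfix : ∀ (n : N) (k : Fin 3), π n k = k ↔ (bN k)⁻¹ * n * bN k ∈ H0 := by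
    intro n k
    show eX.symm (n • eX k) = k ↔ _
    rw [Equiv.symm_apply_eq]
    show n • (QuotientGroup.mk (bN k) : N ⧸ H0) = QuotientGroup.mk (bN k) ↔ _
    rw [MulAction.Quotient.smul_mk, eq_comm, QuotientGroup.eq, smul_eq_mul, mul_assoc]
  letI : MulAction N (Fin 3) := MulAction.compHom _ π
  haveI : MulAction.IsPretransitive N (Fin 3) := ⟨fun k l => ⟨bN l * (bN k)⁻¹, by
    show eX.symm ((bN l * (bN k)⁻¹) • eX k) = l
    rw [Equiv.symm_apply_eq]
    show (bN l * (bN k)⁻¹) • (QuotientGroup.mk (bN k) : N ⧸ H0) = QuotientGroup.mk (bN l)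
    rw [MulAction.Quotient.smul_mk, smul_eq_mul, inv_mul_cancel_right]⟩⟩
  let sgn : N →* ℂˣ := (Units.map ((Int.castRingHom ℂ).toMonoidHom)).comp (Equiv.Perm.sign.comp π)
  let f : N → ℂ := fun n => 2 + (sgn n : ℂ) - (Nat.card (MulAction.fixedBy (Fin 3) n) : ℂ)
  let S : Set Y := {g | g ∈ M ∧ g ∉ A}
  have hgen : IsGeneralizedCharacter N f := by
    have h2 : IsCharacter N (fun _ : N => (2 : ℂ)) := by
      have := isCharacter_add (isCharacter_one (G := N)) (isCharacter_one (G := N))
      have e : ((fun _ : N => (1 : ℂ)) + fun _ => 1) = fun _ => 2 := funext fun _ => by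
        simp [one_add_one_eq_two]
      exact e ▸ this
    exact isGeneralized_sub (isGeneralized_of_isCharacter (isCharacter_add h2
      (isCharacter_monoidHom sgn))) (isGeneralized_of_isCharacter (isCharacter_perm (Fin 3)))
  have hf : ∀ n : N, f n = if (n : Y) ∈ S then (3 : ℂ) else 0 := by
    intro n
    have hfix : Nat.card (MulAction.fixedBy (Fin 3) n) =
        (Finset.univ.filter fun p => π n p = p).card := by
      rw [← Fintype.card_subtype, ← Nat.card_eq_fintype_card]
      rfl
    have hval : f n = ((2 + ((Equiv.Perm.sign (π n) : ℤˣ) : ℤ) -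
        ((Finset.univ.filter fun p => π n p = p).card : ℤ) : ℤ) : ℂ) := by
      simp only [f, hfix]; push_cast; rfl
    split_ifs with hn
    · rw [hval, val_no_fix (π n) fun k hk => ?_]
      · norm_num
      rw [hπfix] at hk
      have e : ((bN k)⁻¹ * n * bN k : N) = n := Subtype.ext (by
        show (b ^ (k : ℕ))⁻¹ * (n : Y) * b ^ (k : ℕ) = n
        rw [h.comm _ (inv_mem (pow_mem hb _)) _ hn.1, inv_mul_cancel_right])
      rw [e] at hk
      rcases hk with hk | hk
      · exact hn.2 hk
      · exact h.i_notMem ((M.mul_mem_cancel_left hn.1).mp (h.le_a hk))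
    · have : ∃ k, π n k = k := by
        rcases h.norm n n.2 with hm | hm
        · refine ⟨0, (hπfix n 0).mpr (Or.inl ?_)⟩
          by_contra hA'
          refine hn ⟨hm, fun hA'' => hA' ?_⟩
          simpa [bN] using hA''
        · obtain ⟨j, hj⟩ := hdec _ hm
          refine ⟨⟨(2 * (j : ℕ)) % 3, by omega⟩, (hπfix n _).mpr (Or.inr ?_)⟩
          show (b ^ ((2 * (j : ℕ)) % 3))⁻¹ * (n : Y) * b ^ ((2 * (j : ℕ)) % 3) * i ∈ A
          have hcomm : ∀ x ∈ M, x * i = i * x⁻¹ := fun x hx => by
            have h1 := h.inv _ (inv_mem hx)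
            rw [inv_inv, mul_inv_eq_iff_eq_mul] at h1
            exact h1.symm
          have hp : ∀ l : ℕ, b ^ l = b ^ (l % 3) := fun l => by
            conv_lhs => rw [← Nat.mod_add_div l 3, pow_add, pow_mul, h.cube b hb, one_pow, mul_one]
          set c := b ^ ((2 * (j : ℕ)) % 3) with hc
          have hcM : c ∈ M := pow_mem hb _
          have hcc : (c⁻¹ * c⁻¹ : Y) = (b ^ (j : ℕ))⁻¹ := by
            rw [hc, ← hp, ← mul_inv_rev, ← pow_add, hp (2 * (j : ℕ) + 2 * j), hp (j : ℕ),
              show (2 * (j : ℕ) + 2 * j) % 3 = (j : ℕ) % 3 by omega]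
          have e : c⁻¹ * (n : Y) * c * i = (b ^ (j : ℕ))⁻¹ * ((n : Y) * i) := by
            rw [mul_assoc _ c i, hcomm c hcM]
            calc c⁻¹ * (n : Y) * (i * c⁻¹) = c⁻¹ * (((n : Y) * i) * c⁻¹) := by group
              _ = c⁻¹ * (c⁻¹ * ((n : Y) * i)) := by rw [h.comm _ hm _ (inv_mem hcM)]
              _ = _ := by rw [← mul_assoc, hcc]
          rw [e]; exact hj
      rw [hval, (NineTI.perm_three (π n)).2.1 this, Int.cast_zero]
  have hsupp : ∀ n : N, (n : Y) ∉ S → f n = 0 := fun n hn => by rw [hf, if_neg hn]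
  have h1 : f 1 = 0 := hsupp 1 fun e => e.2 (one_mem A)
  have hTI : ∀ g : Y, g ∉ N → ∀ t ∈ S, g * t * g⁻¹ ∈ S → t = 1 := by
    intro g hg t ht ht'
    exfalso
    apply hg
    rw [hNdef, Subgroup.mem_normalizer_iff_map_conj_eq]
    refine Subgroup.eq_of_le_of_card_ge ?_ (le_of_eq
      (Subgroup.card_map_of_injective (MulAut.conj g).injective).symm)
    rintro _ ⟨m, hm, rfl⟩
    rw [← h.cent _ ht'.1 ht'.2, Subgroup.mem_centralizer_singleton_iff]
    show g * m * g⁻¹ * (g * t * g⁻¹) = g * t * g⁻¹ * (g * m * g⁻¹)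
    simp only [conj_mul, h.comm m hm t ht.1]
  have hSc : ∑ n : N, f n = 18 := by
    simp only [hf]
    rw [Finset.sum_ite, Finset.sum_const_zero, add_zero, Finset.sum_const]
    have hc : (Finset.univ.filter fun n : N => (n : Y) ∈ S).card = 6 := by
      rw [← Finset.card_map ⟨_, Subtype.val_injective⟩,
        show (Finset.univ.filter fun n : N => (n : Y) ∈ S).map ⟨_, Subtype.val_injective⟩ =
          (Finset.univ.filter fun y : Y => y ∈ M) \ (Finset.univ.filter fun y : Y => y ∈ A) from ?_,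
        Finset.card_sdiff_of_subset (fun y hy => by
          simp only [Finset.mem_filter, Finset.mem_univ, true_and] at hy ⊢; exact h.le_a hy),
        ← Fintype.card_subtype, ← Fintype.card_subtype, ← Nat.card_eq_fintype_card,
        ← Nat.card_eq_fintype_card]
      · show Nat.card M - Nat.card A = 6
        rw [h.card, h.card_a]
      · ext y
        simp only [Finset.mem_map, Finset.mem_filter, Finset.mem_univ, true_and, Finset.mem_sdiff,
          Function.Embedding.coeFn_mk]
        exact ⟨fun ⟨n, hn, e⟩ => e ▸ hn, fun hy => ⟨⟨y, Subgroup.le_normalizer hy.1⟩, hy, rfl⟩⟩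
    rw [hc]; norm_num
  have hone : classInner f (fun _ => (1 : ℂ)) = 1 := by
    simp only [classInner, map_one, mul_one]
    rw [hSc, h.card_N]; norm_num
  have hnorm : classInner f f = 3 := by
    have e : classInner f f = 3 * classInner f (fun _ => (1 : ℂ)) := by
      simp only [classInner, Finset.mul_sum]
      refine Finset.sum_congr rfl fun n _ => ?_
      rw [hf n]
      split_ifs <;> simp only [map_ofNat, map_zero, map_one] <;> ring
    rw [e, hone, mul_one]
  have ha : ∀ g : Y, g * a * g⁻¹ ∉ S := by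
    intro g hg
    have hgN : g ∈ N := by
      rw [hNdef, Subgroup.mem_normalizer_iff_map_conj_eq]
      refine Subgroup.eq_of_le_of_card_ge ?_ (le_of_eq
        (Subgroup.card_map_of_injective (MulAut.conj g).injective).symm)
      rintro _ ⟨m, hm, rfl⟩
      rw [← h.cent _ hg.1 hg.2, Subgroup.mem_centralizer_singleton_iff]
      show g * m * g⁻¹ * (g * a * g⁻¹) = g * a * g⁻¹ * (g * m * g⁻¹)
      simp only [conj_mul, h.comm m hm a h.mem]
    exact hg.2 (h.conj_a_mem hgN)
  refine NineTI.exists_normal_of_norm_three N S hTI f hgen hsupp h1 hnorm hone a ha ?_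
  intro n hn x y hx hy e
  have hnS : (n : Y) ∈ S := by by_contra hne; exact hn (hsupp n hne)
  have hcube : ∀ w, IsConj a w → w * w * w = 1 := by
    intro w hw
    obtain ⟨g, rfl⟩ := isConj_iff.mp hw
    rw [conj_mul, conj_mul, show a * a * a = a ^ 3 by rw [pow_succ, pow_two], h.cube a h.mem]
    group
  have hxx := hcube x hx
  have hyy := hcube y hy
  have hnn : (x * y) * (x * y) * (x * y) = 1 := by
    rw [e, ← h.cube _ hnS.1, pow_succ, pow_two]
  have hr := NineSelfCent.triangle_pair hyy hnn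
  have hxi : x⁻¹ = x * x := inv_eq_of_mul_eq_one_left hxx
  have hyi : y⁻¹ = y * y := inv_eq_of_mul_eq_one_left hyy
  have hyy' : y⁻¹ * y⁻¹ = y := by rw [← mul_inv_rev, ← hyi, inv_inv]
  set p := x * y⁻¹ with hp
  set q := y⁻¹ * x with hq'
  have hpq : p * q = x * y * x := by
    calc p * q = x * (y⁻¹ * y⁻¹) * x := by rw [hp, hq']; group
      _ = _ := by rw [hyy']
  have hqp : q * p = y⁻¹ * x⁻¹ * y⁻¹ := by
    calc q * p = y⁻¹ * (x * x) * y⁻¹ := by rw [hp, hq']; group
      _ = _ := by rw [← hxi]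
  have hc : p * q = q * p := by rw [hpq, hqp, hr]
  let B := Subgroup.closure ({p, q} : Set Y)
  have hpB : p ∈ B := Subgroup.subset_closure (by simp)
  have hqB : q ∈ B := Subgroup.subset_closure (by simp)
  have hBc : ∀ u ∈ B, ∀ v ∈ B, u * v = v * u := by
    have hm : IsMulCommutative B := Subgroup.isMulCommutative_closure (by
      simp only [Set.mem_insert_iff, Set.mem_singleton_iff]
      rintro u (rfl | rfl) v (rfl | rfl) <;> first | rfl | exact hc | exact hc.symm)
    exact fun u hu v hv => congrArg Subtype.val (hm.is_comm.comm ⟨u, hu⟩ ⟨v, hv⟩)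
  have hxB' : x⁻¹ ∈ Subgroup.normalizer (B : Set Y) := by
    rw [Subgroup.mem_normalizer_iff_map_conj_eq]
    refine Subgroup.eq_of_le_of_card_ge ?_ (le_of_eq
      (Subgroup.card_map_of_injective (MulAut.conj x⁻¹).injective).symm)
    show Subgroup.map (MulAut.conj x⁻¹).toMonoidHom B ≤ B
    rw [MonoidHom.map_closure, Subgroup.closure_le]
    rintro _ ⟨u, hu, rfl⟩
    simp only [Set.mem_insert_iff, Set.mem_singleton_iff] at hu
    simp only [SetLike.mem_coe, MulEquiv.coe_toMonoidHom, MulAut.conj_apply, inv_inv]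
    rcases hu with rfl | rfl
    · rw [show x⁻¹ * p * x = q by rw [hp, hq']; group]; exact hqB
    · have e' : x⁻¹ * q * x = (p * q)⁻¹ := by
        rw [hpq, hq']
        calc x⁻¹ * (y⁻¹ * x) * x = x⁻¹ * y⁻¹ * (x * x) := by group
          _ = x⁻¹ * y⁻¹ * x⁻¹ := by rw [← hxi]
          _ = _ := by group
      rw [e']; exact inv_mem (mul_mem hpB hqB)
  have hxB : x ∈ Subgroup.normalizer (B : Set Y) := by simpa using inv_mem hxB'
  -- `x⁻¹` lies in the coset of `n`
  have hxn : x⁻¹ * (n : Y)⁻¹ ∈ B := by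
    have h0 : y⁻¹ = x⁻¹ * p := by rw [hp, inv_mul_cancel_left]
    have h2 : x⁻¹ * (n : Y)⁻¹ = x⁻¹ * (x⁻¹ * p * x⁻¹⁻¹) * (x⁻¹)⁻¹ * (x⁻¹ * x⁻¹ * x⁻¹) := by
      rw [← e, mul_inv_rev, h0]; group
    rw [h2, show x⁻¹ * x⁻¹ * x⁻¹ = 1 by rw [← mul_inv_rev, ← mul_inv_rev, ← mul_assoc, hxx, inv_one],
      mul_one]
    exact (Subgroup.mem_normalizer_iff.mp hxB' _).mp
      ((Subgroup.mem_normalizer_iff.mp hxB' _).mp hpB)
  have hyx : x⁻¹ * p = y⁻¹ := by rw [hp, inv_mul_cancel_left]
  have hnB : (n : Y) ∈ Subgroup.normalizer (B : Set Y) := by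
    have h2 : (n : Y) = (x⁻¹ * (n : Y)⁻¹)⁻¹ * x⁻¹ := by group
    rw [h2]
    exact mul_mem (inv_mem (Subgroup.le_normalizer hxn)) hxB'
  by_cases h3 : 3 ∣ Nat.card B
  · -- a fixed point of `n` of order three in `B`
    let Ω : Subgroup B :=
      { carrier := {u | u ^ 3 = 1}
        one_mem' := one_pow _
        mul_mem' := fun {u v} hu hv => by
          show (u * v) ^ 3 = 1
          rw [Commute.mul_pow (Subtype.ext (hBc u u.2 v v.2) : u * v = v * u) 3,
            show u ^ 3 = 1 from hu, show v ^ 3 = 1 from hv, one_mul]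
        inv_mem' := fun {u} hu => by
          show u⁻¹ ^ 3 = 1
          rw [inv_pow, show u ^ 3 = 1 from hu, inv_one] }
    obtain ⟨w, hw, hw1, hnw⟩ : ∃ w ∈ B, w ≠ 1 ∧ w ^ 3 = 1 ∧ (n : Y) * w = w * n := by
      let Z := Subgroup.zpowers (n : Y)
      let V : Subgroup Y := Ω.map B.subtype
      have hV : ∀ g ∈ Z, ∀ v ∈ V, g * v * g⁻¹ ∈ V := by
        rintro g hg _ ⟨v, hv, rfl⟩
        have hgB : g ∈ Subgroup.normalizer (B : Set Y) := Subgroup.zpowers_le.mpr hnB hg
        refine ⟨⟨g * v * g⁻¹, (Subgroup.mem_normalizer_iff.mp hgB _).mp v.2⟩, ?_, rfl⟩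
        refine Subtype.ext ?_
        show (g * (v : Y) * g⁻¹) ^ 3 = 1
        rw [conj_pow, ← SubmonoidClass.coe_pow, show v ^ 3 = 1 from hv, OneMemClass.coe_one, mul_one,
          mul_inv_cancel]
      letI : MulAction Z V :=
        { smul := fun g v => ⟨g * v * (g : Y)⁻¹, hV g g.2 v v.2⟩
          one_smul := fun v => Subtype.ext (by show (1 : Y) * v * (1 : Y)⁻¹ = v; group)
          mul_smul := fun g g' v => Subtype.ext (by
            show (g : Y) * g' * v * ((g : Y) * g')⁻¹ = (g : Y) * (g' * v * (g' : Y)⁻¹) * (g : Y)⁻¹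
            group) }
      have hZ : IsPGroup 3 Z := NineSelfCent.Hyp.isPGroup_zpowers (h.cube _ hnS.1)
      have hdvd : 3 ∣ Nat.card V := by
        rw [Subgroup.card_map_of_injective B.subtype_injective]
        obtain ⟨u, hu⟩ := exists_prime_orderOf_dvd_card' (G := B) 3 h3
        have : (⟨u, by show u ^ 3 = 1; rw [← hu]; exact pow_orderOf_eq_one u⟩ : Ω) ^ 3 = 1 :=
          Subtype.ext (by show u ^ 3 = 1; rw [← hu]; exact pow_orderOf_eq_one u)
        have h' := orderOf_dvd_natCard (⟨u, by show u ^ 3 = 1; rw [← hu]; exact pow_orderOf_eq_one u⟩ : Ω)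
        rwa [← Subgroup.orderOf_coe, hu] at h'
      have h1' : (1 : V) ∈ MulAction.fixedPoints Z V := fun g => Subtype.ext (by
        show (g : Y) * 1 * (g : Y)⁻¹ = 1; group)
      obtain ⟨v, hv, hv1⟩ := hZ.exists_fixed_point_of_prime_dvd_card_of_fixed_point V hdvd h1'
      obtain ⟨u, hu, huv⟩ := v.2
      refine ⟨v, huv ▸ u.2, fun e' => hv1 (Subtype.ext e'.symm), ?_, ?_⟩
      · rw [← huv]; exact congrArg Subtype.val (show u ^ 3 = 1 from hu)
      · have := congrArg Subtype.val (hv ⟨n, Subgroup.mem_zpowers _⟩)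
        exact mul_inv_eq_iff_eq_mul.mp this
    have hwM : w ∈ M := by
      rw [← h.cent _ hnS.1 hnS.2, Subgroup.mem_centralizer_singleton_iff]
      exact hnw.2.symm
    have hconjM : ∀ t, IsConj a t → t ∈ M → t ∈ A := fun t ht htM => by
      obtain ⟨g, rfl⟩ := isConj_iff.mp ht
      by_contra hne
      exact ha g ⟨htM, hne⟩
    by_cases hwA : w ∈ A
    · -- `B` centralizes `a`
      have haB : a ∈ B := by
        have e' : Subgroup.zpowers w = A := Subgroup.eq_of_le_of_card_ge (Subgroup.zpowers_le.mpr hwA) (by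
          rw [h.card_a, Nat.card_zpowers, orderOf_eq_prime hnw.1 hw1])
        exact Subgroup.zpowers_le.mpr hw (e' ▸ Subgroup.mem_zpowers a)
      set C := Subgroup.centralizer ({a} : Set Y)
      have hBC : ∀ u ∈ B, u ∈ C := fun u hu =>
        Subgroup.mem_centralizer_singleton_iff.mpr (hBc u hu a haB)
      have hMC : M ≤ C := fun m hm =>
        Subgroup.mem_centralizer_singleton_iff.mpr (h.comm m hm a h.mem)
      have hxC : x ∈ C := by
        have := mul_mem (hBC _ hxn) (hMC hnS.1)
        rw [inv_mul_cancel_right] at this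
        exact inv_mem_iff.mp this
      have hyC : y ∈ C := by
        have := mul_mem (inv_mem hxC) (hMC hnS.1)
        rwa [← e, inv_mul_cancel_left] at this
      have key : ∀ t ∈ C, t * t * t = 1 → IsConj a t → t ∈ A := by
        intro t ht ht3 hta
        have htp : IsPGroup 3 (Subgroup.zpowers (⟨t, ht⟩ : C)) :=
          NineSelfCent.Hyp.isPGroup_zpowers (Subtype.ext (by
            show t ^ 3 = 1; rw [pow_succ, pow_two, ht3]))
        obtain ⟨R, hR⟩ := htp.exists_le_sylow
        obtain ⟨c, hcR⟩ := MulAction.exists_smul_eq C R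
          (h.sylow.subtype (show (h.sylow : Subgroup Y) ≤ C from hMC))
        have hm : c * ⟨t, ht⟩ * c⁻¹ ∈
            ((h.sylow.subtype (show (h.sylow : Subgroup Y) ≤ C from hMC) : Sylow 3 C) : Subgroup C) := by
          rw [← hcR, Sylow.coe_subgroup_smul]
          exact ⟨⟨t, ht⟩, hR (Subgroup.mem_zpowers _), rfl⟩
        rw [Sylow.coe_subtype, Subgroup.mem_subgroupOf] at hm
        have hm' : (c : Y) * t * (c : Y)⁻¹ ∈ A :=
          hconjM _ (hta.trans (isConj_iff.mpr ⟨c, rfl⟩)) hm
        have hca : ∀ s ∈ A, (c : Y)⁻¹ * s * c = s := fun s hs => by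
          obtain ⟨l, rfl⟩ := Subgroup.mem_zpowers_iff.mp hs
          have : Commute (c : Y) a := Subgroup.mem_centralizer_singleton_iff.mp c.2
          rw [mul_assoc, ← (this.zpow_right l).eq, inv_mul_cancel_left]
        have := hca _ hm'
        rw [show (c : Y)⁻¹ * (c * t * (c : Y)⁻¹) * c = t by group] at this
        exact this ▸ hm'
      exact hnS.2 (e ▸ mul_mem (key x hxC hxx hx) (key y hyC hyy hy))
    · have hBM : ∀ u ∈ B, u ∈ M := fun u hu => by
        rw [← h.cent _ hwM hwA, Subgroup.mem_centralizer_singleton_iff]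
        exact hBc u hu w hw
      have hxM : x ∈ M := by
        have := mul_mem (hBM _ hxn) hnS.1
        rw [inv_mul_cancel_right] at this
        exact inv_mem_iff.mp this
      have hyM : y ∈ M := by
        have := mul_mem (inv_mem hxM) hnS.1
        rwa [← e, inv_mul_cancel_left] at this
      exact hnS.2 (e ▸ mul_mem (hconjM x hx hxM) (hconjM y hy hyM))
  · -- the whole coset of `n` is conjugate to `n`
    have hcomm1 : ∀ u ∈ B, u * (n : Y) = n * u → u = 1 := by
      intro u hu hc'
      have huM : u ∈ M := by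
        rw [← h.cent _ hnS.1 hnS.2, Subgroup.mem_centralizer_singleton_iff]; exact hc'
      by_contra hu1
      refine h3 ?_
      have := orderOf_dvd_natCard (⟨u, hu⟩ : B)
      rwa [← Subgroup.orderOf_coe, orderOf_eq_prime (h.cube u huM) hu1] at this
    let F : B → B := fun u => ⟨(u : Y) * ((n : Y) * (u : Y)⁻¹ * (n : Y)⁻¹),
      mul_mem u.2 ((Subgroup.mem_normalizer_iff.mp hnB _).mp (inv_mem u.2))⟩
    have hFinj : Function.Injective F := by
      intro u v huv
      have huv' : (u : Y) * ((n : Y) * (u : Y)⁻¹ * (n : Y)⁻¹) =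
          (v : Y) * ((n : Y) * (v : Y)⁻¹ * (n : Y)⁻¹) := congrArg Subtype.val huv
      have h' : ((v : Y)⁻¹ * u) * n = n * ((v : Y)⁻¹ * u) := by
        calc ((v : Y)⁻¹ * u) * n
            = (v : Y)⁻¹ * ((u : Y) * ((n : Y) * (u : Y)⁻¹ * (n : Y)⁻¹)) * ((n : Y) * u) := by group
          _ = (v : Y)⁻¹ * ((v : Y) * ((n : Y) * (v : Y)⁻¹ * (n : Y)⁻¹)) * ((n : Y) * u) := by rw [huv']
          _ = _ := by group
      exact (inv_mul_eq_one.mp (Subtype.ext (hcomm1 _ (mul_mem (inv_mem v.2) u.2) h') :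
        v⁻¹ * u = 1)).symm
    obtain ⟨u, hu⟩ := (Finite.injective_iff_surjective (f := F)).mp hFinj ⟨_, hxn⟩
    have hu' : (u : Y) * ((n : Y) * (u : Y)⁻¹ * (n : Y)⁻¹) = x⁻¹ * (n : Y)⁻¹ := congrArg Subtype.val hu
    have hconj : (u : Y) * n * (u : Y)⁻¹ = x⁻¹ := by
      calc (u : Y) * n * (u : Y)⁻¹ = (u : Y) * ((n : Y) * (u : Y)⁻¹ * (n : Y)⁻¹) * n := by group
        _ = _ := by rw [hu', inv_mul_cancel_right]
    obtain ⟨g, hg⟩ := isConj_iff.mp hx
    refine ha ((u : Y)⁻¹ * g) ?_
    have : (u : Y)⁻¹ * g * a * ((u : Y)⁻¹ * g)⁻¹ = (n : Y)⁻¹ := by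
      calc (u : Y)⁻¹ * g * a * ((u : Y)⁻¹ * g)⁻¹ = (u : Y)⁻¹ * (g * a * g⁻¹) * u := by group
        _ = (u : Y)⁻¹ * (x⁻¹)⁻¹ * u := by rw [hg, inv_inv]
        _ = _ := by rw [← hconj]; group
    rw [this]
    exact ⟨inv_mem hnS.1, fun hA' => hnS.2 (inv_mem_iff.mp hA')⟩

/-- **The lemma.** -/
theorem normal (hcore : Cfsg.pPrimeCore 3 Y = ⊥) : Subgroup.normalizer (M : Set Y) = ⊤ := by
  classical
  haveI := Fact.mk Nat.prime_three
  obtain ⟨K, hK, hKtop, haK⟩ := h.exists_normal
  haveI := hK
  set A := Subgroup.zpowers a with hA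
  have hAK : A ≤ K := Subgroup.zpowers_le.mpr haK
  have hii : i⁻¹ = i := inv_eq_of_mul_eq_one_left h.ii
  by_cases hbK : ∃ b ∈ M, b ∉ A ∧ b ∈ K
  · obtain ⟨b, hb, hbA, hbK⟩ := hbK
    have hMK : M ≤ K := by
      have hlt : A < M ⊓ K := by
        refine lt_of_le_of_ne (le_inf h.le_a hAK) fun e => hbA ?_
        rw [e]; exact ⟨hb, hbK⟩
      have hd := Subgroup.card_dvd_of_le (inf_le_left : M ⊓ K ≤ M)
      rw [h.card] at hd
      have h3 : 3 < Nat.card ↥(M ⊓ K) := by
        rw [← h.card_a]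
        by_contra hle
        exact hlt.ne (Subgroup.eq_of_le_of_card_ge hlt.le (not_lt.mp hle))
      have h9 : Nat.card ↥(M ⊓ K) = 9 := by
        have := Nat.le_of_dvd (by norm_num) hd
        generalize Nat.card ↥(M ⊓ K) = c at hd h3 this
        interval_cases c <;> omega
      exact inf_eq_left.mp (Subgroup.eq_of_le_of_card_ge inf_le_left (by rw [h9, h.card]))
    have hfrat := Sylow.normalizer_sup_eq_top' h.sylow (N := K) hMK
    change Subgroup.normalizer (M : Set Y) ⊔ K = ⊤ at hfrat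
    have hiK : i ∉ K := fun hiK => hKtop (by
      rw [← hfrat, eq_comm, sup_eq_right]
      intro g hg
      rcases h.norm g hg with hm | hm
      · exact hMK hm
      · have := mul_mem (hMK hm) (inv_mem hiK)
        rwa [mul_inv_cancel_right] at this)
    have hburn : Cfsg.HasNormalPComplement 3 K := by
      refine hasNormalPComplement_of_normalizer_le_centralizer
        (h.sylow.subtype (show (h.sylow : Subgroup Y) ≤ K from hMK)) fun g hg => ?_
      rw [Subgroup.mem_centralizer_iff]
      intro m hm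
      rw [SetLike.mem_coe] at hm
      have hg' : (g : Y) ∈ Subgroup.normalizer (M : Set Y) := by
        rw [Subgroup.mem_normalizer_iff]
        intro y
        have hg0 := Subgroup.mem_normalizer_iff.mp hg
        constructor
        · intro hy
          exact (hg0 ⟨y, hMK hy⟩).mp hy
        · intro hy
          have hyK : y ∈ K := by
            have := mul_mem (mul_mem (inv_mem g.2) (hMK hy)) g.2
            rwa [show (g : Y)⁻¹ * (g * y * (g : Y)⁻¹) * g = y by group] at this
          exact (hg0 ⟨y, hyK⟩).mpr hy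
      have hgM : (g : Y) ∈ M := by
        rcases h.norm _ hg' with hm | hm
        · exact hm
        · exfalso
          have := mul_mem (inv_mem g.2) (hMK hm)
          rw [inv_mul_cancel_left] at this
          exact hiK this
      exact Subtype.ext (h.comm _ hm _ hgM)
    rw [← h.maximal (isPGroup_of_core_bot hcore K hburn) hMK]
    exact Subgroup.normalizer_eq_top K
  · push Not at hbK
    have hKM : ∀ m ∈ M, m ∈ K → m ∈ A := fun m hm hmK => by
      by_contra hne; exact hbK m hm hne hmK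
    obtain ⟨b, hb, hbA⟩ := h.exists_b
    have hiK : i ∉ K := fun hiK => by
      refine hbK b hb hbA ?_
      have h1 : i * (b * i⁻¹ * b⁻¹) ∈ K := mul_mem hiK (hK.conj_mem _ (inv_mem hiK) b)
      rw [show i * (b * i⁻¹ * b⁻¹) = (i * b * i⁻¹) * b⁻¹ by group, h.inv b hb] at h1
      have h2 := inv_mem h1
      rw [mul_inv_rev, inv_inv] at h2
      have h3 : b = (b * b)⁻¹ := by
        rw [eq_inv_iff_mul_eq_one, ← mul_assoc, ← h.cube b hb, pow_succ, pow_two]
      rw [h3]; exact inv_mem h2
    set C := Subgroup.centralizer ({a} : Set Y) with hC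
    have hMC : M ≤ C := fun m hm =>
      Subgroup.mem_centralizer_singleton_iff.mpr (h.comm m hm a h.mem)
    have hCnpc : Cfsg.HasNormalPComplement 3 C := by
      refine hasNormalPComplement_of_normalizer_le_centralizer
        (h.sylow.subtype (show (h.sylow : Subgroup Y) ≤ C from hMC)) fun g hg => ?_
      rw [Subgroup.mem_centralizer_iff]
      intro m hm
      rw [SetLike.mem_coe] at hm
      have hg' : (g : Y) ∈ Subgroup.normalizer (M : Set Y) := by
        rw [Subgroup.mem_normalizer_iff_map_conj_eq]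
        refine Subgroup.eq_of_le_of_card_ge ?_ (le_of_eq
          (Subgroup.card_map_of_injective (MulAut.conj (g : Y)).injective).symm)
        rintro _ ⟨y, hy, rfl⟩
        exact (Subgroup.mem_normalizer_iff.mp hg ⟨y, hMC hy⟩).mp hy
      have hgM : (g : Y) ∈ M := by
        rcases h.norm _ hg' with hm | hm
        · exact hm
        · exfalso
          have hgi : (g : Y) = (g * i) * i := by rw [mul_assoc, h.ii, mul_one]
          have hga : (g : Y) * a = a * g := Subgroup.mem_centralizer_singleton_iff.mp g.2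
          have : (g : Y) * a * (g : Y)⁻¹ = a⁻¹ := by
            rw [hgi, show (g : Y) * i * i * a * ((g : Y) * i * i)⁻¹ =
              ((g : Y) * i) * (i * a * i⁻¹) * ((g : Y) * i)⁻¹ by group, h.inv a h.mem,
              h.comm _ hm _ (inv_mem h.mem), mul_inv_cancel_right]
          rw [hga, mul_inv_cancel_right] at this
          have h2 := h.cube a h.mem
          rw [pow_succ, pow_two, mul_eq_one_iff_eq_inv.mpr this, one_mul] at h2
          exact h.ne h2
      exact Subtype.ext (h.comm _ hm _ hgM)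
    -- `N_K(A)` centralizes `a`
    have hNK : ∀ g ∈ K, g * a * g⁻¹ ∈ A → g * a * g⁻¹ = a := by
      intro g hgK hga
      by_contra hne
      have hinv : g * a * g⁻¹ = a⁻¹ := by
        obtain ⟨l, hl⟩ := Subgroup.mem_zpowers_iff.mp hga
        have ha3 : a ^ (3 : ℤ) = 1 := by exact_mod_cast h.cube a h.mem
        have hl' : a ^ l = a ^ (l % 3) := by
          conv_lhs => rw [← Int.emod_add_mul_ediv l 3, zpow_add, zpow_mul, ha3, one_zpow, mul_one]
        have hl2 : g * a * g⁻¹ = a ^ (l % 3) := hl.symm.trans hl'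
        rcases (by omega : l % 3 = 0 ∨ l % 3 = 1 ∨ l % 3 = 2) with e | e | e
        · rw [e, zpow_zero] at hl2; exact absurd (conj_eq_one_iff.mp hl2) h.ne
        · exact absurd (by rw [hl2, e, zpow_one]) hne
        · rw [hl2, e, eq_inv_iff_mul_eq_one, ← zpow_add_one, show (2 : ℤ) + 1 = 3 from rfl, ha3]
      have hc : g * i ∈ C := by
        rw [hC, Subgroup.mem_centralizer_singleton_iff]
        have : g * i * a * (g * i)⁻¹ = a := by
          rw [show g * i * a * (g * i)⁻¹ = g * (i * a * i⁻¹) * g⁻¹ by group, h.inv a h.mem,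
            ← conj_inv, hinv, inv_inv]
        exact mul_inv_eq_iff_eq_mul.mp this
      -- `g * i` centralizes `b` modulo the complement and inverts it modulo `K`
      set R := (Cfsg.pResidual 3 C).map C.subtype with hR
      haveI := pResidual_normal 3 C
      have hRcop : (Nat.card R).Coprime 3 := by
        rw [hR, Subgroup.card_map_of_injective C.subtype_injective]
        exact ((Fact.out : (3 : ℕ).Prime).coprime_iff_not_dvd.mpr
          (hasNormalPComplement_iff_pResidual.mp hCnpc)).symm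
      have hcomm : (g * i) * b * (g * i)⁻¹ * b⁻¹ ∈ R := by
        obtain ⟨T, hT⟩ := (hasNormalPComplement_iff_forall_sylow
          (h.sylow.subtype (show (h.sylow : Subgroup Y) ≤ C from hMC))).mp hCnpc
        haveI := hT.1
        have hTR : T = Cfsg.pResidual 3 C :=
          eq_pResidual (coprime_card_of_isComplement' hT.2) (isPGroup_quotient_of_isComplement' hT.2)
        have hmul := hT.2.mul_eq
        let cC : C := ⟨g * i, hc⟩
        let bC : C := ⟨b, hMC hb⟩
        obtain ⟨⟨⟨t, ht⟩, ⟨m, hm⟩⟩, htm : t * m = cC⟩ := hT.2.2 cC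
        refine ⟨cC * bC * cC⁻¹ * bC⁻¹, ?_, rfl⟩
        rw [← hTR, ← htm]
        have hmb : m * bC = bC * m := Subtype.ext (h.comm _ hm _ hb)
        have : t * m * bC * (t * m)⁻¹ * bC⁻¹ = t * (bC * t⁻¹ * bC⁻¹) := by
          calc t * m * bC * (t * m)⁻¹ * bC⁻¹ = t * (m * bC) * (m⁻¹ * t⁻¹) * bC⁻¹ := by group
            _ = t * (bC * m) * (m⁻¹ * t⁻¹) * bC⁻¹ := by rw [hmb]
            _ = _ := by group
        show t * m * bC * (t * m)⁻¹ * bC⁻¹ ∈ T
        rw [this]
        exact mul_mem ht (hT.1.conj_mem _ (inv_mem ht) bC)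
      have hmod : (g * i) * b * (g * i)⁻¹ * b ∈ K := by
        rw [show g * i * b * (g * i)⁻¹ * b = g * (i * b * i⁻¹) * g⁻¹ * b by group, h.inv b hb,
          show g * b⁻¹ * g⁻¹ * b = g * (b⁻¹ * g⁻¹ * b⁻¹⁻¹) by group]
        exact mul_mem hgK (hK.conj_mem _ (inv_mem hgK) b⁻¹)
      -- the image of `b` modulo `K` is trivial
      set π := QuotientGroup.mk' K
      have h1 : π ((g * i) * b * (g * i)⁻¹) = (π b)⁻¹ := by
        have : π ((g * i) * b * (g * i)⁻¹ * b) = 1 := (QuotientGroup.eq_one_iff _).mpr hmod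
        rwa [map_mul, mul_eq_one_iff_eq_inv] at this
      have h2 : π b * π b ∈ R.map π := by
        have h3 : π ((g * i) * b * (g * i)⁻¹ * b⁻¹) ∈ R.map π := ⟨_, hcomm, rfl⟩
        rw [map_mul, map_inv, h1, ← mul_inv_rev] at h3
        exact inv_mem_iff.mp h3
      have hord : (π b) ^ 3 = 1 := by rw [← map_pow, h.cube b hb, map_one]
      have hbb : π b * π b = 1 := by
        refine orderOf_eq_one_iff.mp (Nat.eq_one_of_dvd_coprimes hRcop
          ((Subgroup.orderOf_dvd_natCard _ h2).trans ?_) ?_)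
        · exact Subgroup.card_map_dvd R π
        · refine orderOf_dvd_of_pow_eq_one ?_
          rw [(Commute.refl (π b)).mul_pow, hord, one_mul]
      refine hbK b hb hbA ((QuotientGroup.eq_one_iff b).mp (?_ : π b = 1))
      rw [pow_succ, pow_two, hbb, one_mul] at hord
      exact hord
    have hAsyl : ∀ R : Subgroup K, IsPGroup 3 R → A.subgroupOf K ≤ R → R = A.subgroupOf K := by
      intro R hR hle
      obtain ⟨T, hT⟩ := (hR.map K.subtype).exists_le_sylow
      obtain ⟨c, hc⟩ := MulAction.exists_smul_eq Y T h.sylow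
      refine (Subgroup.eq_of_le_of_card_ge hle ?_).symm
      rw [Nat.card_congr (Subgroup.subgroupOfEquivOfLe hAK).toEquiv,
        ← Subgroup.card_map_of_injective (f := (MulAut.conj c).toMonoidHom.comp K.subtype)
          ((MulAut.conj c).injective.comp K.subtype_injective)]
      refine Subgroup.card_le_of_le ?_
      rintro _ ⟨r, hr, rfl⟩
      refine hKM _ ?_ (hK.conj_mem _ r.2 c)
      show MulAut.conj c (r : Y) ∈ (h.sylow : Subgroup Y)
      rw [← hc, Sylow.coe_subgroup_smul]
      exact ⟨r, hT ⟨r, hr, rfl⟩, rfl⟩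
    have hAp : IsPGroup 3 (A.subgroupOf K) :=
      (h.isPGroup.to_le h.le_a).comap_of_injective _ K.subtype_injective
    let Q : Sylow 3 K := ⟨A.subgroupOf K, hAp, fun hR hle => hAsyl _ hR hle⟩
    have hKA : K = A := by
      have hburn : Cfsg.HasNormalPComplement 3 K := by
        refine hasNormalPComplement_of_normalizer_le_centralizer Q fun g hg => ?_
        rw [Subgroup.mem_centralizer_iff]
        intro u hu
        obtain ⟨l, hl⟩ := Subgroup.mem_zpowers_iff.mp (show (u : Y) ∈ A from hu)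
        have hg1 : (g : Y) * a * (g : Y)⁻¹ ∈ A :=
          (Subgroup.mem_normalizer_iff.mp hg ⟨a, haK⟩).mp (Subgroup.mem_zpowers a)
        have hcg : Commute (g : Y) a := mul_inv_eq_iff_eq_mul.mp (hNK g g.2 hg1)
        exact Subtype.ext (show (u : Y) * g = g * u by rw [← hl]; exact (hcg.zpow_right l).eq.symm)
      have hp := isPGroup_of_core_bot hcore K hburn
      have h3 : IsPGroup 3 (⊤ : Subgroup K) := hp.to_subgroup ⊤
      have := hAsyl ⊤ h3 le_top
      exact le_antisymm (Subgroup.subgroupOf_eq_top.mp this.symm) hAK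
    have hCn : C.Normal := ⟨fun c hc y => by
      rw [hC, Subgroup.mem_centralizer_singleton_iff] at hc ⊢
      obtain ⟨l, hl⟩ := Subgroup.mem_zpowers_iff.mp
        (show y⁻¹ * a * y ∈ A from hKA ▸ (by simpa using hK.conj_mem a haK y⁻¹))
      have h1 : c * (y⁻¹ * a * y) = (y⁻¹ * a * y) * c := by
        rw [← hl]; exact ((Commute.zpow_right hc l)).eq
      calc y * c * y⁻¹ * a = y * (c * (y⁻¹ * a * y)) * y⁻¹ := by group
        _ = y * ((y⁻¹ * a * y) * c) * y⁻¹ := by rw [h1]
        _ = _ := by group⟩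
    haveI := hCn
    rw [← h.maximal (isPGroup_of_core_bot hcore C hCnpc) hMC]
    exact Subgroup.normalizer_eq_top C

end DihHyp

end CfsgLib.AltNineThree
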