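import Cfsg.Agent.Lib.AltNineThree.CentZ
import Cfsg.Agent.Lib.AltNineThree.DihNine

/-!
Centralizers of translations moving at least two blocks lie in `N(J)`.
-/

set_option autoImplicit false
set_option linter.unusedSectionVars false
set_option linter.style.haveILetI false
set_option maxRecDepth 20000

namespace CfsgLib.AltNineThree

open E9 CfsgLib.Transfer

namespace E9

/-- `(012)(345)`. -/
def abE : E9 := mk' 4

/-- An involution centralizing `(012)(345)` and inverting the translations modulo it. -/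
def iE : E9 := mk' 216

/-- Translations moving at least two blocks. -/
def two (x : ℕ) : Bool :=
  jC x && !((Nat.beq (Nat.mod x 3) 0 && Nat.beq (Nat.mod (Nat.div x 3) 3) 0) ||
    (Nat.beq (Nat.mod x 3) 0 && Nat.beq (Nat.div x 9) 0) ||
    (Nat.beq (Nat.mod (Nat.div x 3) 3) 0 && Nat.beq (Nat.div x 9) 0))

theorem iE_facts : commC 216 4 = true ∧ mulC 216 216 = 0 ∧
    allJ (fun v => (List.range 3).any fun k => Nat.beq (mulC (conjC 216 v) v) (4 * k)) = true ∧
    allC (fun x => impB (commC x 4) (jC x || jC (mulC x 216))) = true := by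
  refine ⟨?_, ?_, ?_, ?_⟩ <;> decide +kernel

theorem ab_outside : allJ (fun m => impB (Nat.ble 9 m)
    (((List.range 3).any fun k => zType (mulC m (4 * k))) &&
      allC fun x => impB (commC x 4 &&
        (List.range 3).any (fun k => Nat.beq (conjC x m) (mulC m (4 * k)))) (jC x))) = true := by
  decide +kernel

theorem two_cases : allJ (fun j => impB (two j) (zType j ||
    (List.range 24).any fun w => Nat.beq (conjC (27 * w) 4) j)) = true ∧
    allC (fun x => impB (commC x 1 && commC x 3 && commC x 9) (jC x)) = true ∧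
    two 13 = true ∧ two 4 = true := by
  refine ⟨?_, ?_, ?_, ?_⟩ <;> decide +kernel

theorem abE_mem : abE ∈ JE := by
  show jC (abE.c : ℕ) = true
  decide +kernel

theorem code_pow_ab : ∀ k : ℕ, k < 3 → ((abE ^ k).c : ℕ) = 4 * k := by
  intro k hk
  interval_cases k
  · rfl
  · rw [pow_one]; rfl
  · rw [pow_two, code_mul]; decide +kernel

end E9

namespace Setup

variable {G : Type*} [Group G] [Finite G] (S : Setup G)

/-- `C(J) = J`. -/
theorem cent_J : Subgroup.centralizer (S.J : Set G) = S.J := by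
  refine le_antisymm (fun x hx => ?_) fun x hx => Subgroup.mem_centralizer_iff.mpr fun y hy =>
    S.J_comm hy hx
  obtain ⟨e, rfl⟩ := S.normalizer_J (x := x) (Subgroup.mem_normalizer_iff.mpr fun y => by
    constructor
    · intro hy
      rw [← Subgroup.mem_centralizer_iff.mp hx y hy, mul_inv_cancel_right]; exact hy
    · intro hy
      have h1 := Subgroup.mem_centralizer_iff.mp hx _ hy
      have h2 : x * (x * y * x⁻¹) * x⁻¹ = x * y * x⁻¹ := by rw [← h1, mul_inv_cancel_right]
      have h3 := mul_left_cancel (mul_right_cancel h2)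
      rwa [h3] at hy)
  have hk : ∀ n : ℕ, n < 27 → commC (e.c : ℕ) n = true := fun n hn => by
    have hj : mk' n ∈ JE := by
      show jC ((mk' n).c : ℕ) = true
      rw [code_mk (by omega)]; exact Nat.ble_eq_true_of_le hn
    rw [← code_mk (show n < 648 by omega), comm_iff]
    exact S.inj (by
      rw [map_mul, map_mul]
      exact (Subgroup.mem_centralizer_iff.mp hx _ (S.Φ_mem_J.mpr hj)).symm)
  refine S.Φ_mem_J.mpr (impB_elim (all_spec two_cases.2.1 e) ?_)
  rw [Bool.and_eq_true, Bool.and_eq_true]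
  exact ⟨⟨hk 1 (by norm_num), hk 3 (by norm_num)⟩, hk 9 (by norm_num)⟩

theorem cent_conj_le {h i : E9}
    (hle : Subgroup.centralizer ({S.Φ i} : Set G) ≤ S.Φ.range) :
    Subgroup.centralizer ({S.Φ (h * i * h⁻¹)} : Set G) ≤ S.Φ.range := by
  intro u hu
  rw [Subgroup.mem_centralizer_singleton_iff, map_mul, map_mul, map_inv] at hu
  have hm : (S.Φ h)⁻¹ * u * S.Φ h ∈ S.Φ.range := by
    refine hle (Subgroup.mem_centralizer_singleton_iff.mpr ?_)
    calc (S.Φ h)⁻¹ * u * S.Φ h * S.Φ i = (S.Φ h)⁻¹ * (u * (S.Φ h * S.Φ i * (S.Φ h)⁻¹)) * S.Φ h := by group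
      _ = (S.Φ h)⁻¹ * (S.Φ h * S.Φ i * (S.Φ h)⁻¹ * u) * S.Φ h := by rw [hu]
      _ = _ := by group
  have := mul_mem (mul_mem (⟨h, rfl⟩ : S.Φ h ∈ S.Φ.range) hm) (inv_mem ⟨h, rfl⟩)
  rwa [show S.Φ h * ((S.Φ h)⁻¹ * u * S.Φ h) * (S.Φ h)⁻¹ = u by group] at this

theorem cent_zType {j : E9} (hj : zType (j.c : ℕ) = true) :
    Subgroup.centralizer ({S.Φ j} : Set G) ≤ S.Φ.range := by
  have hjJ : jC (j.c : ℕ) = true := by
    simp only [zType, Bool.and_eq_true] at hj
    exact hj.1.1.1
  have hw := impB_elim (allJ_spec zType_conj hjJ) hj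
  rw [List.any_eq_true] at hw
  obtain ⟨w, hw, e⟩ := hw
  simp only [List.mem_range] at hw
  have e' : mk' (27 * w) * zE * (mk' (27 * w))⁻¹ = j := code_inj (by
    rw [code_conj, code_mk (by omega)]
    exact Nat.eq_of_beq_eq_true e)
  rw [← e']
  refine S.cent_conj_le (S.cent_z ▸ ?_)
  rintro _ ⟨p, -, rfl⟩
  exact ⟨p, rfl⟩

/-- Conjugating a translation with local centralizer into `J` happens inside `N(J)`. -/
theorem mem_range_of_conj {i : E9} (hi : i ∈ JE) (hi1 : i ≠ 1)
    (hle : Subgroup.centralizer ({S.Φ i} : Set G) ≤ S.Φ.range) {g : G}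
    (hg : g * S.Φ i * g⁻¹ ∈ S.J) : g ∈ S.Φ.range := by
  obtain ⟨j, hj, e⟩ := hg
  have hj1 : j ≠ 1 := fun h => hi1 (S.inj (by
    rw [h, map_one] at e
    rw [map_one]; exact conj_eq_one_iff.mp e.symm))
  obtain ⟨h, -, hc⟩ := S.fusion hi hj hj1 e.symm
  have := mul_mem (⟨h, rfl⟩ : S.Φ h ∈ S.Φ.range) (hle hc)
  rwa [mul_inv_cancel_left] at this

theorem orderOf_Φ {j : E9} (hj : j ∈ JE) (h1 : j ≠ 1) : orderOf (S.Φ j) = 3 := by
  haveI := Fact.mk Nat.prime_three
  refine orderOf_eq_prime (S.J_cube (S.Φ_mem_J.mpr hj)) fun e => h1 (S.inj (e.trans (map_one _).symm))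

/-- The centralizer of `(012)(345)` normalizes `J`. -/
theorem cent_ab : Subgroup.centralizer ({S.Φ abE} : Set G) ≤ S.Φ.range := by
  classical
  haveI := Fact.mk Nat.prime_three
  set C := Subgroup.centralizer ({S.Φ abE} : Set G) with hC
  have hab1 : abE ≠ 1 := fun e => absurd (congrArg (fun x : E9 => (x.c : ℕ)) e) (by decide +kernel)
  have hJC : S.J ≤ C := fun y hy => Subgroup.mem_centralizer_singleton_iff.mpr
    (S.J_comm hy (S.Φ_mem_J.mpr abE_mem))
  set z : C := ⟨S.Φ abE, hJC (S.Φ_mem_J.mpr abE_mem)⟩ with hz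
  set Z := Subgroup.zpowers z with hZ
  have hzc : Z ≤ Subgroup.center C := Subgroup.zpowers_le.mpr (Subgroup.mem_center_iff.mpr fun c =>
    Subtype.ext (Subgroup.mem_centralizer_singleton_iff.mp c.2))
  haveI : Z.Normal := ⟨fun n hn k => by
    rw [Subgroup.mem_center_iff.mp (hzc hn) k, mul_inv_cancel_right]; exact hn⟩
  have hz3 : Nat.card Z = 3 := by
    rw [hZ, Nat.card_zpowers, ← Subgroup.orderOf_coe]; exact S.orderOf_Φ abE_mem hab1
  have hcore : Cfsg.pPrimeCore 3 (C ⧸ Z) = ⊥ :=
    core_quot_bot Z hzc (IsPGroup.of_card (n := 1) (by rw [hz3, pow_one]))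
      (S.core abE (S.orderOf_Φ abE_mem hab1))
  set π := QuotientGroup.mk' Z with hπ
  set M := (S.J.subgroupOf C).map π with hM
  have hpow : ∀ l : ℤ, ∃ k : ℕ, k < 3 ∧ (z ^ l : C) = z ^ k := fun l => by
    refine ⟨(l % 3).toNat, by omega, ?_⟩
    have hz0 : z ^ (3 : ℕ) = 1 := Subtype.ext (S.J_cube (S.Φ_mem_J.mpr abE_mem))
    rw [← zpow_natCast, Int.toNat_of_nonneg (by omega)]
    conv_lhs => rw [← Int.emod_add_mul_ediv l 3, zpow_add, zpow_mul,
      show z ^ (3 : ℤ) = 1 by exact_mod_cast hz0, one_zpow, mul_one]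
  have hπeq : ∀ {u v : C}, π u = π v → ∃ k : ℕ, k < 3 ∧ v = u * z ^ k := fun {u v} e => by
    obtain ⟨l, hl⟩ := QuotientGroup.eq.mp e
    obtain ⟨k, hk, hk'⟩ := hpow l
    exact ⟨k, hk, by rw [← hk', show z ^ l = u⁻¹ * v from hl, mul_inv_cancel_left]⟩
  have hZJ : Z ≤ S.J.subgroupOf C :=
    Subgroup.zpowers_le.mpr (Subgroup.mem_subgroupOf.mpr (S.Φ_mem_J.mpr abE_mem))
  have memM : ∀ {u : C}, π u ∈ M ↔ (u : G) ∈ S.J := fun {u} => by
    refine ⟨?_, fun hu => ⟨u, Subgroup.mem_subgroupOf.mpr hu, rfl⟩⟩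
    rintro ⟨v, hv, e⟩
    have := mul_mem hv (hZJ (QuotientGroup.eq.mp e))
    rwa [mul_inv_cancel_left] at this
  obtain ⟨hi4, hi2, hiv, hiN⟩ := iE_facts
  have hicomm : S.Φ iE ∈ C := by
    rw [hC, Subgroup.mem_centralizer_singleton_iff, ← map_mul, ← map_mul,
      (comm_iff iE abE).mp (by rw [iE, abE, code_mk (by norm_num), code_mk (by norm_num)]; exact hi4)]
  set ii : C := ⟨S.Φ iE, hicomm⟩
  have hpab : ∀ k : ℕ, k < 3 → ((z ^ k : C) : G) = S.Φ (abE ^ k) := fun k _ => by
    rw [SubmonoidClass.coe_pow, map_pow]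
  have hcard : Nat.card M = 9 := by
    have h27 : Nat.card (S.J.subgroupOf C) = 27 := by
      rw [Nat.card_congr (Subgroup.subgroupOfEquivOfLe hJC).toEquiv, S.card_J]
    have hmap := Subgroup.relIndex_ker (S.J.subgroupOf C) π
    rw [QuotientGroup.ker_mk', Subgroup.relIndex] at hmap
    have hm := (Z.subgroupOf (S.J.subgroupOf C)).card_mul_index
    rw [Nat.card_congr (Subgroup.subgroupOfEquivOfLe hZJ).toEquiv, hz3, hmap, h27] at hm
    show Nat.card ((S.J.subgroupOf C).map π) = 9
    omega
  -- the element `(678)` is outside the line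
  set aa : C := ⟨S.Φ aE, hJC (S.Φ_mem_J.mpr (show jC (aE.c : ℕ) = true by decide +kernel))⟩ with haa
  have hnotline : ∀ (j : E9) (hj : j ∈ JE),
      π ⟨S.Φ j, hJC (S.Φ_mem_J.mpr hj)⟩ ∉ Subgroup.zpowers (π aa) → Nat.ble 9 j.c = true := by
    intro j hj hn
    by_contra hlt
    refine hn ?_
    have h : allJ (fun v => impB (!Nat.ble 9 v) ((List.range 3).any fun k => (List.range 3).any fun l =>
        Nat.beq v (mulC (List.getD [0, 1, 2] k 0) (4 * l)))) = true := by decide +kernel
    have h' := impB_elim (allJ_spec h hj) (by rw [Bool.not_eq_true']; exact Bool.eq_false_iff.mpr hlt)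
    simp only [List.any_eq_true, List.mem_range] at h'
    obtain ⟨k, hk, l, hl, e⟩ := h'
    have e' : j = aE ^ k * abE ^ l := code_inj (by
      rw [code_mul, code_pow_ab l hl, Nat.eq_of_beq_eq_true e]
      congr 1
      interval_cases k
      · rfl
      · rw [pow_one]; rfl
      · rw [pow_two, code_mul]; decide +kernel)
    have : (⟨S.Φ j, hJC (S.Φ_mem_J.mpr hj)⟩ : C) = aa ^ k * z ^ l := Subtype.ext (by
      rw [Subgroup.coe_mul, SubmonoidClass.coe_pow, SubmonoidClass.coe_pow]
      show S.Φ j = S.Φ aE ^ k * S.Φ abE ^ l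
      rw [e', map_mul, map_pow, map_pow])
    rw [this, map_mul, map_pow, map_pow,
      show π z = 1 from (QuotientGroup.eq_one_iff z).mpr (Subgroup.mem_zpowers z), one_pow, mul_one]
    exact Subgroup.npow_mem_zpowers _ k
  have hJcub : ∀ u : C, (u : G) ∈ S.J → u ^ 3 = 1 := fun u hu => Subtype.ext (S.J_cube hu)
  have hD : DihHyp M (π aa) (π ii) :=
    { card := hcard
      comm := by
        rintro _ ⟨u, hu, rfl⟩ _ ⟨v, hv, rfl⟩
        rw [← map_mul, ← map_mul]
        exact congrArg π (Subtype.ext (S.J_comm hu hv))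
      cube := by
        rintro _ ⟨u, hu, rfl⟩
        rw [← map_pow, hJcub u hu, map_one]
      inv := by
        rintro _ ⟨u, hu, rfl⟩
        obtain ⟨j, hj, e⟩ := Subgroup.mem_subgroupOf.mp hu
        rw [← map_inv, ← map_inv, ← map_mul, ← map_mul, eq_comm]
        have h := allJ_spec hiv hj
        rw [List.any_eq_true] at h
        obtain ⟨k, hk, hk'⟩ := h
        rw [List.mem_range] at hk
        have h2 : iE * j * iE⁻¹ * j = abE ^ k := code_inj (by
          rw [code_mul, code_conj, code_pow_ab k hk]; exact Nat.eq_of_beq_eq_true hk')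
        refine QuotientGroup.eq.mpr ⟨k, Subtype.ext ?_⟩
        show ((z ^ (k : ℤ) : C) : G) = _
        rw [zpow_natCast, hpab k hk, ← h2]
        simp only [Subgroup.coe_mul, InvMemClass.coe_inv, inv_inv]
        rw [← show S.Φ j = (u : G) from e, show ((ii : C) : G) = S.Φ iE from rfl]
        have hc : S.Φ j * (S.Φ iE * S.Φ j * (S.Φ iE)⁻¹) = S.Φ iE * S.Φ j * (S.Φ iE)⁻¹ * S.Φ j := by
          refine S.J_comm (S.Φ_mem_J.mpr hj) ?_
          rw [← map_inv, ← map_mul, ← map_mul]
          refine S.Φ_mem_J.mpr ?_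
          show jC ((iE * j * iE⁻¹).c : ℕ) = true
          have hcj : allJ (fun v => allC fun x => jC (conjC x v)) = true := by decide +kernel
          rw [code_conj]; exact all_spec (allJ_spec hcj hj) iE
        rw [hc]; simp only [map_mul, map_inv]
      ii := by
        rw [← map_mul]
        have : iE * iE = 1 := code_inj (by
          rw [code_mul, iE, code_mk (by norm_num)]; exact hi2)
        rw [show ii * ii = 1 from Subtype.ext (by
          show S.Φ iE * S.Φ iE = 1
          rw [← map_mul, this, map_one]), map_one]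
      norm := by
        intro q hq
        obtain ⟨g, rfl⟩ := QuotientGroup.mk'_surjective Z q
        have hgN : (g : G) ∈ Subgroup.normalizer (S.J : Set G) := by
          rw [Subgroup.mem_normalizer_iff_map_conj_eq]
          refine Subgroup.eq_of_le_of_card_ge ?_ (le_of_eq
            (Subgroup.card_map_of_injective (MulAut.conj (g : G)).injective).symm)
          rintro _ ⟨y, hy, rfl⟩
          have := (Subgroup.mem_normalizer_iff.mp hq (π ⟨y, hJC hy⟩)).mp (memM.mpr hy)
          rw [← map_inv, ← map_mul, ← map_mul, memM] at this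
          exact this
        obtain ⟨e, he⟩ := S.normalizer_J hgN
        have h := impB_elim (all_spec hiN e) ((comm_iff e abE).mpr (S.inj (by
          rw [map_mul, map_mul, he]; exact Subgroup.mem_centralizer_singleton_iff.mp g.2)))
        rw [Bool.or_eq_true] at h
        rcases h with h | h
        · exact Or.inl (memM.mpr (he ▸ S.Φ_mem_J.mpr h))
        · refine Or.inr ?_
          rw [← map_mul, memM, Subgroup.coe_mul, show ((ii : C) : G) = S.Φ iE from rfl, ← he, ← map_mul]
          refine S.Φ_mem_J.mpr ?_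
          show jC ((e * iE).c : ℕ) = true
          rw [code_mul, iE, code_mk (by norm_num)]; exact h
      mem := memM.mpr (S.Φ_mem_J.mpr (show jC (aE.c : ℕ) = true by decide +kernel))
      ne := fun e => by
        obtain ⟨k, hk, hk'⟩ := hπeq (u := 1) (v := aa) (by rw [map_one, e])
        have h2 : aE = abE ^ k := S.inj (by
          rw [← hpab k hk]
          have := congrArg Subtype.val hk'
          simpa [haa] using this)
        have h3 := congrArg (fun x : E9 => (x.c : ℕ)) h2
        rw [code_pow_ab k hk] at h3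
        interval_cases k <;> revert h3 <;> decide +kernel
      cent := by
        rintro m hm hml
        refine le_antisymm (fun q hq => ?_) fun q hq => ?_
        · obtain ⟨u, hu, rfl⟩ := hm
          obtain ⟨j, hj, e⟩ := Subgroup.mem_subgroupOf.mp hu
          obtain ⟨g, rfl⟩ := QuotientGroup.mk'_surjective Z q
          have hu' : u = ⟨S.Φ j, hJC (S.Φ_mem_J.mpr hj)⟩ := Subtype.ext e.symm
          have h9 := hnotline j hj (hu' ▸ hml)
          have hdata := impB_elim (allJ_spec ab_outside hj) h9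
          rw [Bool.and_eq_true] at hdata
          rw [Subgroup.mem_centralizer_singleton_iff, ← map_mul, ← map_mul] at hq
          have hq' : π u = π (g * u * g⁻¹) := by
            rw [map_mul, map_inv, hq, map_mul, mul_inv_cancel_right]
          obtain ⟨k, hk, hk'⟩ := hπeq hq'
          have hgc : (g : G) * S.Φ j * (g : G)⁻¹ = S.Φ (j * abE ^ k) := by
            have := congrArg Subtype.val hk'
            rw [Subgroup.coe_mul, Subgroup.coe_mul, InvMemClass.coe_inv, Subgroup.coe_mul,
              hpab k hk, hu'] at this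
            rw [map_mul]; exact this
          obtain ⟨l, hl, hlz⟩ := List.any_eq_true.mp hdata.1
          rw [List.mem_range] at hl
          have hwz : zType ((j * abE ^ l).c : ℕ) = true := by
            rw [code_mul, code_pow_ab l hl]; exact hlz
          have hwJ : j * abE ^ l ∈ JE := mul_mem hj (pow_mem abE_mem l)
          have hgr : (g : G) ∈ S.Φ.range := by
            refine S.mem_range_of_conj hwJ (fun e1 => ?_) (S.cent_zType hwz) ?_
            · rw [e1] at hwz; exact absurd hwz (by decide +kernel)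
            · have hgab : (g : G) * S.Φ (abE ^ l) * (g : G)⁻¹ = S.Φ (abE ^ l) := by
                rw [map_pow, ← conj_pow,
                  Subgroup.mem_centralizer_singleton_iff.mp g.2, mul_inv_cancel_right]
              rw [map_mul, show (g : G) * (S.Φ j * S.Φ (abE ^ l)) * (g : G)⁻¹ =
                ((g : G) * S.Φ j * (g : G)⁻¹) * ((g : G) * S.Φ (abE ^ l) * (g : G)⁻¹) by group,
                hgc, hgab, ← map_mul]
              exact S.Φ_mem_J.mpr (mul_mem (mul_mem hj (pow_mem abE_mem k)) (pow_mem abE_mem l))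
          obtain ⟨x, hx⟩ := hgr
          refine memM.mpr (hx ▸ S.Φ_mem_J.mpr (impB_elim (all_spec hdata.2 x) ?_))
          rw [Bool.and_eq_true]
          refine ⟨(comm_iff x abE).mpr (S.inj (by
            rw [map_mul, map_mul, hx]; exact Subgroup.mem_centralizer_singleton_iff.mp g.2)), ?_⟩
          rw [List.any_eq_true]
          refine ⟨k, List.mem_range.mpr hk, ?_⟩
          have : x * j * x⁻¹ = j * abE ^ k := S.inj (by
            rw [map_mul, map_mul, map_inv, hx]; exact hgc)
          rw [Nat.beq_eq, ← code_conj, this, code_mul, code_pow_ab k hk]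
        · obtain ⟨u, hu, rfl⟩ := hm
          obtain ⟨v, hv, rfl⟩ := hq
          rw [Subgroup.mem_centralizer_singleton_iff, ← map_mul, ← map_mul]
          exact congrArg π (Subtype.ext (S.J_comm hv hu)) }
  have htop := hD.normal hcore
  intro g hg
  refine S.normalizer_J ?_
  rw [Subgroup.mem_normalizer_iff_map_conj_eq]
  refine Subgroup.eq_of_le_of_card_ge ?_ (le_of_eq
    (Subgroup.card_map_of_injective (MulAut.conj g).injective).symm)
  rintro _ ⟨y, hy, rfl⟩
  have hmem : π ⟨g, hg⟩ ∈ Subgroup.normalizer (M : Set (C ⧸ Z)) := htop ▸ Subgroup.mem_top _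
  have := (Subgroup.mem_normalizer_iff.mp hmem (π ⟨y, hJC hy⟩)).mp (memM.mpr hy)
  rw [← map_inv, ← map_mul, ← map_mul, memM] at this
  exact this

/-- Translations moving at least two blocks have local centralizers. -/
theorem cent_two {j : E9} (hj : two (j.c : ℕ) = true) :
    Subgroup.centralizer ({S.Φ j} : Set G) ≤ S.Φ.range := by
  have hjJ : jC (j.c : ℕ) = true := by
    simp only [two, Bool.and_eq_true] at hj
    exact hj.1
  have h := impB_elim (allJ_spec two_cases.1 hjJ) hj
  rw [Bool.or_eq_true] at h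
  rcases h with h | h
  · exact S.cent_zType h
  · rw [List.any_eq_true] at h
    obtain ⟨w, hw, e⟩ := h
    simp only [List.mem_range] at hw
    have e' : mk' (27 * w) * abE * (mk' (27 * w))⁻¹ = j := code_inj (by
      rw [code_conj, code_mk (by omega), abE, code_mk (by norm_num)]
      exact Nat.eq_of_beq_eq_true e)
    rw [← e']
    exact S.cent_conj_le S.cent_ab

end Setup

end CfsgLib.AltNineThree
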