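import Cfsg.Agent.Lib.AltNineThree.NineFacts
import Cfsg.Agent.Lib.ZStar.Main
import Cfsg.Agent.Lib.M12Recog.Local

/-!
The centralizer of `(23)(45)` lies in the copy of the alternating group of degree nine.
-/

set_option autoImplicit false
set_option linter.unusedSectionVars false
set_option linter.style.haveILetI false
set_option maxRecDepth 20000
set_option maxHeartbeats 1000000

namespace CfsgLib.AltNineThree

open E9 A6 A9
open Equiv

/-- An abelian group of odd order on which `A₄` acts with the element of order three fixing only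
the identity is centralized by the four group. -/
theorem four_fix {Q : Type*} [Group Q] {M : Subgroup Q} (hcomm : ∀ a ∈ M, ∀ b ∈ M, a * b = b * a)
    (hsq : ∀ a ∈ M, a * a = 1 → a = 1) {w1 w2 c : Q} (h1 : w1 * w1 = 1) (h2 : w2 * w2 = 1)
    (h12 : w1 * w2 = w2 * w1) (hc1 : c * w1 * c⁻¹ = w2) (hc2 : c * w2 * c⁻¹ = w1 * w2)
    (hc3 : c * c * c = 1) (n1 : ∀ m ∈ M, w1 * m * w1 ∈ M) (n2 : ∀ m ∈ M, w2 * m * w2 ∈ M)
    (nc : ∀ m ∈ M, c * m * c⁻¹ ∈ M) (hfix : ∀ m ∈ M, c * m * c⁻¹ = m → m = 1) :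
    ∀ m ∈ M, w1 * m * w1 = m ∧ w2 * m * w2 = m := by
  have i1 : w1⁻¹ = w1 := inv_eq_of_mul_eq_one_right h1
  have i2 : w2⁻¹ = w2 := inv_eq_of_mul_eq_one_right h2
  set α1 := MulAut.conj w1 with hα1
  set α2 := MulAut.conj w2 with hα2
  set γ := MulAut.conj c with hγ
  have a1 : ∀ m, α1 m = w1 * m * w1 := fun m => by rw [hα1, MulAut.conj_apply, i1]
  have a2 : ∀ m, α2 m = w2 * m * w2 := fun m => by rw [hα2, MulAut.conj_apply, i2]
  have cc : ∀ a b m : Q, MulAut.conj a (MulAut.conj b m) = MulAut.conj (a * b) m := fun a b m => by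
    simp only [MulAut.conj_apply]; group
  have r1 : ∀ m, α1 (γ m) = γ (α2 (α1 m)) := fun m => by
    have e : c * (w2 * w1) = w1 * c := by
      refine mul_inv_eq_iff_eq_mul.mp ?_
      rw [show c * (w2 * w1) * c⁻¹ = c * w2 * c⁻¹ * (c * w1 * c⁻¹) by group, hc1, hc2, mul_assoc, h2,
        mul_one]
    rw [hα1, hα2, hγ, cc, cc, cc, mul_assoc c, e]
  have r2 : ∀ m, α2 (γ m) = γ (α1 m) := fun m => by
    rw [hα1, hα2, hγ, cc, cc, mul_inv_eq_iff_eq_mul.mp hc1]
  have r3 : ∀ m, α1 (α2 m) = α2 (α1 m) := fun m => by rw [hα1, hα2, cc, cc, h12]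
  have g3 : ∀ m, γ (γ (γ m)) = m := fun m => by
    rw [hγ, cc, cc, hc3, map_one, MulAut.one_apply]
  have sq1 : ∀ m, α1 (α1 m) = m := fun m => by rw [hα1, cc, h1, map_one, MulAut.one_apply]
  have sq2 : ∀ m, α2 (α2 m) = m := fun m => by rw [hα2, cc, h2, map_one, MulAut.one_apply]
  have m1 : ∀ {m}, m ∈ M → α1 m ∈ M := fun {m} hm => a1 m ▸ n1 m hm
  have m2 : ∀ {m}, m ∈ M → α2 m ∈ M := fun {m} hm => a2 m ▸ n2 m hm
  have mc : ∀ {m}, m ∈ M → γ m ∈ M := fun {m} hm => nc m hm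
  -- elements fixed by `w1` are fixed by `w2`
  have stepA : ∀ m ∈ M, α1 m = m → α2 m = m := by
    intro m hm e
    set n := m * (α2 m)⁻¹ with hn
    have hnM : n ∈ M := mul_mem hm (inv_mem (m2 hm))
    have e1 : α1 n = n := by rw [hn, map_mul, map_inv, r3, e]
    have e2 : α2 n = n⁻¹ := by rw [hn, map_mul, map_inv, sq2, mul_inv_rev, inv_inv]
    set p := n * γ n * γ (γ n) with hp
    have hc1' : γ n ∈ M := mc hnM
    have hc2' : γ (γ n) ∈ M := mc hc1'
    have hpM : p ∈ M := mul_mem (mul_mem hnM hc1') hc2'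
    have hp1 : p = 1 := by
      refine hfix p hpM ?_
      show γ p = p
      rw [hp, map_mul, map_mul, g3, hcomm _ (mul_mem hc1' hc2') _ hnM, ← mul_assoc]
    have h3 : α1 (γ n) = (γ n)⁻¹ := by rw [r1, e1, e2, map_inv]
    have h4 : α1 (γ (γ n)) = (γ (γ n))⁻¹ := by rw [r1, h3, map_inv, r2, e1, map_inv]
    have hq : n * (γ n)⁻¹ * (γ (γ n))⁻¹ = 1 := by
      have := congrArg α1 hp1
      rwa [hp, map_mul, map_mul, e1, h3, h4, map_one] at this
    have hn2 : n * n = 1 := by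
      calc n * n = n * (γ n * γ (γ n)) * ((γ (γ n))⁻¹ * (γ n)⁻¹ * n) := by group
        _ = n * (γ n * γ (γ n)) * (n * ((γ n)⁻¹ * (γ (γ n))⁻¹)) := by
            rw [hcomm _ (mul_mem (inv_mem hc2') (inv_mem hc1')) _ hnM,
              hcomm _ (inv_mem hc2') _ (inv_mem hc1')]
        _ = p * (n * (γ n)⁻¹ * (γ (γ n))⁻¹) := by rw [hp]; group
        _ = 1 := by rw [hp1, hq, one_mul]
    have := hsq n hnM hn2
    exact (mul_inv_eq_one.mp this).symm
  have stepB : ∀ f ∈ M, α2 f = f → α1 f = f := by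
    intro f hf e
    have h := stepA (γ (γ f)) (mc (mc hf)) (by rw [r1, r1, r2, r3, sq1, e])
    rw [r2, r1] at h
    have h' : α2 (α1 f) = f := γ.injective (γ.injective h)
    rw [← r3, e] at h'
    exact h'
  intro m hm
  set k := m * (α1 m)⁻¹ with hk
  have hkM : k ∈ M := mul_mem hm (inv_mem (m1 hm))
  have e1 : α1 k = k⁻¹ := by rw [hk, map_mul, map_inv, sq1, mul_inv_rev, inv_inv]
  set g := k * α2 k with hg
  have hgM : g ∈ M := mul_mem hkM (m2 hkM)
  have hg1 : g = 1 := by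
    refine hsq g hgM ?_
    have h2' : α2 g = g := by rw [hg, map_mul, sq2, hcomm _ (m2 hkM) _ hkM]
    have h1' := stepB g hgM h2'
    rw [hg, map_mul, r3, e1, map_inv] at h1'
    rw [hg]
    nth_rewrite 1 [← h1']
    rw [hcomm _ (inv_mem hkM) _ (inv_mem (m2 hkM))]
    group
  have e2 : α2 k = k⁻¹ := eq_inv_of_mul_eq_one_right hg1
  have hk1 : k = 1 := by
    refine hsq k hkM ?_
    have h := stepA (γ k) (mc hkM) (by rw [r1, e1, map_inv, e2, inv_inv])
    rw [r2] at h
    have h' : α1 k = k := γ.injective h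
    rw [e1] at h'
    nth_rewrite 1 [← h']
    exact inv_mul_cancel k
  have hm1 : α1 m = m := (mul_inv_eq_one.mp hk1).symm
  exact ⟨a1 m ▸ hm1, a2 m ▸ stepA m hm hm1⟩

namespace Comp

variable {G : Type*} [Group G] [Finite G] {S : Setup G} (P : Comp S)

/-- The copy of `A9`. -/
structure Nine (P : Comp S) where
  F : A9 →* G
  inj : Function.Injective F
  hψ : ∀ y : A6, F (ι1 y) = P.ψ y
  hΦ : ∀ x : E9, F (e9 x) = S.Φ x

theorem exists_nine : Nonempty P.Nine := by
  obtain ⟨F, hi, h1, -, h3⟩ := P.exists_phi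
  exact ⟨⟨F, hi, DFunLike.congr_fun h1, h3⟩⟩

namespace Nine

variable {P} (N : P.Nine)

theorem F_code {n : ℕ} {e : A9} (h : E9.el (mk' n) = (e : Perm (Fin 9))) : N.F e = S.Φ (mk' n) := by
  rw [← N.hΦ, show e9 (mk' n) = e from Subtype.ext h]

theorem F_r : N.F r0 = P.f0 := N.F_code named_eq.2.2.2.1

theorem F_u : N.F u0 = P.ψ vA := by rw [named_eq.1, N.hψ]

theorem F_z : N.F z0 = P.ψ vZ := by rw [named_eq.2.1, N.hψ]

theorem F_c : N.F (ι5 c5) = P.c := N.F_code quads.2.2.2.2.2.2.2.1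

theorem not_conj_us (g : G) : g * N.F u0 * g⁻¹ ≠ N.F s0 := fun e => P.type_ne (isConj_iff.mpr ⟨g, by
  rw [← N.F_u, e, s0, map_mul, N.F_r]⟩)

theorem sq_one {e : A9} (h : e * e = 1) : N.F e * N.F e = 1 := by rw [← map_mul, h, map_one]

/-- Elements of the image conjugate in the group to `(23)(45)` move four points. -/
theorem not_eight {e : A9} {g : G} (h : g * N.F u0 * g⁻¹ = N.F e) :
    e * e = 1 ∧ e ≠ 1 ∧ ¬ IsEight e := by
  have h2 : e * e = 1 := N.inj (by
    rw [map_mul, ← h, conj_mul, N.sq_one named_eq.2.2.2.2.2.2.1, mul_one, mul_inv_cancel, map_one])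
  have h1 : e ≠ 1 := fun e1 => named_eq.2.2.2.2.2.2.2.2.2.2.2 (N.inj (by
    rw [e1, map_one] at h; rw [map_one]; exact conj_eq_one_iff.mp h))
  refine ⟨h2, h1, fun h8 => ?_⟩
  rcases invol_classes h2 h1 with ⟨-, hn⟩ | ⟨⟨d, hd⟩, -⟩
  · exact hn h8
  · refine N.not_conj_us ((N.F d)⁻¹ * g) ?_
    rw [show (N.F d)⁻¹ * g * N.F u0 * ((N.F d)⁻¹ * g)⁻¹ = (N.F d)⁻¹ * (g * N.F u0 * g⁻¹) * N.F d by group,
      h, ← hd, map_mul, map_mul, map_inv]
    group

/-- The centralizer of the first four group. -/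
theorem cent_v2 {x : G} (hu : Commute x (N.F u0)) (hz : Commute x (N.F z0)) :
    ∃ v ∈ [1, vA, vZ, vA * vZ], ∃ a : A5, x = N.F (ι1 v * ι5 a) := by
  classical
  set C := Subgroup.centralizer ((A6.V2.map P.ψ : Subgroup G) : Set G) with hC
  have hmem : ∀ {g : G}, Commute g (N.F u0) → Commute g (N.F z0) → g ∈ C := by
    intro g h1 h2
    refine Subgroup.mem_centralizer_iff.mpr ?_
    rintro _ ⟨v, hv, rfl⟩
    rw [N.F_u] at h1
    rw [N.F_z] at h2
    rcases hv with rfl | rfl | rfl | rfl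
    · rw [map_one, one_mul, mul_one]
    · exact h1.eq.symm
    · exact h2.eq.symm
    · rw [map_mul]; exact (h1.mul_right h2).eq.symm
  have hin : ∀ p : {v : A6 // inTwo v} × A5, N.F (ι1 p.1 * ι5 p.2) ∈ C := fun p => by
    obtain ⟨h1, h2⟩ := five_facts.1 p.2
    refine hmem ?_ ?_ <;> (show _ = _) <;> rw [← map_mul, ← map_mul] <;> congr 1
    · rw [mul_assoc, h1, ← mul_assoc, named_eq.1, ← map_mul, ← mul_assoc, ← map_mul,
        (two_mul_mem _ p.1.2 vA (Or.inr (Or.inl rfl))).2.2]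
    · rw [mul_assoc, h2, ← mul_assoc, named_eq.2.1, ← map_mul, ← mul_assoc, ← map_mul,
        (two_mul_mem _ p.1.2 vZ (Or.inr (Or.inr (Or.inl rfl)))).2.2]
  let f : {v : A6 // inTwo v} × A5 → C := fun p => ⟨_, hin p⟩
  have hf : Function.Injective f := by
    rintro ⟨⟨v, hv⟩, a⟩ ⟨⟨v', hv'⟩, a'⟩ h
    have h' : ι1 v * ι5 a = ι1 v' * ι5 a' := N.inj (congrArg Subtype.val h)
    have hm : v'⁻¹ * v ∈ [1, vA, vZ, vA * vZ] := by
      rw [inv_of_sq (two_mul_mem _ hv' _ hv').2.1]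
      rcases (two_mul_mem _ hv' _ hv).1 with e | e | e | e <;> rw [e] <;> simp
    obtain ⟨e1, e2⟩ := five_facts.2 _ hm (a * a'⁻¹) (by
      rw [map_mul, map_mul, map_inv, map_inv, ← mul_assoc, mul_assoc (ι1 v')⁻¹, h']
      group)
    obtain rfl : v' = v := inv_mul_eq_one.mp e1
    obtain rfl : a = a' := mul_inv_eq_one.mp e2
    rfl
  have hcard : Nat.card C = 240 := P.card_cent_v2
  have hbij : Function.Bijective f := (Nat.bijective_iff_injective_and_card f).mpr ⟨hf, by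
    rw [hcard, Nat.card_prod, Nat.card_eq_fintype_card (α := A5), five_in_T.2.1,
      show Nat.card {v : A6 // inTwo v} = 4 from
        (Nat.card_congr (Equiv.subtypeEquivRight fun v => Iff.rfl)).trans card_fours.1]⟩
  obtain ⟨⟨⟨v, hv⟩, a⟩, e⟩ := hbij.2 ⟨x, hmem hu hz⟩
  refine ⟨v, ?_, a, (congrArg Subtype.val e).symm⟩
  rcases hv with rfl | rfl | rfl | rfl <;> simp

/-- Elements of `C((23)(45))` stabilizing the first four group. -/
theorem norm_v2 {x : G} (hu : Commute x (N.F u0))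
    (h : x * N.F z0 * x⁻¹ = N.F z0 ∨ x * N.F z0 * x⁻¹ = N.F (u0 * z0)) : x ∈ N.F.range := by
  rcases h with h | h
  · obtain ⟨v, -, a, e⟩ := N.cent_v2 hu (mul_inv_eq_iff_eq_mul.mp h)
    exact ⟨_, e.symm⟩
  · obtain ⟨s1, -, s3, -⟩ := swap_facts
    obtain ⟨v, -, a, e⟩ := N.cent_v2 (x := N.F swapV * x)
      (Commute.mul_left (by show _ = _; rw [← map_mul, ← map_mul, mul_inv_eq_iff_eq_mul.mp s1]) hu)
      (mul_inv_eq_iff_eq_mul.mp (by
        rw [show N.F swapV * x * N.F z0 * (N.F swapV * x)⁻¹ =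
          N.F swapV * (x * N.F z0 * x⁻¹) * (N.F swapV)⁻¹ by group, h, ← map_inv, ← map_mul, ← map_mul, s3]))
    refine ⟨swapV⁻¹ * (ι1 v * ι5 a), ?_⟩
    rw [map_mul, map_inv, ← e, inv_mul_cancel_left]

/-- Conjugates of `(25)(34)` inside the Sylow subgroup of `C((23)(45))`. -/
theorem fuse_T {x : G} (hu : Commute x (N.F u0)) {w : A9} (hw : w ∈ tL)
    (e : x * N.F z0 * x⁻¹ = N.F w) : w = z0 ∨ w = u0 * z0 := by
  obtain ⟨-, -, -, -, -, -, uu, zz, uz, z1, zu, u1⟩ := named_eq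
  obtain ⟨-, -, hz8, huz8⟩ := eight_pos
  have eu : x * N.F u0 * x⁻¹ = N.F u0 := by rw [hu.eq, mul_inv_cancel_right]
  have e' : x * N.F (u0 * z0) * x⁻¹ = N.F (u0 * w) := by
    rw [map_mul, map_mul, ← e]
    conv_rhs => rw [← eu]
    group
  have hconj : ∀ {t : A9}, t * t = 1 → t ≠ 1 → ¬ IsEight t → ∀ {v : A9}, x * N.F t * x⁻¹ = N.F v →
      ¬ IsEight v := by
    intro t t2 t1 t8 v ev
    obtain ⟨d, hd⟩ := ((invol_classes t2 t1).resolve_right fun h => t8 h.2).1
    refine (N.not_eight (g := x * N.F d) ?_).2.2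
    rw [← ev, ← hd, map_mul, map_mul, map_inv]
    group
  have hw2 : w * w = 1 := N.inj (by
    rw [map_mul, ← e, conj_mul, N.sq_one zz, mul_one, mul_inv_cancel, map_one])
  have hw1 : w ≠ 1 := fun e1 => z1 (N.inj (by
    rw [e1, map_one] at e; rw [map_one]; exact conj_eq_one_iff.mp e))
  have hwu : w ≠ u0 := fun e1 => zu (N.inj (by
    rw [e1, ← eu] at e
    exact mul_left_cancel (mul_right_cancel e)))
  have bad : ∀ {t : A9}, ι5 five * t = t * ι5 five → ∀ {v d : A9}, x * N.F t * x⁻¹ = N.F v →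
      d * u0 * d⁻¹ = ι1 vZ → d * v * d⁻¹ = ι1 uA → False := by
    intro t ht v d ev du dv
    obtain ⟨-, -, -, -, -, -, -, -, f5, f1⟩ := quads
    set y := N.F d * (x * N.F (ι5 five) * x⁻¹) * (N.F d)⁻¹ with hy
    have hcm : ∀ {t v : A9}, ι5 five * t = t * ι5 five → x * N.F t * x⁻¹ = N.F v →
        Commute y (N.F (d * v * d⁻¹)) := by
      intro t v ht ev
      rw [map_mul, map_mul, map_inv, ← ev, hy]
      show _ = _
      rw [conj_mul, conj_mul, conj_mul, conj_mul, ← map_mul, ← map_mul, ht]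
    have c1 : Commute y (P.ψ vZ) := by
      have := hcm (five_facts.1 five).1 eu
      rwa [du, N.hψ] at this
    have c2 : Commute y (P.ψ uA) := by
      have := hcm ht ev
      rwa [dv, N.hψ] at this
    have hyC : y ∈ Subgroup.centralizer ((VB.map P.ψ : Subgroup G) : Set G) := by
      refine Subgroup.mem_centralizer_iff.mpr ?_
      rintro _ ⟨v, hv, rfl⟩
      rcases hv with rfl | rfl | rfl | rfl
      · rw [map_one, one_mul, mul_one]
      · exact c2.eq.symm
      · exact c1.eq.symm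
      · rw [map_mul]; exact (c2.mul_right c1).eq.symm
    have h5 : y ^ 5 = 1 := by
      rw [hy, conj_pow, conj_pow, ← map_pow, ← map_pow, show five ^ 5 = 1 by
        rw [← f5]; simp only [pow_succ, pow_zero, one_mul, mul_assoc], map_one, map_one]
      group
    have h1 : y ≠ 1 := fun e1 => f1 (by
      have h0 : ι5 five = ι5 1 := N.inj (by
        rw [map_one, map_one]; exact conj_eq_one_iff.mp (conj_eq_one_iff.mp e1))
      exact (five_facts.2 1 (by simp) five (by rw [map_one, one_mul, h0, map_one])).2)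
    have hd := (Subgroup.orderOf_dvd_natCard _ hyC).trans P.vb_small.1
    rw [orderOf_eq_prime (hp := ⟨by norm_num⟩) h5 h1] at hd
    norm_num at hd
  obtain ⟨d1u, d1w, d2u, d2w⟩ := triple_facts
  have d12u : d1 * d2 * u0 * (d1 * d2)⁻¹ = ι1 vZ := by
    rw [show d1 * d2 * u0 * (d1 * d2)⁻¹ = d1 * (d2 * u0 * d2⁻¹) * d1⁻¹ by group, d2u, d1u]
  have d12w : d1 * d2 * w3 * (d1 * d2)⁻¹ = ι1 uA := by
    rw [show d1 * d2 * w3 * (d1 * d2)⁻¹ = d1 * (d2 * w3 * d2⁻¹) * d1⁻¹ by group, d2w, d1w]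
  obtain ⟨h5u, h5z⟩ := five_facts.1 five
  have h5uz : ι5 five * (u0 * z0) = u0 * z0 * ι5 five := by
    rw [← mul_assoc, h5u, mul_assoc, h5z, ← mul_assoc]
  have huz1 : u0 * z0 ≠ 1 := fun h => zu (by
    rw [← one_mul z0, ← uu, mul_assoc, h, mul_one])
  have huz2 : u0 * z0 * (u0 * z0) = 1 := by
    rw [show u0 * z0 * (u0 * z0) = u0 * (z0 * u0) * z0 by group, ← uz,
      show u0 * (u0 * z0) * z0 = (u0 * u0) * (z0 * z0) by group, uu, zz, one_mul]
  rcases tL_invol w hw hw2 hw1 hwu with h | h | h | h | h | h | h | h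
  · exact Or.inl h
  · exact Or.inr h
  · exact absurd h (hconj zz z1 hz8 e)
  · exact absurd h (hconj huz2 huz1 huz8 e')
  · exact (bad h5z (h ▸ e) d1u d1w).elim
  · exact (bad h5uz (h ▸ e') d1u d1w).elim
  · exact (bad h5z (h ▸ e) d12u d12w).elim
  · exact (bad h5uz (h ▸ e') d12u d12w).elim

/-- A two-subgroup of `C((23)(45))` above the standard one. -/
theorem maximal_T {R : Subgroup G} (hR : IsPGroup 2 R)
    (hRu : ∀ r ∈ R, Commute r (N.F u0)) (hle : T32.map N.F ≤ R) : R = T32.map N.F := by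
  classical
  haveI := Fact.mk Nat.prime_two
  by_contra hne
  haveI := hR.isNilpotent
  set T := T32.map N.F with hT
  have hlt : T.subgroupOf R < ⊤ := lt_top_iff_ne_top.mpr fun e =>
    hne (le_antisymm (Subgroup.subgroupOf_eq_top.mp e) hle)
  obtain ⟨⟨g, hgR⟩, hg, hgn⟩ := SetLike.exists_of_lt (Group.normalizerCondition_of_isNilpotent _ hlt)
  rw [Subgroup.mem_subgroupOf] at hgn
  obtain ⟨hu0, hz0, hsw, -, -⟩ := tL_named
  have hzT : N.F z0 ∈ T := ⟨z0, hz0, rfl⟩
  obtain ⟨w, hw, ew⟩ := Subgroup.mem_subgroupOf.mp ((Subgroup.mem_normalizer_iff.mp hg ⟨_, hle hzT⟩).mp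
    (Subgroup.mem_subgroupOf.mpr hzT))
  have ew' : g * N.F z0 * g⁻¹ = N.F w := ew.symm
  apply hgn
  -- reduce to the centralizer of the four group
  suffices key : ∀ g' : G, g' ∈ R → g' * N.F z0 * g'⁻¹ = N.F z0 → g' ∈ T by
    rcases N.fuse_T (hRu g hgR) hw ew' with rfl | rfl
    · exact key g hgR ew'
    · have hs : N.F swapV ∈ T := ⟨swapV, hsw, rfl⟩
      have := key (N.F swapV * g) (mul_mem (hle hs) hgR) (by
        rw [show N.F swapV * g * N.F z0 * (N.F swapV * g)⁻¹ =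
          N.F swapV * (g * N.F z0 * g⁻¹) * (N.F swapV)⁻¹ by group, ew', ← map_inv, ← map_mul, ← map_mul,
          swap_facts.2.2.1])
      have := mul_mem (inv_mem hs) this
      rwa [inv_mul_cancel_left] at this
  intro g' hg' hgz
  obtain ⟨v, hv, a, rfl⟩ := N.cent_v2 (hRu g' hg') (mul_inv_eq_iff_eq_mul.mp hgz)
  have hvT : N.F (ι1 v) ∈ T := ⟨ι1 v, five_in_T.2.2 v hv, rfl⟩
  have haR : N.F (ι5 a) ∈ R := by
    have := mul_mem (inv_mem (hle hvT)) hg'
    rwa [map_mul, inv_mul_cancel_left] at this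
  set K := R.comap (N.F.comp ι5) with hK
  have hinj : Function.Injective (N.F.comp ι5) := by
    refine N.inj.comp ?_
    intro a b hab
    exact mul_inv_eq_one.mp (five_facts.2 1 (by simp) (a * b⁻¹) (by
      rw [map_one, one_mul, map_mul, map_inv, hab, mul_inv_cancel])).2
  obtain ⟨n, hn⟩ := (hR.comap_of_injective _ hinj).exists_card_eq
  set T5 := T32.comap ι5 with hT5
  have h4 : Nat.card T5 = 4 := by
    exact (Nat.card_congr (Equiv.subtypeEquivRight fun a => Iff.rfl : T5 ≃ {a : A5 // ι5 a ∈ tL})).trans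
      (Nat.card_eq_fintype_card.trans five_in_T.1)
  have hle' : T5 ≤ K := fun b hb => hle ⟨ι5 b, hb, rfl⟩
  have hK4 : Nat.card K ≤ 4 := by
    have h60 : Nat.card K ∣ 60 := by
      rw [← five_in_T.2.1, ← Nat.card_eq_fintype_card]; exact K.card_subgroup_dvd_card
    rw [hn] at h60 ⊢
    have hn2 : n ≤ 2 := by
      by_contra h
      exact absurd ((pow_dvd_pow 2 (by omega : 3 ≤ n)).trans h60) (by norm_num)
    exact (Nat.pow_le_pow_right (by norm_num) hn2).trans_eq rfl
  have hKT := Subgroup.eq_of_le_of_card_ge hle' (by rw [h4]; exact hK4)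
  have haT : a ∈ T5 := hKT ▸ (show a ∈ K from haR)
  rw [map_mul]
  exact mul_mem hvT ⟨ι5 a, haT, rfl⟩

/-- The centralizer of `(23)(45)` is in the image. -/
theorem cent_u {x : G} (hx : Commute x (N.F u0)) : x ∈ N.F.range := by
  classical
  haveI := Fact.mk Nat.prime_two
  haveI : IsSimpleGroup A5 := alternatingGroup.isSimpleGroup (by simp)
  obtain ⟨-, -, -, -, -, -, uu, zz, uz, z1, zu, u1⟩ := named_eq
  obtain ⟨c3, c1, ⟨pp1, pp2, pp12, -⟩, ⟨qq1, qq2, qq12⟩, hpc, hqc, hword, -, -, -⟩ := quads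
  set X := Subgroup.centralizer ({N.F u0} : Set G) with hXdef
  have memX : ∀ {g : G}, g ∈ X ↔ Commute g (N.F u0) := fun {g} => Subgroup.mem_centralizer_singleton_iff
  have FX : ∀ {e : A9}, e * u0 = u0 * e → N.F e ∈ X := fun {e} h => memX.mpr (by
    show _ = _; rw [← map_mul, ← map_mul, h])
  set u : X := ⟨N.F u0, FX rfl⟩ with hu
  set z : X := ⟨N.F z0, FX uz.symm⟩ with hz
  have huu : u * u = 1 := Subtype.ext (N.sq_one uu)
  have hune : u ≠ 1 := fun e => u1 (N.inj ((congrArg Subtype.val e).trans (map_one _).symm))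
  have hzz : z * z = 1 := Subtype.ext (N.sq_one zz)
  have huc : ∀ g : X, Commute g u := fun g => Subtype.ext (memX.mp g.2).eq
  set J := Subgroup.zpowers u with hJ
  haveI : J.Normal := ⟨fun n hn k => by
    obtain ⟨l, rfl⟩ := Subgroup.mem_zpowers_iff.mp hn
    rw [((huc k).zpow_right l).eq, mul_inv_cancel_right]
    exact Subgroup.zpow_mem_zpowers u l⟩
  have hJmem : ∀ {g}, g ∈ J → g = 1 ∨ g = u := by
    intro g hg
    obtain ⟨l, rfl⟩ := Subgroup.mem_zpowers_iff.mp hg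
    rcases Int.even_or_odd l with ⟨k, rfl⟩ | ⟨k, rfl⟩
    · left; rw [← two_mul, zpow_mul, zpow_two, huu, one_zpow]
    · right; rw [zpow_add, zpow_one, zpow_mul, zpow_two, huu, one_zpow, one_mul]
  set π := QuotientGroup.mk' J with hπ
  have hπeq : ∀ {g k : X}, π g = π k → (g : G) = k ∨ (g : G) = N.F u0 * k := by
    intro g k h
    have hm : g * k⁻¹ ∈ J := by
      rw [← QuotientGroup.eq_one_iff]
      show π (g * k⁻¹) = 1
      rw [map_mul, map_inv, h, mul_inv_cancel]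
    rcases hJmem hm with e | e
    · exact Or.inl (congrArg Subtype.val (mul_inv_eq_one.mp e))
    · exact Or.inr (congrArg Subtype.val (mul_inv_eq_iff_eq_mul.mp e))
  -- the Sylow subgroup
  have hTX : T32.map N.F ≤ X := by
    rintro _ ⟨e, he, rfl⟩; exact FX (tL_facts.2.2.2 e he).2.1
  have hT2 : IsPGroup 2 T32 := IsPGroup.of_card (n := 5) (by rw [card_T32]; norm_num)
  let PX : Sylow 2 X := ⟨(T32.map N.F).subgroupOf X,
    (hT2.map _).comap_of_injective _ X.subtype_injective, fun {R} hR hle => by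
      have h := N.maximal_T (hR.map X.subtype) (by rintro _ ⟨r, -, rfl⟩; exact memX.mp r.2)
        (fun g hg => ⟨⟨g, hTX hg⟩, hle (Subgroup.mem_subgroupOf.mpr hg), rfl⟩)
      ext r
      rw [Subgroup.mem_subgroupOf, ← h]
      exact ⟨fun hr => ⟨r, hr, rfl⟩, fun ⟨r', hr', e⟩ => Subtype.ext e ▸ hr'⟩⟩
  have hπz1 : π z ≠ 1 := fun e => by
    rcases hπeq (k := 1) (e.trans (map_one π).symm) with h | h
    · exact z1 (N.inj (h.trans (map_one _).symm))
    · exact zu (N.inj (h.trans (mul_one _)))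
  have hzo : orderOf (π z) = 2 := orderOf_eq_prime (by rw [pow_two, ← map_mul, hzz, map_one]) hπz1
  have hzP : z ∈ (PX : Subgroup X) := Subgroup.mem_subgroupOf.mpr ⟨z0, tL_named.2.1, rfl⟩
  have hiso : ∀ q : X ⧸ J, q * π z * q⁻¹ ∈ (PX.mapSurjective (QuotientGroup.mk'_surjective J)) →
      q * π z * q⁻¹ = π z := by
    intro q hq
    obtain ⟨g, rfl⟩ := QuotientGroup.mk'_surjective J q
    obtain ⟨p, hp, ep⟩ := hq
    rw [← map_inv, ← map_mul, ← map_mul] at ep ⊢
    obtain ⟨w, hw, ew⟩ : (g : G) * N.F z0 * (g : G)⁻¹ ∈ T32.map N.F := by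
      rcases hπeq ep.symm with h | h
      · exact (show (g : G) * N.F z0 * (g : G)⁻¹ = (p : G) from h).symm ▸ Subgroup.mem_subgroupOf.mp hp
      · rw [show (g : G) * N.F z0 * (g : G)⁻¹ = N.F u0 * (p : G) from h]
        exact mul_mem ⟨u0, tL_named.1, rfl⟩ (Subgroup.mem_subgroupOf.mp hp)
    rcases N.fuse_T (memX.mp g.2) hw ew.symm with rfl | rfl
    · exact congrArg π (Subtype.ext ew.symm)
    · rw [show g * z * g⁻¹ = u * z from Subtype.ext (ew.symm.trans (map_mul _ _ _)), map_mul,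
        show π u = 1 from (QuotientGroup.eq_one_iff u).mpr (Subgroup.mem_zpowers u), one_mul]
  obtain ⟨C, hCn, hCodd, hCz⟩ := ZStar.exists_normal_odd_commutator_mem
    (PX.mapSurjective (QuotientGroup.mk'_surjective J)) (π z) hzo ⟨z, hzP, rfl⟩ hiso
  haveI := hCn
  have hsq : ∀ q ∈ C, q * q = 1 → q = 1 := by
    intro q hq h2
    rw [← orderOf_eq_one_iff]
    exact Nat.Coprime.eq_one_of_dvd (Nat.coprime_two_right.mpr (hCodd.of_dvd_nat
      (Subgroup.orderOf_dvd_natCard C hq))) (orderOf_dvd_of_pow_eq_one (by rw [pow_two, h2]))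
  -- the alternating group of degree five in the centralizer
  set ρ : A5 →* X ⧸ J := π.comp ((N.F.comp ι5).codRestrict X fun a => FX (five_facts.1 a).1) with hρ
  have hρ1 : ∀ a, ρ a = 1 → a = 1 := by
    intro a h
    rcases hπeq (k := 1) (h.trans (map_one π).symm) with e | e
    · exact (five_facts.2 1 (by simp) a (by rw [map_one, one_mul]; exact N.inj (e.trans (map_one _).symm))).2
    · exact (five_facts.2 vA (by simp) a (N.inj (by
        rw [map_mul, show N.F (ι5 a) = N.F u0 * 1 from e, mul_one, ← named_eq.1, N.sq_one uu, map_one]))).2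
  have hN5 : ∀ a, ρ a ∈ C → a = 1 := by
    intro a ha
    rcases ((inferInstance : C.Normal).comap ρ).eq_bot_or_eq_top with h | h
    · have : a ∈ C.comap ρ := ha
      rwa [h, Subgroup.mem_bot] at this
    · exfalso
      have hp : ρ p1 ∈ C := (h ▸ Subgroup.mem_top p1 : p1 ∈ C.comap ρ)
      have := hρ1 p1 (hsq _ hp (by rw [← map_mul, pp1, map_one]))
      exact absurd this (by decide +kernel)
  -- fixed points
  have hfixz : ∀ q ∈ C, q * π z = π z * q → q = 1 := by
    intro q hq hqz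
    obtain ⟨g, rfl⟩ := QuotientGroup.mk'_surjective J q
    set g' : G := (g : G)
    have hgu : g' * N.F u0 * g'⁻¹ = N.F u0 := by rw [(memX.mp g.2).eq, mul_inv_cancel_right]
    have hgz : g' * N.F z0 * g'⁻¹ = N.F z0 ∨ g' * N.F z0 * g'⁻¹ = N.F (u0 * z0) := by
      rcases hπeq (g := g * z * g⁻¹) (k := z) (by
        rw [map_mul, map_mul, map_inv, hqz, mul_inv_cancel_right]) with h | h
      · exact Or.inl h
      · exact Or.inr (h.trans (map_mul _ _ _).symm)
    have hg2 : (g' * g') * N.F z0 * (g' * g')⁻¹ = N.F z0 := by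
      rw [show g' * g' * N.F z0 * (g' * g')⁻¹ = g' * (g' * N.F z0 * g'⁻¹) * g'⁻¹ by group]
      rcases hgz with h | h
      · rw [h, h]
      · rw [h, map_mul, ← conj_mul, hgu, h, ← map_mul, ← mul_assoc, uu, one_mul]
    obtain ⟨v, hv, a, e⟩ := N.cent_v2 (memX.mp (mul_mem g.2 g.2)) (mul_inv_eq_iff_eq_mul.mp hg2)
    have hvX : ι1 v * u0 = u0 * ι1 v := by
      rw [named_eq.1, ← map_mul, ← map_mul]
      simp only [List.mem_cons, List.not_mem_nil, or_false] at hv
      rw [(two_mul_mem v hv vA (Or.inr (Or.inl rfl))).2.2]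
    set vX : X := ⟨N.F (ι1 v), FX hvX⟩
    set aX : X := ⟨N.F (ι5 a), FX (five_facts.1 a).1⟩
    have e2 : g * g = vX * aX := Subtype.ext (e.trans (map_mul _ _ _))
    have hv2 : vX * vX = 1 := Subtype.ext (N.sq_one (by
      rw [← map_mul]
      simp only [List.mem_cons, List.not_mem_nil, or_false] at hv
      rw [(two_mul_mem v hv v hv).2.1, map_one]))
    have hva : Commute vX aX := Subtype.ext (by
      show N.F (ι1 v) * N.F (ι5 a) = N.F (ι5 a) * N.F (ι1 v)
      rw [← map_mul, ← map_mul]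
      congr 1
      simp only [List.mem_cons, List.not_mem_nil, or_false] at hv
      obtain ⟨h1, h2⟩ := five_facts.1 a
      rcases hv with rfl | rfl | rfl | rfl
      · rw [map_one, one_mul, mul_one]
      · rw [← named_eq.1, h1]
      · rw [← named_eq.2.1, h2]
      · rw [← named_eq.2.2.1, mul_assoc, ← h2, ← mul_assoc, ← h1, mul_assoc])
    have e4 : π (g * g * (g * g)) = ρ (a * a) := by
      rw [e2, hva.symm.mul_mul_mul_comm, hv2, one_mul, map_mul, map_mul]
      rfl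
    have ha : a * a = 1 := hN5 _ (by rw [← e4, map_mul, map_mul]; exact mul_mem (mul_mem hq hq) (mul_mem hq hq))
    rw [ha, map_one, map_mul, map_mul] at e4
    exact hsq _ hq (hsq _ (mul_mem hq hq) e4)
  have hfixc : ∀ q ∈ C, ρ c5 * q * (ρ c5)⁻¹ = q → q = 1 := by
    intro q hq hqc
    obtain ⟨g, rfl⟩ := QuotientGroup.mk'_surjective J q
    set cX : X := ⟨N.F (ι5 c5), FX (five_facts.1 c5).1⟩
    have hgc : (g : G) * P.c * (g : G)⁻¹ = P.c := by
      rw [← N.F_c]
      rcases hπeq (g := g * cX * g⁻¹) (k := cX) (by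
        have h1 : ρ c5 * π g = π g * ρ c5 := mul_inv_eq_iff_eq_mul.mp hqc
        show π (g * cX * g⁻¹) = π cX
        rw [map_mul, map_mul, map_inv, show π cX = ρ c5 from rfl, ← h1, mul_inv_cancel_right]) with h | h
      · exact h
      · exfalso
        have h' : (g : G) * N.F (ι5 c5) * (g : G)⁻¹ = N.F u0 * N.F (ι5 c5) := h
        have h3 := congrArg (· ^ 3) h'
        simp only [conj_pow] at h3
        rw [← map_pow, ← map_pow, show c5 ^ 3 = 1 by rw [pow_succ, pow_two, c3], map_one, map_one,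
          mul_one, mul_inv_cancel,
          (show Commute (N.F u0) (N.F (ι5 c5)) by
            show _ = _; rw [← map_mul, ← map_mul, (five_facts.1 c5).1]).mul_pow,
          ← map_pow, ← map_pow, ← map_pow, show c5 ^ 3 = 1 by rw [pow_succ, pow_two, c3],
          map_one, map_one, mul_one, pow_succ, pow_two, uu, one_mul] at h3
        exact u1 (N.inj (h3.symm.trans (map_one _).symm))
    obtain ⟨y, k, -, hy⟩ := P.exists_coord (mul_inv_eq_iff_eq_mul.mp hgc)
    have hyv : y * vA = vA * y := P.inj (by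
      have h := (memX.mp g.2).eq
      rw [hy, N.F_u, mul_assoc, ← ((P.comm_c vA).pow_right k).eq, ← mul_assoc, ← mul_assoc] at h
      rw [map_mul, map_mul]
      exact mul_right_cancel h)
    have e4 : g ^ 4 = cX ^ k := Subtype.ext (by
      rw [SubgroupClass.coe_pow, SubgroupClass.coe_pow]
      show (g : G) ^ 4 = N.F (ι5 c5) ^ k
      rw [N.F_c, hy, ((P.comm_c y).pow_right k).mul_pow, ← map_pow,
        show y ^ 4 = y * y * (y * y) by simp only [pow_succ, pow_zero, one_mul, mul_assoc],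
        cent_four.2.2 y hyv, map_one, one_mul, ← pow_mul, pow_eq_pow_mod (k * 4) P.c_cube,
        pow_eq_pow_mod k P.c_cube]
      congr 1
      omega)
    have hq4 : π g ^ 4 = ρ (c5 ^ k) := by rw [← map_pow, e4, map_pow, map_pow]; rfl
    have hk := hN5 _ (hq4 ▸ pow_mem hq 4)
    rw [hk, map_one, show (4 : ℕ) = 2 * 2 from rfl, pow_mul, pow_two, pow_two] at hq4
    exact hsq _ hq (hsq _ (mul_mem hq hq) hq4)
  have hzinv : ∀ q ∈ C, π z * q * π z = q⁻¹ :=
    M12Recog.inverts_of_fpf (by rw [← map_mul, hzz, map_one]) (fun n hn => by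
      have := hCn.conj_mem n hn (π z)
      rwa [inv_eq_of_mul_eq_one_right (show π z * π z = 1 by rw [← map_mul, hzz, map_one])] at this) hfixz
  have hab : ∀ a ∈ C, ∀ b ∈ C, a * b = b * a := by
    intro a ha b hb
    have hz2 : π z * π z = 1 := by rw [← map_mul, hzz, map_one]
    have e : (a * b)⁻¹ = a⁻¹ * b⁻¹ := by
      rw [← hzinv _ (mul_mem ha hb), ← hzinv a ha, ← hzinv b hb,
        show π z * a * π z * (π z * b * π z) = π z * a * (π z * π z) * b * π z by group, hz2, mul_one]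
      simp only [mul_assoc]
    have := congrArg (·⁻¹) e
    simpa using this
  have hquad : ∀ {a b : A5}, a * a = 1 → b * b = 1 → a * b = b * a →
      ((c5 * a * c5⁻¹ = b ∧ c5 * b * c5⁻¹ = a * b) ∨
        (c5⁻¹ * a * c5⁻¹⁻¹ = b ∧ c5⁻¹ * b * c5⁻¹⁻¹ = a * b)) →
      ∀ q ∈ C, Commute (ρ a) q ∧ Commute (ρ b) q := by
    intro a b ha hb hab' hc q hq
    have main : ∀ d : A5, d * a * d⁻¹ = b → d * b * d⁻¹ = a * b → d * d * d = 1 →
        (∀ m ∈ C, ρ d * m * (ρ d)⁻¹ = m → m = 1) → ρ a * q * ρ a = q ∧ ρ b * q * ρ b = q := by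
      intro d d1 d2 d3 dfix
      have hn : ∀ t : A5, t * t = 1 → ∀ m ∈ C, ρ t * m * ρ t ∈ C := fun t ht m hm => by
        have := hCn.conj_mem m hm (ρ t)
        rwa [inv_eq_of_mul_eq_one_right (show ρ t * ρ t = 1 by rw [← map_mul, ht, map_one])] at this
      exact four_fix hab hsq (by rw [← map_mul, ha, map_one]) (by rw [← map_mul, hb, map_one])
        (by rw [← map_mul, hab', map_mul]) (by rw [← map_inv, ← map_mul, ← map_mul, d1])
        (by rw [← map_inv, ← map_mul, ← map_mul, d2, map_mul])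
        (by rw [← map_mul, ← map_mul, d3, map_one]) (hn a ha) (hn b hb)
        (fun m hm => hCn.conj_mem m hm _) dfix q hq
    have fin : ∀ t : A5, t * t = 1 → ρ t * q * ρ t = q → Commute (ρ t) q := fun t ht h => by
      have h2 : ρ t * ρ t = 1 := by rw [← map_mul, ht, map_one]
      calc ρ t * q = ρ t * q * (ρ t * ρ t) := by rw [h2, mul_one]
        _ = (ρ t * q * ρ t) * ρ t := by group
        _ = q * ρ t := by rw [h]
    rcases hc with ⟨e1, e2⟩ | ⟨e1, e2⟩
    · obtain ⟨r1, r2⟩ := main c5 e1 e2 c3 hfixc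
      exact ⟨fin a ha r1, fin b hb r2⟩
    · obtain ⟨r1, r2⟩ := main c5⁻¹ e1 e2 (by
        rw [← mul_inv_rev, ← mul_inv_rev, ← mul_assoc, c3, inv_one]) (fun m hm h => by
        refine hfixc m hm ?_
        rw [map_inv, inv_inv] at h
        conv_lhs => rw [← h]
        group)
      exact ⟨fin a ha r1, fin b hb r2⟩
  have hCbot : ∀ q ∈ C, q = 1 := by
    intro q hq
    obtain ⟨hp1, hp2⟩ := hquad pp1 pp2 pp12 hpc q hq
    obtain ⟨hq1, hq2⟩ := hquad qq1 qq2 qq12 hqc q hq
    refine hfixc q hq ?_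
    rw [hword]
    have : Commute (ρ (p1 * q1 * q2 * p2 * q1)) q := by
      simp only [map_mul]
      exact (((hp1.mul_left hq1).mul_left hq2).mul_left hp2).mul_left hq1
    rw [this.eq, mul_inv_cancel_right]
  -- conclusion
  set g : X := ⟨x, memX.mpr hx⟩
  have h := hCbot _ (hCz (π g))
  have hz2 : (π z)⁻¹ = π z := inv_eq_of_mul_eq_one_right (by rw [← map_mul, hzz, map_one])
  have h' : π g * π z * (π g)⁻¹ = π z := by
    have hcm : π z * π g = π g * π z := by
      rw [← mul_one (π z * π g), ← inv_mul_cancel (π z)]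
      rw [← mul_assoc, mul_inv_eq_one.mp h]
    rw [← hcm, mul_inv_cancel_right]
  rw [← map_inv, ← map_mul, ← map_mul] at h'
  refine N.norm_v2 hx ?_
  rcases hπeq h' with e | e
  · exact Or.inl e
  · exact Or.inr (e.trans (map_mul _ _ _).symm)

end Nine

end Comp

end CfsgLib.AltNineThree
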