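import Cfsg.Agent.Lib.AltNineThree.Local
import Cfsg.Agent.Lib.AltNineThree.Core

/-!
The centralizer of `(012)(345)(678)` is the Sylow subgroup.
-/

set_option autoImplicit false
set_option linter.unusedSectionVars false
set_option linter.style.haveILetI false
set_option maxRecDepth 20000

namespace CfsgLib.AltNineThree

open E9 CfsgLib.Transfer

namespace E9

/-- `(012)(345)⁻¹`. -/
def eE : E9 := mk' 7

theorem eE_mem : eE ∈ JE := by
  show jC (eE.c : ℕ) = true
  decide +kernel

theorem z_class : allC (fun x => impB (commC x 13) (pC x)) = true ∧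
    allC (fun x => impB (pC x) (commC x 13)) = true := by constructor <;> decide +kernel

/-- In `P`, the elements central modulo `⟨z⟩`. -/
theorem center_mod : allC (fun x => impB (pC x &&
    (List.range 648).all (fun y => impB (pC y && (Nat.beq y 1 || Nat.beq y 324))
      ((List.range 3).any fun k => Nat.beq (mulC (mulC x y) (invC (mulC y x))) (13 * k))))
    ((List.range 3).any fun i => (List.range 3).any fun k =>
      Nat.beq x (mulC (List.getD [0, 7, 5] i 0) (13 * k)))) = true := by decide +kernel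

theorem eE_central_mod : allC (fun x => impB (pC x)
    ((List.range 3).any fun k => Nat.beq (mulC (mulC x 7) (invC (mulC 7 x))) (13 * k))) = true ∧
    (mulC 7 7 = 5 ∧ pC 7 = true ∧ pC 1 = true ∧ pC 324 = true) := by
  constructor <;> decide +kernel

theorem e_z : allC (fun x => impB (commC x 13 && commC x 7) (jC x)) = true := by decide +kernel

/-- No two noncommuting elements are central modulo `⟨z⟩`. -/
theorem not_comm_mod : commC 1 324 = false ∧
    (List.range 3).all (fun k => !Nat.beq (mulC (mulC 1 324) (invC (mulC 324 1))) (13 * k)) = true ∧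
    allC (fun x => impB (pC x) ((List.range 3).any fun k => Nat.beq (cubeC x) (13 * k))) = true := by
  refine ⟨?_, ?_, ?_⟩ <;> decide +kernel

end E9

namespace Setup

variable {G : Type*} [Group G] [Finite G] (S : Setup G)

theorem P_le_cent_z : S.P ≤ Subgroup.centralizer ({S.Φ zE} : Set G) := by
  rintro _ ⟨p, hp, rfl⟩
  rw [Subgroup.mem_centralizer_singleton_iff, ← map_mul, ← map_mul,
    (comm_iff p zE).mp (impB_elim (all_spec z_class.2 p) hp)]

theorem range_cent_z {e : E9} (h : Commute (S.Φ e) (S.Φ zE)) : e ∈ PE :=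
  mem_PE.mpr (impB_elim (all_spec z_class.1 e) ((comm_iff e zE).mpr (S.inj (by
    rw [map_mul, map_mul]; exact h.eq))))

/-- `C(z, e)` has a normal three-complement. -/
theorem hasNPC_cent_ze : Cfsg.HasNormalPComplement 3
    ↥(Subgroup.centralizer ({S.Φ zE} : Set G) ⊓ Subgroup.centralizer ({S.Φ eE} : Set G)) := by
  haveI h3 := Fact.mk Nat.prime_three
  set C0 := Subgroup.centralizer ({S.Φ zE} : Set G) ⊓ Subgroup.centralizer ({S.Φ eE} : Set G) with hC0
  have hJC : S.J ≤ C0 := by
    rintro _ ⟨j, hj, rfl⟩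
    refine ⟨Subgroup.mem_centralizer_singleton_iff.mpr ?_, Subgroup.mem_centralizer_singleton_iff.mpr ?_⟩ <;>
      rw [← map_mul, ← map_mul]
    exacts [congrArg S.Φ (JE_comm hj zType_zE.2.1), congrArg S.Φ (JE_comm hj eE_mem)]
  have hsub : ∀ x ∈ C0, x ∈ Subgroup.normalizer (S.J : Set G) → x ∈ S.J := by
    intro x hx hn
    obtain ⟨e, rfl⟩ := S.normalizer_J hn
    refine S.Φ_mem_J.mpr (impB_elim (all_spec e_z e) ?_)
    rw [Bool.and_eq_true]
    constructor
    · exact (comm_iff e zE).mpr (S.inj (by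
        rw [map_mul, map_mul]; exact Subgroup.mem_centralizer_singleton_iff.mp hx.1))
    · exact (comm_iff e eE).mpr (S.inj (by
        rw [map_mul, map_mul]; exact Subgroup.mem_centralizer_singleton_iff.mp hx.2))
  have hup : ∀ x : C0, x ∈ Subgroup.normalizer (S.J.subgroupOf C0 : Set C0) →
      (x : G) ∈ Subgroup.normalizer (S.J : Set G) := by
    intro x hx
    rw [Subgroup.mem_normalizer_iff_map_conj_eq]
    refine Subgroup.eq_of_le_of_card_ge ?_ (le_of_eq
      (Subgroup.card_map_of_injective (MulAut.conj (x : G)).injective).symm)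
    rintro _ ⟨j, hj, rfl⟩
    exact Subgroup.mem_subgroupOf.mp ((Subgroup.mem_normalizer_iff.mp hx ⟨j, hJC hj⟩).mp
      (Subgroup.mem_subgroupOf.mpr hj))
  obtain ⟨R, hR⟩ := (S.isPGroup_J.comap_of_injective C0.subtype C0.subtype_injective).exists_le_sylow
  have hRJ : (R : Subgroup C0) = S.J.subgroupOf C0 := by
    by_contra hne
    haveI : Group.IsNilpotent (R : Subgroup C0) := R.2.isNilpotent
    have hlt : (S.J.subgroupOf C0).subgroupOf (R : Subgroup C0) < ⊤ := lt_top_iff_ne_top.mpr fun e =>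
      hne (le_antisymm (Subgroup.subgroupOf_eq_top.mp e) hR)
    obtain ⟨⟨r, hrR⟩, hr, hrn⟩ :=
      SetLike.exists_of_lt (Group.normalizerCondition_of_isNilpotent _ hlt)
    refine hrn (Subgroup.mem_subgroupOf.mpr (Subgroup.mem_subgroupOf.mpr (hsub r r.2 (hup r ?_))))
    have hm : ∀ q ∈ S.J.subgroupOf C0, r * q * r⁻¹ ∈ S.J.subgroupOf C0 := fun q hq =>
      Subgroup.mem_subgroupOf.mp ((Subgroup.mem_normalizer_iff.mp hr ⟨q, hR hq⟩).mp
        (Subgroup.mem_subgroupOf.mpr hq))
    rw [Subgroup.mem_normalizer_iff_map_conj_eq]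
    refine Subgroup.eq_of_le_of_card_ge ?_ (le_of_eq
      (Subgroup.card_map_of_injective (MulAut.conj r).injective).symm)
    rintro _ ⟨q, hq, rfl⟩
    exact hm q hq
  refine hasNormalPComplement_of_normalizer_le_centralizer R fun x hx => ?_
  rw [show (R : Set C0) = (S.J.subgroupOf C0 : Set C0) from congrArg SetLike.coe hRJ] at hx ⊢
  rw [Subgroup.mem_centralizer_iff]
  intro q hq
  exact Subtype.ext (S.J_comm (Subgroup.mem_subgroupOf.mp hq) (hsub x x.2 (hup x hx)))

/-- `C(z)` has a normal three-complement. -/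
theorem hasNPC_cent_z :
    Cfsg.HasNormalPComplement 3 (Subgroup.centralizer ({S.Φ zE} : Set G)) := by
  classical
  haveI h3 := Fact.mk Nat.prime_three
  set Y := Subgroup.centralizer ({S.Φ zE} : Set G) with hY
  set z : Y := ⟨S.Φ zE, S.P_le_cent_z ⟨zE, mem_PE.mpr (by decide +kernel), rfl⟩⟩ with hz
  set Z := Subgroup.zpowers z with hZ
  have hzc : ∀ y : Y, Commute y z := fun y =>
    Subtype.ext (Subgroup.mem_centralizer_singleton_iff.mp y.2)
  haveI : Z.Normal := ⟨fun n hn k => by
    obtain ⟨l, rfl⟩ := Subgroup.mem_zpowers_iff.mp hn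
    rw [((hzc k).zpow_right l).eq, mul_inv_cancel_right]
    exact Subgroup.zpow_mem_zpowers z l⟩
  set π := QuotientGroup.mk' Z with hπ
  have hπs : Function.Surjective π := QuotientGroup.mk'_surjective Z
  let PY : Sylow 3 Y := S.sylow.subtype (show (S.sylow : Subgroup G) ≤ Y from S.P_le_cent_z)
  have memPY : ∀ {y : Y}, y ∈ (PY : Subgroup Y) ↔ (y : G) ∈ S.P := fun {y} => by
    show y ∈ (S.sylow.subtype _ : Sylow 3 Y).1 ↔ _
    rw [Sylow.coe_subtype, Subgroup.mem_subgroupOf]; rfl
  let toY : ∀ p : E9, p ∈ PE → Y := fun p hp => ⟨S.Φ p, S.P_le_cent_z ⟨p, hp, rfl⟩⟩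
  have toY_mem : ∀ p hp, toY p hp ∈ (PY : Subgroup Y) := fun p hp => memPY.mpr ⟨p, hp, rfl⟩
  have z13 : ∀ k : ℕ, k < 3 → ∀ x : E9, (x.c : ℕ) = 13 * k → x = zE ^ k := by
    intro k hk x hx
    refine code_inj ?_
    rw [hx]
    interval_cases k
    · rw [pow_zero]; rfl
    · rw [pow_one]; rfl
    · rw [pow_two, code_mul]; decide +kernel
  have inZ : ∀ x : E9, (List.range 3).any (fun k => Nat.beq x.c (13 * k)) = true →
      ∀ hx : x ∈ PE, toY x hx ∈ Z := by
    intro x h hx
    rw [List.any_eq_true] at h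
    obtain ⟨k, hk, e⟩ := h
    have := z13 k (List.mem_range.mp hk) x (Nat.eq_of_beq_eq_true e)
    refine ⟨(k : ℤ), Subtype.ext ?_⟩
    show ((z ^ (k : ℤ) : Y) : G) = S.Φ x
    rw [this, map_pow]; simp [hz]
  -- the Sylow subgroup of the quotient
  let Pb : Sylow 3 (Y ⧸ Z) := PY.mapSurjective hπs
  have hPb : (Pb : Subgroup (Y ⧸ Z)) = (PY : Subgroup Y).map π := rfl
  have hZP : Z ≤ (PY : Subgroup Y) := Subgroup.zpowers_le.mpr (toY_mem zE (mem_PE.mpr (by decide +kernel)))
  have hnormP : ∀ y : Y, (∀ u ∈ (PY : Subgroup Y), π (y * u * y⁻¹) ∈ (PY : Subgroup Y).map π) →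
      y ∈ (PY : Subgroup Y) := by
    intro y h
    have hm : ∀ p ∈ S.P, (y : G) * p * (y : G)⁻¹ ∈ S.P := by
      intro p hp
      obtain ⟨v, hv, ev⟩ := h ⟨p, S.P_le_cent_z hp⟩ (memPY.mpr hp)
      have h1 : y * ⟨p, S.P_le_cent_z hp⟩ * y⁻¹ ∈ (PY : Subgroup Y) := by
        have h2 : v⁻¹ * (y * ⟨p, S.P_le_cent_z hp⟩ * y⁻¹) ∈ Z := QuotientGroup.eq.mp ev
        have := mul_mem hv (hZP h2)
        rwa [mul_inv_cancel_left] at this
      exact memPY.mp h1
    have hJ : S.J.map (MulAut.conj (y : G)).toMonoidHom = S.J := by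
      refine S.unique ?_ ((Subgroup.card_map_of_injective (MulAut.conj (y : G)).injective).trans S.card_J) ?_
      · rintro _ ⟨p, hp, rfl⟩; exact hm p (S.J_le_P hp)
      · rintro _ ⟨p, hp, rfl⟩ _ ⟨q, hq, rfl⟩
        rw [← map_mul, ← map_mul, S.J_comm hp hq]
    obtain ⟨e, he⟩ := S.normalizer_J (Subgroup.mem_normalizer_iff_map_conj_eq.mpr hJ)
    have hc : Commute (S.Φ e) (S.Φ zE) := he ▸ Subgroup.mem_centralizer_singleton_iff.mp y.2
    exact memPY.mpr ⟨e, S.range_cent_z hc, he⟩
  -- exponent three and non-commutativity of the quotient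
  have hexp : ∀ q ∈ (Pb : Subgroup (Y ⧸ Z)), q ^ 3 = 1 := by
    rintro _ ⟨u, hu, rfl⟩
    obtain ⟨p, hp, e⟩ := memPY.mp hu
    have hu' : u = toY p hp := Subtype.ext e.symm
    rw [hu', ← map_pow, ← MonoidHom.mem_ker, QuotientGroup.ker_mk']
    have h3' := impB_elim (all_spec not_comm_mod.2.2 p) hp
    rw [← code_cube] at h3'
    have := inZ (p ^ 3) h3' (pow_mem hp 3)
    exact (show toY (p ^ 3) (pow_mem hp 3) = toY p hp ^ 3 from Subtype.ext (map_pow S.Φ p 3)) ▸ this
  have h27 : Nat.card (Pb : Subgroup (Y ⧸ Z)) = 27 := by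
    have h81 : Nat.card (PY : Subgroup Y) = 81 := by
      show Nat.card (S.sylow.subtype _ : Sylow 3 Y).1 = 81
      rw [Sylow.coe_subtype, Nat.card_congr (Subgroup.subgroupOfEquivOfLe _).toEquiv]
      exacts [S.card_P, S.P_le_cent_z]
    have hz3 : Nat.card Z = 3 := by
      rw [hZ, Nat.card_zpowers, ← Subgroup.orderOf_coe]
      refine orderOf_eq_prime ?_ fun e => zType_zE.2.2.1 (S.inj (e.trans (map_one _).symm))
      rw [show ((z : G)) = S.Φ zE from rfl, ← map_pow, zType_zE.2.2.2, map_one]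
    have hmap := Subgroup.relIndex_ker (PY : Subgroup Y) π
    rw [QuotientGroup.ker_mk', Subgroup.relIndex] at hmap
    have hm := (Z.subgroupOf (PY : Subgroup Y)).card_mul_index
    rw [Nat.card_congr (Subgroup.subgroupOfEquivOfLe hZP).toEquiv, hz3, hmap, h81] at hm
    show Nat.card ((PY : Subgroup Y).map π : Subgroup (Y ⧸ Z)) = 27
    omega
  have hnc : ¬ ∀ u ∈ (Pb : Subgroup (Y ⧸ Z)), ∀ v ∈ (Pb : Subgroup (Y ⧸ Z)), u * v = v * u := by
    intro h
    obtain ⟨-, -, h1', h324'⟩ := eE_central_mod.2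
    have ha : mk' 1 ∈ PE := mem_PE.mpr (by rw [code_mk (by norm_num)]; exact h1')
    have hd : mk' 324 ∈ PE := mem_PE.mpr (by rw [code_mk (by norm_num)]; exact h324')
    have e := h _ ⟨_, toY_mem _ ha, rfl⟩ _ ⟨_, toY_mem _ hd, rfl⟩
    have h2 : toY _ ha * toY _ hd * (toY _ hd * toY _ ha)⁻¹ ∈ Z := by
      rw [← QuotientGroup.eq_one_iff]
      show π _ = 1
      rw [map_mul, map_inv, map_mul, map_mul, e, mul_inv_cancel]
    obtain ⟨l, hl⟩ := h2
    obtain ⟨k, hk3, hk⟩ : ∃ k : ℕ, k < 3 ∧ z ^ l = z ^ k := by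
      have hzo : z ^ (3 : ℕ) = 1 := Subtype.ext (by
        show S.Φ zE ^ 3 = 1
        rw [← map_pow, zType_zE.2.2.2, map_one])
      refine ⟨(l % 3).toNat, by omega, ?_⟩
      rw [← zpow_natCast, Int.toNat_of_nonneg (by omega)]
      conv_lhs => rw [← Int.emod_add_mul_ediv l 3, zpow_add, zpow_mul,
        show z ^ (3 : ℤ) = 1 by exact_mod_cast hzo, one_zpow, mul_one]
    have hE : mk' 1 * mk' 324 * (mk' 324 * mk' 1)⁻¹ = zE ^ k := S.inj (by
      rw [map_pow, map_mul, map_inv, map_mul, map_mul]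
      exact (congrArg Subtype.val (hl.symm.trans hk) :))
    have hall := List.all_eq_true.mp not_comm_mod.2.1 k (List.mem_range.mpr hk3)
    rw [Bool.not_eq_true', ← Bool.not_eq_true, Nat.beq_eq] at hall
    refine hall ?_
    have hc := congrArg (fun x : E9 => (x.c : ℕ)) hE
    rw [code_mul, code_inv, code_mul, code_mul, code_mk (by norm_num), code_mk (by norm_num)] at hc
    rw [hc]
    interval_cases k <;> decide +kernel
  -- every element lies in an abelian subgroup of order nine
  have hJ : thompsonJ 3 (Pb : Subgroup (Y ⧸ Z)) = Pb := by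
    refine le_antisymm (thompsonJ_le _ _) fun u hu => ?_
    obtain ⟨-, h7, -, -⟩ := eE_central_mod.2
    have he7 : eE ∈ PE := mem_PE.mpr h7
    set ē := π (toY eE he7)
    have heb : ē ∈ (Pb : Subgroup (Y ⧸ Z)) := ⟨_, toY_mem _ he7, rfl⟩
    have hec : ∀ v ∈ (Pb : Subgroup (Y ⧸ Z)), v * ē = ē * v := by
      rintro _ ⟨v, hv, rfl⟩
      obtain ⟨p, hp, e⟩ := memPY.mp hv
      have hv' : v = toY p hp := Subtype.ext e.symm
      have h1 := impB_elim (all_spec eE_central_mod.1 p) hp
      have h2 := inZ (p * eE * (eE * p)⁻¹) (by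
        rw [code_mul, code_inv, code_mul, code_mul]; exact h1) (mul_mem (mul_mem hp he7) (inv_mem (mul_mem he7 hp)))
      have h3' : π (toY p hp * toY eE he7 * (toY eE he7 * toY p hp)⁻¹) = 1 := by
        rw [← MonoidHom.mem_ker, QuotientGroup.ker_mk']
        exact (Subtype.ext (by simp [toY]) : (toY (p * eE * (eE * p)⁻¹) (mul_mem (mul_mem hp he7) (inv_mem (mul_mem he7 hp))) : Y) =
          toY p hp * toY eE he7 * (toY eE he7 * toY p hp)⁻¹) ▸ h2
      rw [hv']
      rw [map_mul, map_inv, map_mul, map_mul, mul_inv_eq_one] at h3'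
      exact h3'
    -- the abelian subgroup
    have hmk : ∀ w, w ∈ (Pb : Subgroup (Y ⧸ Z)) →
        IsAbExp 3 (Subgroup.closure ({w, ē} : Set (Y ⧸ Z))) ∧
          Subgroup.closure ({w, ē} : Set (Y ⧸ Z)) ≤ Pb := by
      intro w hw
      have hle : Subgroup.closure ({w, ē} : Set (Y ⧸ Z)) ≤ Pb := (Subgroup.closure_le _).mpr (by
        simp only [Set.insert_subset_iff, Set.singleton_subset_iff]; exact ⟨hw, heb⟩)
      refine ⟨⟨Subgroup.isMulCommutative_closure ?_, fun t ht => hexp t (hle ht)⟩, hle⟩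
      simp only [Set.mem_insert_iff, Set.mem_singleton_iff]
      rintro s (rfl | rfl) t (rfl | rfl)
      exacts [rfl, hec _ hw, (hec _ hw).symm, rfl]
    have hbound : ∀ B : Subgroup (Y ⧸ Z), B ≤ Pb → IsAbExp 3 B → Nat.card B ≤ 9 := by
      intro B hB hBe
      obtain ⟨n, hn⟩ := IsPGroup.iff_card.mp (Pb.2.to_le hB)
      have h27' := Subgroup.card_le_of_le hB
      rw [hn, h27] at h27'
      have hn3 : n ≤ 3 := by
        by_contra h
        exact absurd ((Nat.pow_le_pow_right (by norm_num : 0 < 3) (by omega : 4 ≤ n)).trans h27') (by norm_num)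
      rcases Nat.lt_or_ge n 3 with h | h
      · rw [hn]; exact (Nat.pow_le_pow_right (by norm_num) (by omega : n ≤ 2)).trans (by norm_num)
      · exfalso
        have := Subgroup.eq_of_le_of_card_ge hB (by rw [hn, h27, show n = 3 by omega]; norm_num)
        subst this
        exact hnc fun u hu v hv => congrArg Subtype.val (hBe.1.is_comm.comm ⟨u, hu⟩ ⟨v, hv⟩)
    by_cases hcase : ∀ w ∈ (Pb : Subgroup (Y ⧸ Z)), ¬ 9 ≤ Nat.card (Subgroup.closure ({w, ē} : Set (Y ⧸ Z)))
    · -- then every element is a power of `ē`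
      exfalso
      refine hnc fun x hx y hy => ?_
      have hmem : ∀ w ∈ (Pb : Subgroup (Y ⧸ Z)), w ∈ Subgroup.zpowers ē := by
        intro w hw
        obtain ⟨n, hn⟩ := IsPGroup.iff_card.mp (Pb.2.to_le (hmk w hw).2)
        have hlt := hcase w hw
        rw [hn] at hlt
        have hn1 : n ≤ 1 := by
          by_contra h
          exact hlt ((Nat.pow_le_pow_right (by norm_num : 0 < 3) (by omega : 2 ≤ n)).trans' (by norm_num))
        have hz' : Subgroup.zpowers ē ≤ Subgroup.closure ({w, ē} : Set (Y ⧸ Z)) :=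
          Subgroup.zpowers_le.mpr (Subgroup.subset_closure (by simp))
        have he3 : orderOf ē = 3 := by
          refine orderOf_eq_prime (hexp _ heb) fun e => ?_
          have h1 : toY eE he7 ∈ Z := (QuotientGroup.eq_one_iff _).mp e
          obtain ⟨l, hl⟩ := h1
          have hzo : (z : G) ^ (3 : ℕ) = 1 := by
            show S.Φ zE ^ 3 = 1
            rw [← map_pow, zType_zE.2.2.2, map_one]
          have : S.Φ eE = S.Φ (zE ^ ((l % 3).toNat)) := by
            rw [map_pow]
            have h2 : (z : G) ^ l = S.Φ eE := (congrArg Subtype.val hl :)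
            rw [← h2, ← zpow_natCast, Int.toNat_of_nonneg (by omega)]
            conv_lhs => rw [← Int.emod_add_mul_ediv l 3, zpow_add, zpow_mul,
              show (z : G) ^ (3 : ℤ) = 1 by exact_mod_cast hzo, one_zpow, mul_one]
          have hc := congrArg (fun x : E9 => (x.c : ℕ)) (S.inj this)
          have : (l % 3).toNat < 3 := by omega
          generalize (l % 3).toNat = k at hc this
          interval_cases k <;> revert hc <;> decide +kernel
        have := Subgroup.eq_of_le_of_card_ge hz' (by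
          rw [hn, Nat.card_zpowers, he3]
          exact (Nat.pow_le_pow_right (by norm_num) hn1).trans (by norm_num))
        rw [this]; exact Subgroup.subset_closure (by simp)
      obtain ⟨i, rfl⟩ := hmem x hx
      obtain ⟨j, rfl⟩ := hmem y hy
      exact (Commute.zpow_zpow_self ē i j).eq
    push Not at hcase
    obtain ⟨w0, hw0, h9⟩ := hcase
    -- generators
    by_cases hu9 : 9 ≤ Nat.card (Subgroup.closure ({u, ē} : Set (Y ⧸ Z)))
    · exact le_sSup (show _ ∈ maxAbExp 3 (Pb : Subgroup (Y ⧸ Z)) from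
        ⟨(hmk u hu).2, (hmk u hu).1, fun B hB hBe => (hbound B hB hBe).trans hu9⟩)
        (Subgroup.subset_closure (by simp))
    · have hmax : ∀ w ∈ (Pb : Subgroup (Y ⧸ Z)), 9 ≤ Nat.card (Subgroup.closure ({w, ē} : Set (Y ⧸ Z))) →
          Subgroup.closure ({w, ē} : Set (Y ⧸ Z)) ≤ thompsonJ 3 (Pb : Subgroup (Y ⧸ Z)) := fun w hw h =>
        le_sSup (show _ ∈ maxAbExp 3 (Pb : Subgroup (Y ⧸ Z)) from
          ⟨(hmk w hw).2, (hmk w hw).1, fun B hB hBe => (hbound B hB hBe).trans h⟩)
      -- `u` is a power of `ē`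
      have hsub : Subgroup.closure ({u, ē} : Set (Y ⧸ Z)) ≤ Subgroup.zpowers ē := by
        obtain ⟨n, hn⟩ := IsPGroup.iff_card.mp (Pb.2.to_le (hmk u hu).2)
        have hn1 : n ≤ 1 := by
          by_contra h
          exact hu9 (by rw [hn]; exact (Nat.pow_le_pow_right (by norm_num : 0 < 3) (by omega : 2 ≤ n)).trans' (by norm_num))
        refine (Subgroup.eq_of_le_of_card_ge (Subgroup.zpowers_le.mpr (Subgroup.subset_closure (by simp))) ?_).symm.le
        rw [hn, Nat.card_zpowers]
        refine (Nat.pow_le_pow_right (by norm_num) hn1).trans ?_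
        rw [pow_one]
        by_contra hlt
        have he1 : ē = 1 := by
          have h3' := orderOf_dvd_of_pow_eq_one (hexp _ heb)
          rcases (Nat.dvd_prime Nat.prime_three).mp h3' with e | e
          · exact orderOf_eq_one_iff.mp e
          · omega
        have hw9 : Subgroup.closure ({w0, ē} : Set (Y ⧸ Z)) = Subgroup.zpowers w0 := by
          refine le_antisymm ((Subgroup.closure_le _).mpr ?_) (Subgroup.zpowers_le.mpr (Subgroup.subset_closure (by simp)))
          simp only [Set.insert_subset_iff, Set.singleton_subset_iff, SetLike.mem_coe, he1, one_mem, and_true]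
          exact Subgroup.mem_zpowers w0
        rw [hw9, Nat.card_zpowers] at h9
        have := Nat.le_of_dvd (by norm_num) (orderOf_dvd_of_pow_eq_one (hexp _ hw0))
        omega
      exact hmax w0 hw0 h9 ((Subgroup.zpowers_le.mpr (Subgroup.subset_closure (by simp))) (hsub (Subgroup.subset_closure (by simp))))
  -- the two local hypotheses
  have hN : Cfsg.HasNormalPComplement 3
      ↥(Subgroup.normalizer (thompsonJ 3 (Pb : Subgroup (Y ⧸ Z)) : Set (Y ⧸ Z))) := by
    refine hasNormalPComplement_of_isPGroup (Pb.2.to_le fun q hq => ?_)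
    rw [hJ] at hq
    obtain ⟨y, rfl⟩ := hπs q
    refine ⟨y, hnormP y fun u hu => ?_, rfl⟩
    rw [map_mul, map_mul, map_inv, ← hPb]
    exact (Subgroup.mem_normalizer_iff.mp hq (π u)).mp ⟨u, hu, rfl⟩
  obtain ⟨-, h7, -, -⟩ := eE_central_mod.2
  have he7 : eE ∈ PE := mem_PE.mpr h7
  set e0 := toY eE he7 with he0
  set ē := π e0 with hē
  have hec : ∀ v ∈ (Pb : Subgroup (Y ⧸ Z)), v * ē = ē * v := by
    rintro _ ⟨v, hv, rfl⟩
    obtain ⟨p, hp, e⟩ := memPY.mp hv
    have hv' : v = toY p hp := Subtype.ext e.symm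
    have h1 := impB_elim (all_spec eE_central_mod.1 p) hp
    have h2 := inZ (p * eE * (eE * p)⁻¹) (by
      rw [code_mul, code_inv, code_mul, code_mul]; exact h1) (mul_mem (mul_mem hp he7) (inv_mem (mul_mem he7 hp)))
    have h3' : π (toY p hp * toY eE he7 * (toY eE he7 * toY p hp)⁻¹) = 1 := by
      rw [← MonoidHom.mem_ker, QuotientGroup.ker_mk']
      exact (Subtype.ext (by simp [toY]) : (toY (p * eE * (eE * p)⁻¹) (mul_mem (mul_mem hp he7) (inv_mem (mul_mem he7 hp))) : Y) =
        toY p hp * toY eE he7 * (toY eE he7 * toY p hp)⁻¹) ▸ h2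
    rw [hv']
    rw [map_mul, map_inv, map_mul, map_mul, mul_inv_eq_one] at h3'
    exact h3'
  have hC : Cfsg.HasNormalPComplement 3 ↥(Subgroup.centralizer (((Pb : Subgroup (Y ⧸ Z)) ⊓
      Subgroup.centralizer ((Pb : Subgroup (Y ⧸ Z)) : Set (Y ⧸ Z)) : Subgroup (Y ⧸ Z)) :
        Set (Y ⧸ Z))) := by
    refine hasNPC_of_le (K := Subgroup.centralizer ({ē} : Set (Y ⧸ Z))) (fun q hq => ?_) ?_
    · rw [Subgroup.mem_centralizer_singleton_iff]
      exact (hq ē ⟨⟨e0, toY_mem _ he7, rfl⟩, fun v hv => hec v hv⟩).symm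
    set Cb := Subgroup.centralizer ({ē} : Set (Y ⧸ Z))
    set M0 := Cb.comap π with hM0
    suffices hM : Cfsg.HasNormalPComplement 3 M0 from
      hasNormalPComplement_of_surjective (π.subgroupComap Cb)
        (MonoidHom.subgroupComap_surjective_of_surjective _ _ hπs) hM
    let cm : Y → Y := fun y => y * e0 * y⁻¹ * e0⁻¹
    have hmemM : ∀ y : M0, (cm (y : Y)) ∈ Z := fun y => by
      have hy := Subgroup.mem_centralizer_singleton_iff.mp (Subgroup.mem_comap.mp y.2)
      rw [← QuotientGroup.eq_one_iff]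
      show π _ = 1
      rw [map_mul, map_mul, map_mul, map_inv, map_inv, mul_inv_eq_one, mul_inv_eq_iff_eq_mul]
      exact hy
    have hZc : ∀ n : Z, ∀ y : Y, (n : Y) * y = y * n := fun n y => by
      obtain ⟨l, hl⟩ := Subgroup.mem_zpowers_iff.mp n.2
      rw [← hl]; exact ((hzc y).zpow_right l).eq.symm
    let f : M0 →* Z := MonoidHom.mk' (fun y => ⟨(cm (y : Y)), hmemM y⟩) fun a b => by
      refine Subtype.ext ?_
      show (cm ((a * b : M0) : Y)) = (cm (a : Y)) * (cm (b : Y))
      have hb : (cm (b : Y)) * (a : Y) = (a : Y) * (cm (b : Y)) := hZc ⟨_, hmemM b⟩ _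
      have hb' : (cm (b : Y)) * (cm (a : Y)) = (cm (a : Y)) * (cm (b : Y)) :=
        hZc ⟨_, hmemM b⟩ _
      calc (cm ((a * b : M0) : Y)) = (a : Y) * (cm (b : Y)) * (e0 * (a : Y)⁻¹ * e0⁻¹) := by
            simp only [cm, Subgroup.coe_mul]; group
        _ = (cm (b : Y)) * (a : Y) * (e0 * (a : Y)⁻¹ * e0⁻¹) := by rw [hb]
        _ = (cm (b : Y)) * (cm (a : Y)) := by simp only [cm]; group
        _ = _ := hb'
    have hZp : IsPGroup 3 Z := by
      refine IsPGroup.of_card (n := 1) ?_
      rw [hZ, Nat.card_zpowers, ← Subgroup.orderOf_coe, pow_one]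
      refine orderOf_eq_prime ?_ fun e => zType_zE.2.2.1 (S.inj (e.trans (map_one _).symm))
      rw [show ((z : G)) = S.Φ zE from rfl, ← map_pow, zType_zE.2.2.2, map_one]
    refine hasNPC_of_normal f.ker ?_ ?_
    · exact (hZp.of_injective (QuotientGroup.kerLift f) (QuotientGroup.kerLift_injective f))
    refine (?_ : Cfsg.HasNormalPComplement 3 f.ker)
    have hker : ∀ y : f.ker, ((y : M0) : G) ∈ Subgroup.centralizer ({S.Φ zE} : Set G) ⊓
        Subgroup.centralizer ({S.Φ eE} : Set G) := fun y => by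
      refine ⟨(y : M0).1.2, ?_⟩
      have h1 : (cm ((y : M0) : Y)) = 1 := congrArg Subtype.val y.2
      refine Subgroup.mem_centralizer_singleton_iff.mpr ?_
      simp only [cm] at h1
      rw [mul_inv_eq_one, mul_inv_eq_iff_eq_mul] at h1
      exact congrArg Subtype.val h1
    refine hasNormalPComplement_of_injective
      ((M0.subtype.comp f.ker.subtype |> fun g => Y.subtype.comp g).codRestrict _ hker) ?_ S.hasNPC_cent_ze
    intro u v huv
    exact Subtype.ext (Subtype.ext (Subtype.ext (congrArg Subtype.val huv :)))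
  have hQ := thompson_normal_complement (p := 3) (e := 3) dvd_rfl (Or.inl (by norm_num)) Pb ⟨hN, hC⟩
  -- from the quotient to `Y`
  haveI := pResidual_normal 3 (Y ⧸ Z)
  set K := (Cfsg.pResidual 3 (Y ⧸ Z)).comap π with hK
  refine hasNPC_of_normal K ?_ ?_
  · refine (isPGroup_quotient_pResidual :
      IsPGroup 3 ((Y ⧸ Z) ⧸ Cfsg.pResidual 3 (Y ⧸ Z))).of_injective
      (QuotientGroup.map _ _ π le_rfl) ?_
    rw [← MonoidHom.ker_eq_bot_iff, QuotientGroup.ker_map, QuotientGroup.map_mk'_self]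
  · have hz3 : Nat.card Z = 3 := by
      rw [hZ, Nat.card_zpowers, ← Subgroup.orderOf_coe]
      refine orderOf_eq_prime ?_ fun e => zType_zE.2.2.1 (S.inj (e.trans (map_one _).symm))
      rw [show ((z : G)) = S.Φ zE from rfl, ← map_pow, zType_zE.2.2.2, map_one]
    have hZK : Z ≤ K := fun n hn => Subgroup.mem_comap.mpr (by
      rw [show π n = 1 from (QuotientGroup.eq_one_iff n).mpr hn]; exact one_mem _)
    have hKc : Nat.card K = Nat.card (Cfsg.pResidual 3 (Y ⧸ Z)) * 3 := by
      rw [hK, CfsgLib.PSolvable.card_comap_of_surjective hπs, QuotientGroup.ker_mk', hz3]; ring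
    have hnd := hasNormalPComplement_iff_pResidual.mp hQ
    let Q : Sylow 3 K := Sylow.ofCard (Z.subgroupOf K) (by
      rw [Nat.card_congr (Subgroup.subgroupOfEquivOfLe hZK).toEquiv, hz3, hKc,
        Nat.factorization_mul (fun e => hnd (by rw [e]; exact dvd_zero 3)) (by norm_num)]
      simp [Nat.factorization_eq_zero_of_not_dvd hnd, Nat.Prime.factorization_self Nat.prime_three])
    refine hasNormalPComplement_of_central Q fun k hk => Subgroup.mem_center_iff.mpr fun g => ?_
    have hk' : (k : Y) ∈ Z := Subgroup.mem_subgroupOf.mp hk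
    obtain ⟨l, hl⟩ := Subgroup.mem_zpowers_iff.mp hk'
    exact Subtype.ext (show (g : Y) * k = k * g by rw [← hl]; exact ((hzc g).zpow_right l).eq)

/-- The centralizer of `z` is the Sylow subgroup. -/
theorem cent_z : Subgroup.centralizer ({S.Φ zE} : Set G) = S.P := by
  haveI := Fact.mk Nat.prime_three
  have h := S.hasNPC_cent_z
  have hcore := S.core zE (orderOf_eq_prime (by rw [← map_pow, zType_zE.2.2.2, map_one])
    fun e => zType_zE.2.2.1 (S.inj (e.trans (map_one _).symm)))
  rw [pPrimeCore_eq_pResidual h] at hcore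
  haveI := pResidual_normal 3 (Subgroup.centralizer ({S.Φ zE} : Set G))
  have hp : IsPGroup 3 (Subgroup.centralizer ({S.Φ zE} : Set G)) := by
    refine (isPGroup_quotient_pResidual : IsPGroup 3 (_ ⧸ Cfsg.pResidual 3
      (Subgroup.centralizer ({S.Φ zE} : Set G)))).of_injective (QuotientGroup.mk' _) ?_
    rw [← MonoidHom.ker_eq_bot_iff, QuotientGroup.ker_mk', hcore]
  exact S.maximal_P hp S.P_le_cent_z

end Setup

end CfsgLib.AltNineThree
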