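import Cfsg.Agent.Lib.AltNineThree.BlockHom
import Cfsg.Agent.Lib.Char.Induced
import Cfsg.Agent.Lib.Char.Virtual
import Cfsg.Agent.Lib.Char.Counting

/-!
Induced monomial characters of the model, with values in `ℤ[√3]` read off the class labels.
-/

set_option autoImplicit false
set_option linter.unusedSectionVars false
set_option maxRecDepth 20000

namespace CfsgLib.AltNineThree

open Cfsg CfsgLib.Char E9
open scoped ComplexConjugate

/-- A primitive twelfth root of unity. -/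
noncomputable def zeta : ℂ := (Real.sqrt 3 / 2 : ℂ) + Complex.I / 2

theorem sqrt3_sq : (Real.sqrt 3 : ℂ) * Real.sqrt 3 = 3 := by
  rw [← Complex.ofReal_mul, Real.mul_self_sqrt (by norm_num : (0 : ℝ) ≤ 3)]
  norm_num

/-- Coordinates of the powers of `zeta`. -/
def zA : List ℤ := [2, 0, 1, 0, -1, 0, -2, 0, -1, 0, 1, 0]
/-- Coordinates of the powers of `zeta`. -/
def zB : List ℤ := [0, 1, 0, 0, 0, -1, 0, -1, 0, 0, 0, 1]
/-- Coordinates of the powers of `zeta`. -/
def zC : List ℤ := [0, 1, 0, 2, 0, 1, 0, -1, 0, -2, 0, -1]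
/-- Coordinates of the powers of `zeta`. -/
def zD : List ℤ := [0, 0, 1, 0, 1, 0, 0, 0, -1, 0, -1, 0]

theorem zeta_pow : ∀ k : ℕ, k < 12 → zeta ^ k * 2 =
    (zA.getD k 0 : ℂ) + (zB.getD k 0 : ℂ) * Real.sqrt 3 +
      ((zC.getD k 0 : ℂ) + (zD.getD k 0 : ℂ) * Real.sqrt 3) * Complex.I := by
  have h2 : zeta ^ 2 = 1 / 2 + (Real.sqrt 3 : ℂ) / 2 * Complex.I := by
    simp only [zeta]
    linear_combination (1 / 4 : ℂ) * sqrt3_sq + (1 / 4 : ℂ) * Complex.I_mul_I
  have h3 : zeta ^ 3 = Complex.I := by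
    rw [pow_succ, h2]; simp only [zeta]
    linear_combination (1 / 4 : ℂ) * Complex.I * sqrt3_sq + (Real.sqrt 3 : ℂ) / 4 * Complex.I_mul_I
  intro k hk
  have hk3 : zeta ^ k = zeta ^ (k % 3) * Complex.I ^ (k / 3) := by
    conv_lhs => rw [← Nat.mod_add_div k 3, pow_add, pow_mul, h3]
  rw [hk3]
  interval_cases k <;> norm_num [zA, zB, zC, zD, h2, pow_succ, Complex.I_mul_I] <;>
    (try simp only [zeta]) <;> (try ring_nf) <;> (try simp only [Complex.I_sq]) <;> (try ring_nf)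

theorem zeta_twelve : zeta ^ 12 = 1 := by
  have h := zeta_pow 6 (by norm_num)
  simp only [zA, zB, zC, zD, List.getD_cons_zero, List.getD_cons_succ] at h
  push_cast at h
  have h6 : zeta ^ 6 = -1 := by linear_combination (1 / 2 : ℂ) * h
  rw [show (12 : ℕ) = 6 * 2 from rfl, pow_mul, h6]; norm_num

theorem zeta_mod (a : ℕ) : zeta ^ (a % 12) = zeta ^ a := by
  conv_rhs => rw [← Nat.mod_add_div a 12, pow_add, pow_mul, zeta_twelve, one_pow, mul_one]

/-- A monomial datum: weights on `J`, complement part, exponents, transversal. -/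
structure Mono where
  l1 : ℕ
  l2 : ℕ
  l3 : ℕ
  S : List ℕ
  ex : List ℕ
  R : List ℕ

namespace Mono

/-- Membership in the subgroup. -/
def kC (m : Mono) (x : ℕ) : Bool := m.S.any fun w => Nat.beq (Nat.div x 27) w

/-- The exponent. -/
def eC (m : Mono) (x : ℕ) : ℕ :=
  Nat.mod (4 * (m.l1 * Nat.mod x 3 + m.l2 * Nat.mod (Nat.div x 3) 3 + m.l3 * Nat.div (Nat.mod x 27) 9) +
    m.ex.getD (Nat.div x 27) 0) 12

/-- The elements of the subgroup. -/
def els (m : Mono) : List ℕ := m.S.flatMap fun w => (List.range 27).map fun v => 27 * w + v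

/-- The validity check. -/
def ok (m : Mono) : Bool :=
  m.kC 0 && Nat.beq (m.eC 0) 0 && m.S.all (fun w => Nat.blt w 24) && m.R.all (fun w => Nat.blt w 24) &&
  m.els.all (fun a => m.kC (invC a) && m.els.all fun b =>
    m.kC (mulC a b) && Nat.beq (m.eC (mulC a b)) (Nat.mod (m.eC a + m.eC b) 12)) &&
  allC fun g => Nat.beq ((m.R.filter fun w => m.kC (mulC g (invC (27 * w)))).length) 1

/-- A coordinate of the value at a code. -/
def sumZ (m : Mono) (T : List ℤ) (r : ℕ) : ℤ :=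
  (m.R.map fun w => if m.kC (conjC (27 * w) r) then T.getD (m.eC (conjC (27 * w) r)) 0 else 0).sum

/-- The value check. -/
def valOk (m : Mono) (A B : List ℤ) : Bool :=
  (List.range 14).all fun k => m.sumZ zA (repC k) == 2 * A.getD k 0 &&
    m.sumZ zB (repC k) == 2 * B.getD k 0 && m.sumZ zC (repC k) == 0 && m.sumZ zD (repC k) == 0

end Mono

/-- The class function with the given coordinates in `ℤ[√3]`. -/
noncomputable def tabFun (A B : List ℤ) (x : E9) : ℂ :=
  (A.getD (clsC x.c) 0 : ℂ) + (B.getD (clsC x.c) 0 : ℂ) * Real.sqrt 3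

theorem conj_rep : allC (fun x => Nat.blt (clsC x) 14 && Nat.blt (repC (clsC x)) 648 &&
    (List.range 648).any fun h => Nat.beq (conjC h (repC (clsC x))) x) = true := by decide +kernel

theorem exists_conj_rep (x : E9) : clsC (x.c : ℕ) < 14 ∧
    ∃ h : E9, h * mk' (repC (clsC x.c)) * h⁻¹ = x := by
  have h := all_spec conj_rep x
  simp only [Bool.and_eq_true, List.any_eq_true, List.mem_range] at h
  obtain ⟨⟨h1, h2⟩, k, hk, e⟩ := h
  refine ⟨Nat.le_of_ble_eq_true h1, mk' k, code_inj ?_⟩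
  rw [code_conj, code_mk hk, code_mk (Nat.le_of_ble_eq_true h2)]
  exact Nat.eq_of_beq_eq_true e

theorem Mono.isCharacter (m : Mono) (A B : List ℤ) (hok : m.ok = true)
    (hval : m.valOk A B = true) : IsCharacter E9 (tabFun A B) := by
  classical
  simp only [Mono.ok, Bool.and_eq_true] at hok
  obtain ⟨⟨⟨⟨⟨h0, he0⟩, hS⟩, hR⟩, hmul⟩, htrans⟩ := hok
  have hmem : ∀ x : E9, m.kC x.c = true → (x.c : ℕ) ∈ m.els := by
    intro x hx
    simp only [Mono.kC, List.any_eq_true] at hx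
    obtain ⟨w, hw, e⟩ := hx
    simp only [Mono.els, List.mem_flatMap, List.mem_map, List.mem_range]
    exact ⟨w, hw, (x.c : ℕ) % 27, by omega, by
      have := Nat.eq_of_beq_eq_true e
      change (x.c : ℕ) / 27 = w at this
      omega⟩
  have hall : ∀ x y : E9, m.kC x.c = true → m.kC y.c = true →
      m.kC (x⁻¹).c = true ∧ m.kC (x * y).c = true ∧ m.eC (x * y).c = (m.eC x.c + m.eC y.c) % 12 := by
    intro x y hx hy
    have h := List.all_eq_true.mp hmul _ (hmem x hx)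
    rw [Bool.and_eq_true] at h
    have h' := List.all_eq_true.mp h.2 _ (hmem y hy)
    rw [Bool.and_eq_true, ← code_mul] at h'
    exact ⟨by rw [code_inv]; exact h.1, h'.1, Nat.eq_of_beq_eq_true h'.2⟩
  let K : Subgroup E9 :=
    { carrier := {x | m.kC x.c = true}
      one_mem' := h0
      mul_mem' := fun {x y} hx hy => (hall x y hx hy).2.1
      inv_mem' := fun {x} hx => (hall x x hx hx).1 }
  have hmemK : ∀ x : E9, x ∈ K ↔ m.kC x.c = true := fun x => Iff.rfl
  let θ₀ : K →* ℂ :=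
    { toFun := fun x => zeta ^ m.eC ((x : E9).c : ℕ)
      map_one' := by
        show zeta ^ m.eC 0 = 1
        rw [Nat.eq_of_beq_eq_true he0, pow_zero]
      map_mul' := fun x y => by
        show zeta ^ m.eC (((x : E9) * y).c : ℕ) = _
        rw [(hall x y x.2 y.2).2.2, zeta_mod, pow_add] }
  let θ : K →* ℂˣ := θ₀.toHomUnits
  have hθ : ∀ x : K, ((θ x : ℂˣ) : ℂ) = zeta ^ m.eC ((x : E9).c : ℕ) := fun x => rfl
  set φ : K → ℂ := fun x => ((θ x : ℂˣ) : ℂ) with hφ
  have hchar : IsCharacter E9 (indFun K φ) := isCharacter_indFun K (isCharacter_monoidHom θ)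
  suffices he : indFun K φ = tabFun A B from he ▸ hchar
  -- both sides are class functions; evaluate at the representatives
  have hrep : ∀ k : ℕ, k < 14 → repC k < 648 := by
    intro k hk; interval_cases k <;> decide
  suffices key : ∀ k : ℕ, k < 14 → indFun K φ (mk' (repC k)) =
      (A.getD k 0 : ℂ) + (B.getD k 0 : ℂ) * Real.sqrt 3 by
    funext x
    obtain ⟨hk, h, e⟩ := exists_conj_rep x
    conv_lhs => rw [← e, isClassFunction_indFun K φ]
    exact key _ hk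
  intro k hk
  set r := mk' (repC k) with hr
  set F : E9 → ℂ := fun g => extendByZero K φ (g * r * g⁻¹) with hF
  have hinv : ∀ (a g : E9), a ∈ K → F (a * g) = F g := by
    intro a g ha
    simp only [hF]
    have e : a * g * r * (a * g)⁻¹ = a * (g * r * g⁻¹) * a⁻¹ := by group
    rw [e]
    by_cases hm : g * r * g⁻¹ ∈ K
    · rw [extendByZero_mem K φ hm, extendByZero_mem K φ (mul_mem (mul_mem ha hm) (inv_mem ha))]
      rw [show (⟨a * (g * r * g⁻¹) * a⁻¹, mul_mem (mul_mem ha hm) (inv_mem ha)⟩ : K) =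
        ⟨a, ha⟩ * ⟨g * r * g⁻¹, hm⟩ * ⟨a, ha⟩⁻¹ from rfl]
      simp only [hφ, map_mul, map_inv]
      rw [mul_comm (θ ⟨a, ha⟩), mul_inv_cancel_right]
    · rw [extendByZero_notMem K φ hm, extendByZero_notMem K φ fun h' => hm ?_]
      have := mul_mem (mul_mem (inv_mem ha) h') ha
      rwa [show a⁻¹ * (a * (g * r * g⁻¹) * a⁻¹) * a = g * r * g⁻¹ by group] at this
  -- split the sum along the transversal
  have hone : ∀ g : E9, (m.R.map fun w => if g * (mk' (27 * w))⁻¹ ∈ K then F g else 0).sum = F g := by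
    intro g
    have h := Nat.eq_of_beq_eq_true (all_spec htrans g)
    have hiff : ∀ w ∈ m.R, (g * (mk' (27 * w))⁻¹ ∈ K ↔
        m.kC (mulC g.c (invC (27 * w))) = true) := by
      intro w hw
      have hw24 := Nat.le_of_ble_eq_true (List.all_eq_true.mp hR w hw)
      rw [hmemK, code_mul, code_inv, code_mk (by omega)]
    rw [List.map_congr_left (g := fun w => if m.kC (mulC g.c (invC (27 * w))) = true then F g else 0)
      (fun w hw => by simp only [hiff w hw])]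
    have hgen : ∀ L : List ℕ,
        (L.map fun w => if m.kC (mulC g.c (invC (27 * w))) = true then F g else 0).sum =
          (((L.filter fun w => m.kC (mulC g.c (invC (27 * w)))).length : ℕ) : ℂ) * F g := by
      intro L
      induction L with
      | nil => simp
      | cons w L ih =>
        rw [List.map_cons, List.sum_cons, ih, List.filter_cons]
        split_ifs
        · rw [List.length_cons]; push_cast; ring
        · rw [zero_add]
    rw [hgen, h, Nat.cast_one, one_mul]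
  have hsum : ∑ g : E9, F g = (Nat.card K : ℂ) * (m.R.map fun w => F (mk' (27 * w))).sum := by
    have hsw : ∀ L : List ℕ, ∑ g : E9, (L.map fun w => if g * (mk' (27 * w))⁻¹ ∈ K then F g else 0).sum =
        (Nat.card K : ℂ) * (L.map fun w => F (mk' (27 * w))).sum := by
      intro L
      induction L with
      | nil => simp
      | cons w L ih =>
        simp only [List.map_cons, List.sum_cons, Finset.sum_add_distrib, ih, mul_add]
        congr 1
        rw [← Equiv.sum_comp (Equiv.mulRight (mk' (27 * w)))]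
        simp only [Equiv.coe_mulRight, mul_inv_cancel_right]
        rw [← Finset.sum_filter, Finset.sum_congr rfl fun x hx =>
          hinv x _ (Finset.mem_filter.mp hx).2, Finset.sum_const, nsmul_eq_mul,
          ← Fintype.card_subtype, ← Nat.card_eq_fintype_card]
    rw [← hsw]
    exact Finset.sum_congr rfl fun g _ => (hone g).symm
  have hK0 : (Nat.card K : ℂ) ≠ 0 := Nat.cast_ne_zero.mpr Nat.card_pos.ne'
  have hind : indFun K φ r = (m.R.map fun w => F (mk' (27 * w))).sum := by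
    have : ∑ x : E9, extendByZero K φ (x⁻¹ * r * x) = ∑ g : E9, F g := by
      refine Fintype.sum_equiv (Equiv.inv E9) _ _ fun x => ?_
      simp [hF]
    rw [indFun, this, hsum, ← mul_assoc, inv_mul_cancel₀ hK0, one_mul]
  rw [hind]
  have hterm : ∀ w ∈ m.R, F (mk' (27 * w)) * 2 =
      ((if m.kC (conjC (27 * w) (repC k)) then zA.getD (m.eC (conjC (27 * w) (repC k))) 0 else 0 : ℤ) : ℂ) +
      ((if m.kC (conjC (27 * w) (repC k)) then zB.getD (m.eC (conjC (27 * w) (repC k))) 0 else 0 : ℤ) : ℂ) *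
        Real.sqrt 3 +
      (((if m.kC (conjC (27 * w) (repC k)) then zC.getD (m.eC (conjC (27 * w) (repC k))) 0 else 0 : ℤ) : ℂ) +
      ((if m.kC (conjC (27 * w) (repC k)) then zD.getD (m.eC (conjC (27 * w) (repC k))) 0 else 0 : ℤ) : ℂ) *
        Real.sqrt 3) * Complex.I := by
    intro w hw
    have hw24 := Nat.le_of_ble_eq_true (List.all_eq_true.mp hR w hw)
    have hc : ((mk' (27 * w) * r * (mk' (27 * w))⁻¹).c : ℕ) = conjC (27 * w) (repC k) := by
      rw [code_conj, code_mk (by omega), hr, code_mk (hrep k hk)]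
    by_cases hm : m.kC (conjC (27 * w) (repC k)) = true
    · have hmk : mk' (27 * w) * r * (mk' (27 * w))⁻¹ ∈ K := by rw [hmemK, hc]; exact hm
      simp only [hF, hm, if_true]
      rw [extendByZero_mem K φ hmk, hφ]
      show zeta ^ m.eC (((mk' (27 * w) * r * (mk' (27 * w))⁻¹ : E9)).c : ℕ) * 2 = _
      rw [hc]
      exact zeta_pow _ (Nat.mod_lt _ (by norm_num))
    · have hmk : ¬ mk' (27 * w) * r * (mk' (27 * w))⁻¹ ∈ K := by rw [hmemK, hc]; exact hm
      simp only [hF, hm]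
      rw [extendByZero_notMem K φ hmk]
      simp
  have hval' := List.all_eq_true.mp hval k (List.mem_range.mpr hk)
  simp only [Bool.and_eq_true, beq_iff_eq, Mono.sumZ] at hval'
  obtain ⟨⟨⟨eA, eB⟩, eC'⟩, eD⟩ := hval'
  have hlin : ∀ L : List ℕ, (∀ w ∈ L, w ∈ m.R) → (L.map fun w => F (mk' (27 * w))).sum * 2 =
      (((L.map fun w => if m.kC (conjC (27 * w) (repC k)) then zA.getD (m.eC (conjC (27 * w) (repC k))) 0 else 0).sum : ℤ) : ℂ) +
      (((L.map fun w => if m.kC (conjC (27 * w) (repC k)) then zB.getD (m.eC (conjC (27 * w) (repC k))) 0 else 0).sum : ℤ) : ℂ) * Real.sqrt 3 +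
      ((((L.map fun w => if m.kC (conjC (27 * w) (repC k)) then zC.getD (m.eC (conjC (27 * w) (repC k))) 0 else 0).sum : ℤ) : ℂ) +
      (((L.map fun w => if m.kC (conjC (27 * w) (repC k)) then zD.getD (m.eC (conjC (27 * w) (repC k))) 0 else 0).sum : ℤ) : ℂ) * Real.sqrt 3) * Complex.I := by
    intro L hL
    induction L with
    | nil => simp
    | cons w L ih =>
      simp only [List.map_cons, List.sum_cons]
      push_cast
      rw [add_mul, hterm w (hL w List.mem_cons_self), ih fun v hv => hL v (List.mem_cons_of_mem _ hv)]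
      push_cast
      ring
  have h2 := hlin m.R fun w hw => hw
  rw [eA, eB, eC', eD] at h2
  push_cast at h2
  linear_combination (1 / 2 : ℂ) * h2

/-- The monomial data. -/
def m0 : Mono := ⟨0, 0, 1, [0, 3, 9, 10],
  [0, 0, 0, 0, 0, 0, 0, 0, 0, 0, 0, 0, 0, 0, 0, 0, 0, 0, 0, 0, 0, 0, 0, 0], [0, 1, 4, 5, 16, 18]⟩
/-- The monomial data. -/
def m1 : Mono := ⟨0, 0, 1, [0, 3, 9, 10],
  [0, 0, 0, 6, 0, 0, 0, 0, 0, 3, 9, 0, 0, 0, 0, 0, 0, 0, 0, 0, 0, 0, 0, 0], [0, 1, 4, 5, 16, 18]⟩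
/-- The monomial data. -/
def m3 : Mono := ⟨0, 0, 1, [0, 3, 9, 10],
  [0, 0, 0, 6, 0, 0, 0, 0, 0, 9, 3, 0, 0, 0, 0, 0, 0, 0, 0, 0, 0, 0, 0, 0], [0, 1, 4, 5, 16, 18]⟩
/-- The monomial data. -/
def m4 : Mono := ⟨1, 1, 0, [0, 8],
  [0, 0, 0, 0, 0, 0, 0, 0, 0, 0, 0, 0, 0, 0, 0, 0, 0, 0, 0, 0, 0, 0, 0, 0],
  [0, 1, 2, 3, 4, 5, 6, 7, 16, 17, 18, 19]⟩
/-- The monomial data. -/
def m7 : Mono := ⟨1, 1, 1, [0, 12, 16],
  [0, 0, 0, 0, 0, 0, 0, 0, 0, 0, 0, 0, 4, 0, 0, 0, 8, 0, 0, 0, 0, 0, 0, 0], [0, 1, 2, 3, 4, 5, 6, 7]⟩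
/-- The monomial data. -/
def m8 : Mono := ⟨1, 1, 1, [0, 12, 16],
  [0, 0, 0, 0, 0, 0, 0, 0, 0, 0, 0, 0, 8, 0, 0, 0, 4, 0, 0, 0, 0, 0, 0, 0], [0, 1, 2, 3, 4, 5, 6, 7]⟩
/-- The monomial data. -/
def q3 : Mono := ⟨0, 0, 0, [0, 1, 2, 3, 4, 5, 6, 7],
  [0, 0, 0, 0, 0, 0, 0, 0, 0, 0, 0, 0, 0, 0, 0, 0, 0, 0, 0, 0, 0, 0, 0, 0], [0, 8, 12]⟩
/-- The monomial data. -/
def q4 : Mono := ⟨0, 0, 0, [0, 7, 11, 12, 16, 23],
  [0, 0, 0, 0, 0, 0, 0, 0, 0, 0, 0, 0, 0, 0, 0, 0, 0, 0, 0, 0, 0, 0, 0, 0], [0, 1, 2, 3]⟩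
/-- The monomial data. -/
def q4s : Mono := ⟨0, 0, 0, [0, 7, 11, 12, 16, 23],
  [0, 0, 0, 0, 0, 0, 0, 6, 0, 0, 0, 6, 0, 0, 0, 0, 0, 0, 0, 0, 0, 0, 0, 6], [0, 1, 2, 3]⟩

theorem char_m0 : IsCharacter E9 (tabFun [6, 2, 2, 0, 0, 3, -1, 0, -1, -1, 0, 0, 0, -3] []) :=
  m0.isCharacter _ _ (by decide +kernel) (by decide +kernel)

theorem char_m1 : IsCharacter E9 (tabFun [6, -2, 0, 0, 0, 3, 1, 0, 0, 0, 0, 0, 0, -3]
    [0, 0, 0, 0, 0, 0, 0, 0, -1, 1, 0, 0, 0, 0]) :=
  m1.isCharacter _ _ (by decide +kernel) (by decide +kernel)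

theorem char_m3 : IsCharacter E9 (tabFun [6, -2, 0, 0, 0, 3, 1, 0, 0, 0, 0, 0, 0, -3]
    [0, 0, 0, 0, 0, 0, 0, 0, 1, -1, 0, 0, 0, 0]) :=
  m3.isCharacter _ _ (by decide +kernel) (by decide +kernel)

theorem char_m4 : IsCharacter E9 (tabFun [12, 0, 0, 2, 0, 0, 0, -1, 0, 0, 0, 0, -3, 3] []) :=
  m4.isCharacter _ _ (by decide +kernel) (by decide +kernel)

theorem char_m7 : IsCharacter E9 (tabFun [8, 0, 0, 0, -1, -4, 0, 0, 0, 0, -1, 2, 2, -1] []) :=
  m7.isCharacter _ _ (by decide +kernel) (by decide +kernel)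

theorem char_m8 : IsCharacter E9 (tabFun [8, 0, 0, 0, -1, -4, 0, 0, 0, 0, 2, -1, 2, -1] []) :=
  m8.isCharacter _ _ (by decide +kernel) (by decide +kernel)

theorem char_q3 : IsCharacter E9 (tabFun [3, 3, 1, 1, 0, 3, 3, 1, 1, 1, 0, 0, 3, 3] []) :=
  q3.isCharacter _ _ (by decide +kernel) (by decide +kernel)

theorem char_q4 : IsCharacter E9 (tabFun [4, 0, 0, 2, 1, 4, 0, 2, 0, 0, 1, 1, 4, 4] []) :=
  q4.isCharacter _ _ (by decide +kernel) (by decide +kernel)

theorem char_q4s : IsCharacter E9 (tabFun [4, 0, 0, -2, 1, 4, 0, -2, 0, 0, 1, 1, 4, 4] []) :=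
  q4s.isCharacter _ _ (by decide +kernel) (by decide +kernel)

theorem sgn_cls : allC (fun x => (([1, 1, -1, -1, 1, 1, 1, -1, -1, -1, 1, 1, 1, 1] : List ℤ).getD (clsC x) 0) ==
    (if Nat.div x 108 == 0 || Nat.div x 108 == 3 || Nat.div x 108 == 4 then (1 : ℤ) else -1)) = true := by
  decide +kernel

theorem sign_blk : ∀ w : Fin 24, ((Equiv.Perm.sign (blk w) : ℤˣ) : ℤ) =
    if (w : ℕ) / 4 == 0 || (w : ℕ) / 4 == 3 || (w : ℕ) / 4 == 4 then 1 else -1 := by decide +kernel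

theorem sgn_tab (x : E9) :
    ((([1, 1, -1, -1, 1, 1, 1, -1, -1, -1, 1, 1, 1, 1] : List ℤ).getD (clsC x.c) 0) : ℤ) =
      ((Equiv.Perm.sign (π x) : ℤˣ) : ℤ) := by
  have h := all_spec sgn_cls x
  rw [beq_iff_eq] at h
  rw [h, show π x = blk ((x.c : ℕ) / 27) from rfl, sign_blk ⟨(x.c : ℕ) / 27, by omega⟩]
  simp only [Nat.div_div_eq_div_mul, show Nat.div (x.c : ℕ) 108 = (x.c : ℕ) / 108 from rfl]

theorem char_sgn : IsCharacter E9 (tabFun [1, 1, -1, -1, 1, 1, 1, -1, -1, -1, 1, 1, 1, 1] []) := by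
  have h := isCharacter_monoidHom ((Units.map ((Int.castRingHom ℂ).toMonoidHom)).comp
    (Equiv.Perm.sign.comp π) : E9 →* ℂˣ)
  convert h using 1
  funext x
  rw [tabFun, sgn_tab]
  simp

end CfsgLib.AltNineThree
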