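import Cfsg.Agent.Lib.AltNineThree.Iso

/-!
Elementary facts on the 648 element model, checked on codes.
-/

set_option autoImplicit false
set_option maxRecDepth 20000

namespace CfsgLib.AltNineThree

attribute [local instance 2000] List.decidableBAll List.decidableBEx

/-- Commuting codes. -/
def commC (x y : ℕ) : Bool := Nat.beq (mulC x y) (mulC y x)

/-- Conjugation of codes. -/
def conjC (g x : ℕ) : ℕ := mulC (mulC g x) (invC g)

/-- The translation part. -/
def jC (x : ℕ) : Bool := Nat.blt x 27

/-- The Sylow subgroup. -/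
def pC (x : ℕ) : Bool :=
  Nat.beq (Nat.div x 27) 0 || Nat.beq (Nat.div x 27) 12 || Nat.beq (Nat.div x 27) 16

/-- The class label. -/
def clsC (x : ℕ) : ℕ := Nat.mod (Nat.shiftRight clsTab (Nat.mul 4 x)) 16

/-- Representative of a class. -/
def repC (k : ℕ) : ℕ := repL.getD k 0

/-- Cube. -/
def cubeC (x : ℕ) : ℕ := mulC (mulC x x) x

/-- A check over all codes. -/
def allC (P : ℕ → Bool) : Bool := (List.range 648).all P

/-- A check over all translations. -/
def allJ (P : ℕ → Bool) : Bool := (List.range 27).all P

/-- Implication. -/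
def impB (a b : Bool) : Bool := !a || b

theorem impB_elim {a b : Bool} (h : impB a b = true) (ha : a = true) : b = true := by
  subst ha; simpa [impB] using h

theorem allJ_spec {P : ℕ → Bool} (h : allJ P = true) {x : ℕ} (hx : jC x = true) : P x = true :=
  List.all_eq_true.mp h x (List.mem_range.mpr (Nat.le_of_ble_eq_true hx))

namespace E9

theorem all_spec {P : ℕ → Bool} (h : allC P = true) (x : E9) : P x.c = true :=
  List.all_eq_true.mp h _ (List.mem_range.mpr x.c.isLt)

theorem code_mul (x y : E9) : ((x * y).c : ℕ) = mulC x.c y.c := by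
  show ((Fin.ofNat 648 (mulC x.c y.c) : Fin 648) : ℕ) = _
  rw [Fin.val_ofNat, Nat.mod_eq_of_lt (mulC_lt _ _)]

theorem code_inv (x : E9) : ((x⁻¹).c : ℕ) = invC x.c := by
  show ((Fin.ofNat 648 (invC x.c) : Fin 648) : ℕ) = _
  rw [Fin.val_ofNat, Nat.mod_eq_of_lt (invC_spec x.c).2]

theorem code_one : (((1 : E9)).c : ℕ) = 0 := rfl

theorem code_inj {x y : E9} (h : (x.c : ℕ) = y.c) : x = y := E9.ext (Fin.ext h)

theorem code_mk {n : ℕ} (h : n < 648) : ((mk' n).c : ℕ) = n := by
  show ((Fin.ofNat 648 n : Fin 648) : ℕ) = _
  rw [Fin.val_ofNat, Nat.mod_eq_of_lt h]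

theorem code_conj (g x : E9) : ((g * x * g⁻¹).c : ℕ) = conjC g.c x.c := by
  rw [code_mul, code_mul, code_inv]; rfl

theorem code_cube (x : E9) : ((x ^ 3).c : ℕ) = cubeC x.c := by
  rw [pow_succ, pow_two, code_mul, code_mul]; rfl

theorem comm_iff (x y : E9) : commC x.c y.c = true ↔ x * y = y * x := by
  simp only [commC, Nat.beq_eq]
  rw [← code_mul, ← code_mul]
  exact ⟨code_inj, fun h => by rw [h]⟩

/-- The translation subgroup. -/
def JE : Subgroup E9 where
  carrier := {x | jC x.c = true}
  one_mem' := rfl
  mul_mem' := fun {x y} hx hy => by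
    have h : allJ (fun a => allJ fun b => jC (mulC a b)) = true := by decide +kernel
    show jC ((x * y).c : ℕ) = true
    rw [code_mul]; exact allJ_spec (allJ_spec h hx) hy
  inv_mem' := fun {x} hx => by
    have h : allJ (fun a => jC (invC a)) = true := by decide +kernel
    show jC ((x⁻¹).c : ℕ) = true
    rw [code_inv]; exact allJ_spec h hx

theorem mem_JE {x : E9} : x ∈ JE ↔ jC x.c = true := Iff.rfl

/-- The Sylow three-subgroup. -/
def PE : Subgroup E9 where
  carrier := {x | pC x.c = true}
  one_mem' := rfl
  mul_mem' := fun {x y} hx hy => by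
    have h : allC (fun a => impB (pC a) (allC fun b => impB (pC b) (pC (mulC a b)))) = true := by
      decide +kernel
    show pC ((x * y).c : ℕ) = true
    rw [code_mul]; exact impB_elim (all_spec (impB_elim (all_spec h x) hx) y) hy
  inv_mem' := fun {x} hx => by
    have h : allC (fun a => impB (pC a) (pC (invC a))) = true := by decide +kernel
    show pC ((x⁻¹).c : ℕ) = true
    rw [code_inv]; exact impB_elim (all_spec h x) hx

theorem mem_PE {x : E9} : x ∈ PE ↔ pC x.c = true := Iff.rfl

theorem card_JE : Nat.card JE = 27 := by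
  classical
  rw [Nat.card_congr (show JE ≃ Fin 27 from
    ⟨fun x => ⟨(x.1.c : ℕ), Nat.le_of_ble_eq_true x.2⟩,
      fun v => ⟨mk' v, by
        show jC ((mk' (v : ℕ)).c : ℕ) = true
        rw [code_mk (by omega)]; exact Nat.ble_eq_true_of_le v.isLt⟩,
      fun x => Subtype.ext (code_inj (code_mk x.1.c.isLt)),
      fun v => Fin.ext (code_mk (by omega))⟩), Nat.card_fin]

theorem card_PE : Nat.card PE = 81 := by
  classical
  have h : (List.range 648).filter pC = List.range 27 ++
      (List.range 27).map (324 + ·) ++ (List.range 27).map (432 + ·) := by decide +kernel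
  rw [Nat.card_congr (show PE ≃ {n : ℕ // n ∈ ((List.range 648).filter pC).toFinset} from
    ⟨fun x => ⟨x.1.c, by simpa using mem_PE.mp x.2⟩,
      fun n => ⟨mk' n, by
        obtain ⟨n, hn⟩ := n
        simp only [List.mem_toFinset, List.mem_filter, List.mem_range] at hn
        show pC ((mk' n).c : ℕ) = true
        rw [code_mk hn.1]; exact hn.2⟩,
      fun x => Subtype.ext (code_inj (code_mk x.1.c.isLt)),
      fun n => Subtype.ext (code_mk (by
        obtain ⟨n, hn⟩ := n
        simp only [List.mem_toFinset, List.mem_filter, List.mem_range] at hn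
        exact hn.1))⟩), Nat.card_eq_fintype_card, Fintype.card_coe, h]
  decide +kernel

/-- `(012)`. -/
def aE : E9 := mk' 1
/-- `(345)`. -/
def bE : E9 := mk' 3
/-- `(678)`. -/
def cE : E9 := mk' 9
/-- `(012)(345)(678)`. -/
def zE : E9 := mk' 13
/-- An element of order three outside the translations. -/
def dE : E9 := mk' 324

/-- Nontrivial translations with all three coordinates nonzero. -/
def zType (x : ℕ) : Bool :=
  jC x && !Nat.beq (Nat.mod x 3) 0 && !Nat.beq (Nat.mod (Nat.div x 3) 3) 0 && !Nat.beq (Nat.div x 9) 0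

theorem zType_zE : zType (zE.c : ℕ) = true ∧ zE ∈ JE ∧ zE ≠ 1 ∧ zE ^ 3 = 1 :=
  ⟨rfl, rfl, fun e => absurd (congrArg (fun x : E9 => (x.c : ℕ)) e) (by decide +kernel),
    code_inj (by rw [code_cube]; decide +kernel)⟩

/-- Translations are abelian of exponent three. -/
theorem JE_facts : allJ (fun a => Nat.beq (cubeC a) 0 && allJ fun b => commC a b) = true := by
  decide +kernel

theorem JE_comm {x y : E9} (hx : x ∈ JE) (hy : y ∈ JE) : x * y = y * x := by
  have := allJ_spec JE_facts hx
  rw [Bool.and_eq_true] at this
  exact (comm_iff x y).mp (allJ_spec this.2 hy)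

theorem JE_cube {x : E9} (hx : x ∈ JE) : x ^ 3 = 1 := by
  have := allJ_spec JE_facts hx
  rw [Bool.and_eq_true] at this
  exact code_inj (by rw [code_cube, Nat.eq_of_beq_eq_true this.1]; rfl)

/-- A normal abelian elementary subgroup consists of translations. -/
theorem outside_J : allC (fun x => impB (Nat.beq (cubeC x) 0 && !jC x)
    ((List.range 27).any fun h => !commC x (conjC h x))) = true := by decide +kernel

/-- Elements of the Sylow subgroup outside the translations centralize only nine of them. -/
theorem cent_outside : allC (fun x => impB (pC x && !jC x)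
    (allJ fun j => impB (commC x j) (Nat.beq j 0 || Nat.beq j 13 || Nat.beq j 26))) = true := by
  decide +kernel

/-- Centralizers of translations. -/
theorem cent_J : allJ (fun j => impB (!Nat.beq j 0) (allC fun x => impB (commC j x)
    ((impB (Nat.beq j 13) (pC x)) && (impB (Nat.beq (cubeC (cubeC x)) 0 && !zType j) (jC x))))) = true := by
  decide +kernel

/-- All translations with full support are conjugate. -/
theorem zType_conj : allJ (fun j => impB (zType j)
    ((List.range 24).any fun w => Nat.beq (conjC (27 * w) 13) j)) = true := by decide +kernel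

/-- `C(J) = J`. -/
theorem cent_abc : allC (fun x => impB (commC x 1 && commC x 3 && commC x 9) (jC x)) = true := by
  decide +kernel

/-- `N(P)` meets `C(z)` in `P`. -/
theorem pow_nine : allC (fun x => impB (pC x) (Nat.beq (cubeC (cubeC x)) 0)) = true := by decide +kernel

end E9

end CfsgLib.AltNineThree
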