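import Cfsg.Agent.Lib.AltNineThree.AltSix

/-!
Finite facts about four groups of `A6` and subgroups normalized by a three-cycle and an involution.
-/

set_option autoImplicit false
set_option maxRecDepth 20000

open Equiv

namespace CfsgLib.AltNineThree

attribute [local instance 2000] List.decidableBAll List.decidableBEx

namespace A6

/-- `(23)(45)`. -/
def vA : A6 := mk6 ![0, 1, 3, 2, 5, 4] ![0, 1, 3, 2, 5, 4] (by decide) (by decide) (by decide)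
/-- `(25)(34)`. -/
def vZ : A6 := mk6 ![0, 1, 5, 4, 3, 2] ![0, 1, 5, 4, 3, 2] (by decide) (by decide) (by decide)
/-- `(01)(34)`. -/
def uA : A6 := mk6 ![1, 0, 2, 4, 3, 5] ![1, 0, 2, 4, 3, 5] (by decide) (by decide) (by decide)
/-- `(13)(45)`. -/
def qA : A6 := mk6 ![0, 3, 2, 1, 5, 4] ![0, 3, 2, 1, 5, 4] (by decide) (by decide) (by decide)
/-- `(023)(154)`. -/
def kA : A6 := mk6 ![2, 5, 3, 0, 1, 4] ![3, 4, 0, 2, 5, 1] (by decide) (by decide) (by decide)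
/-- `(024)(135)`. -/
def kT : A6 := mk6 ![2, 3, 4, 5, 0, 1] ![4, 5, 0, 1, 2, 3] (by decide) (by decide) (by decide)
/-- `(023)`. -/
def tgt : A6 := mk6 ![2, 1, 3, 0, 4, 5] ![3, 1, 0, 2, 4, 5] (by decide) (by decide) (by decide)
/-- `(02)(34)`. -/
def phiA : A6 := mk6 ![2, 1, 0, 4, 3, 5] ![2, 1, 0, 4, 3, 5] (by decide) (by decide) (by decide)

/-- Membership in `⟨(23)(45),(25)(34)⟩`. -/
def inTwo (x : A6) : Prop := x = 1 ∨ x = vA ∨ x = vZ ∨ x = vA * vZ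
/-- Membership in `⟨(01)(34),(25)(34)⟩`. -/
def inB (x : A6) : Prop := x = 1 ∨ x = uA ∨ x = vZ ∨ x = uA * vZ
/-- Membership in the four group on `{1,3,4,5}`. -/
def inQ (x : A6) : Prop := x = 1 ∨ x = qA ∨ x = b6 * qA * b6⁻¹ ∨ x = b6⁻¹ * qA * b6
/-- Membership in the dihedral group on these. -/
def inD (x : A6) : Prop := inTwo x ∨ inTwo (uA * x)

instance : DecidablePred inTwo := fun _ => by unfold inTwo; infer_instance
instance : DecidablePred inB := fun _ => by unfold inB; infer_instance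
instance : DecidablePred inQ := fun _ => by unfold inQ; infer_instance
instance : DecidablePred inD := fun _ => by unfold inD; infer_instance

theorem two_mul_mem : ∀ x, inTwo x → ∀ y, inTwo y → inTwo (x * y) ∧ x * x = 1 ∧ x * y = y * x := by
  intro x hx y hy
  rcases hx with rfl | rfl | rfl | rfl <;> rcases hy with rfl | rfl | rfl | rfl <;> decide +kernel

theorem b_mul_mem : ∀ x, inB x → ∀ y, inB y → inB (x * y) ∧ x * x = 1 ∧ x * y = y * x := by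
  intro x hx y hy
  rcases hx with rfl | rfl | rfl | rfl <;> rcases hy with rfl | rfl | rfl | rfl <;> decide +kernel

theorem conj_maps : (∀ x, inTwo x → inTwo (b6 * x * b6⁻¹) ∧ inTwo (uA * x * uA) ∧
      conj6 (swap 0 1) x = x ∧ (b6 * x = x * b6 → x = 1)) ∧
    (∀ x, inB x → inB (kA * x * kA⁻¹) ∧ conj6 (swap 0 1) x = x) := by
  refine ⟨fun x hx => ?_, fun x hx => ?_⟩ <;> rcases hx with rfl | rfl | rfl | rfl <;> decide +kernel

theorem cent_four : (∀ y : A6, y * vA = vA * y → y * vZ = vZ * y → inTwo y) ∧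
    (∀ y : A6, y * uA = uA * y → y * vZ = vZ * y → inB y) ∧
    (∀ y : A6, y * vA = vA * y → y * y * (y * y) = 1) := by
  have t : ∀ n ∈ tab6, (mulN n (cd vA) = mulN (cd vA) n → mulN n (cd vZ) = mulN (cd vZ) n →
        n = cd 1 ∨ n = cd vA ∨ n = cd vZ ∨ n = cd (vA * vZ)) ∧
      (mulN n (cd uA) = mulN (cd uA) n → mulN n (cd vZ) = mulN (cd vZ) n →
        n = cd 1 ∨ n = cd uA ∨ n = cd vZ ∨ n = cd (uA * vZ)) ∧
      (mulN n (cd vA) = mulN (cd vA) n → mulN (mulN n n) (mulN n n) = cd 1) := by decide +kernel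
  have h := all6 t
  simp only [← cd_mul, cd_eq] at h
  exact ⟨fun y => (h y).1, fun y => (h y).2.1, fun y => (h y).2.2⟩

theorem no_conj : ∀ y : A6, y * vZ * y⁻¹ = vZ → y * vA * y⁻¹ ≠ uA ∧ y * vA * y⁻¹ ≠ uA * vZ := by
  intro y hy
  have t : ∀ n ∈ tab6, mulN n (cd vZ) = mulN (cd vZ) n →
      mulN n (cd vA) ≠ mulN (cd uA) n ∧ mulN n (cd vA) ≠ mulN (cd (uA * vZ)) n := by decide +kernel
  have h := all6 t y
  simp only [← cd_mul, ne_eq, cd_eq] at h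
  obtain ⟨h1, h2⟩ := h (mul_inv_eq_iff_eq_mul.mp hy)
  exact ⟨fun e => h1 (mul_inv_eq_iff_eq_mul.mp e), fun e => h2 (mul_inv_eq_iff_eq_mul.mp e)⟩

theorem elems : kA * kA * kA = 1 ∧ kA * a6 * kA⁻¹ ≠ a6 ∧
    (∃ y : A6, y * (a6 * b6) * y⁻¹ = kA) ∧ (∃ y : A6, y * (a6 * b6) * y⁻¹ = kT) ∧
    (∃ y : A6, y * vA * y⁻¹ = uA) ∧ (∃ y : A6, y * vZ * y⁻¹ = phiA) ∧
    vA * conj6 (swap 0 1) kT * vA = kT ∧ uA * vA * uA = vA * vZ ∧
    vA * uA * (vA * uA) = vZ ∧ vZ ≠ 1 ∧ uA * uA = 1 ∧ conj6 (swap 0 1) uA = uA := by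
  refine ⟨?_, ?_,
    ⟨mk6 ![1, 5, 4, 0, 2, 3] ![3, 0, 4, 5, 2, 1] (by decide) (by decide) (by decide), ?_⟩,
    ⟨mk6 ![1, 3, 5, 0, 2, 4] ![3, 0, 4, 1, 5, 2] (by decide) (by decide) (by decide), ?_⟩,
    ⟨mk6 ![2, 5, 0, 1, 3, 4] ![2, 3, 0, 4, 5, 1] (by decide) (by decide) (by decide), ?_⟩,
    ⟨mk6 ![1, 5, 0, 4, 3, 2] ![2, 0, 5, 4, 3, 1] (by decide) (by decide) (by decide), ?_⟩,
    ?_, ?_, ?_, ?_, ?_, ?_⟩ <;> decide +kernel

theorem conj_gens : conj6 (swap 0 1) a6 = a6⁻¹ ∧ conj6 (swap 0 1) b6 = b6 ∧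
    conj6 (swap 0 1) f6 = a6 * b6 * (f6 * f6 * f6) ∧
    conj6 (swap 0 2) a6 = a6⁻¹ ∧ conj6 (swap 0 2) b6 = b6 ∧
    conj6 (swap 0 2) f6 = a6 * a6 * (b6 * b6) * (f6 * f6 * f6) ∧
    uA = a6 * a6 * (b6 * b6) * (f6 * f6) * (a6 * a6 * (b6 * b6))⁻¹ ∧
    phiA = a6⁻¹ * uA * a6 ∧ w4 = b6 * w6 * b6⁻¹ ∧ vA * a6 * vA = w6 := by
  decide +kernel

theorem center_trivial : ∀ y : A6, y * a6 = a6 * y → y * b6 = b6 * y → y * w6 = w6 * y → y = 1 := by
  intro y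
  have t : ∀ n ∈ tab6, mulN n (cd a6) = mulN (cd a6) n → mulN n (cd b6) = mulN (cd b6) n →
      mulN n (cd w6) = mulN (cd w6) n → n = cd 1 := by decide +kernel
  have h := all6 t y
  simp only [← cd_mul, cd_eq] at h
  exact h

theorem q_facts : (∀ y, inQ y → y = 1 ∨ (y * b6 * y⁻¹ ≠ b6 ∧ y * b6 * y⁻¹ ≠ b6⁻¹)) ∧
    (∀ y, inQ y → conj6 (swap 0 2) y = y) := by
  refine ⟨fun x hx => ?_, fun x hx => ?_⟩ <;> rcases hx with rfl | rfl | rfl | rfl <;> decide +kernel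

/-- The witness words for an element outside the four group. -/
def uWords (y : A6) : List A6 :=
  [y * y * (b6 * y * b6⁻¹) * (b6⁻¹ * y * b6),
    y * y * (b6⁻¹ * y * b6) * (b6 * y * b6⁻¹),
    y * (b6 * y * b6⁻¹) * y * (b6⁻¹ * y * b6),
    y * (phiA * y * phiA) * (b6 * y * b6⁻¹) * (b6 * phiA * y * (b6 * phiA)⁻¹),
    y * (phiA * y * phiA)]

/-- The same words on codes. -/
def uWordsN (y : ℕ) : List ℕ :=
  let b := cd b6
  let b' := cd b6⁻¹
  let f := cd phiA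
  [mulN (mulN (mulN y y) (mulN (mulN b y) b')) (mulN (mulN b' y) b),
    mulN (mulN (mulN y y) (mulN (mulN b' y) b)) (mulN (mulN b y) b'),
    mulN (mulN (mulN y (mulN (mulN b y) b')) y) (mulN (mulN b' y) b),
    mulN (mulN (mulN y (mulN (mulN f y) f)) (mulN (mulN b y) b'))
      (mulN (mulN (mulN b f) y) (cd (b6 * phiA)⁻¹)),
    mulN y (mulN (mulN f y) f)]

theorem outside_four : ∀ y : A6, inQ y ∨ ∃ z ∈ uWords y, z * z * (z * z) * (z * z) = 1 ∧ z * z ≠ 1 := by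
  intro y
  have t : ∀ n ∈ tab6, (n = cd 1 ∨ n = cd qA ∨ n = cd (b6 * qA * b6⁻¹) ∨ n = cd (b6⁻¹ * qA * b6)) ∨
      ∃ z ∈ uWordsN n, mulN (mulN (mulN z z) (mulN z z)) (mulN z z) = cd 1 ∧ mulN z z ≠ cd 1 := by
    decide +kernel
  have hmap : uWordsN (cd y) = (uWords y).map cd := by
    simp only [uWordsN, uWords, List.map_cons, List.map_nil, cd_mul]
  rcases all6 t y with h | ⟨z, hz, h⟩
  · simp only [cd_eq] at h
    exact Or.inl h
  · rw [hmap, List.mem_map] at hz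
    obtain ⟨w, hw, rfl⟩ := hz
    simp only [← cd_mul, ne_eq, cd_eq] at h
    exact Or.inr ⟨w, hw, h⟩

/-- The witness words for an element of order five. -/
def hWords (x : A6) : List A6 :=
  [x * b6 * phiA * x * phiA * x, x * phiA * x * b6 * phiA * x, x * x * b6 * x⁻¹ * b6⁻¹,
    b6 * x * phiA * x⁻¹ * b6 * phiA, x * b6 * phiA * x⁻¹ * phiA * x⁻¹ * x⁻¹,
    x⁻¹ * b6 * phiA * x⁻¹ * phiA * x⁻¹, x * b6⁻¹ * x⁻¹, x⁻¹ * b6⁻¹ * x * b6 * phiA,
    x⁻¹ * b6⁻¹ * phiA * x * b6⁻¹ * phiA, x * x * b6⁻¹]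

/-- The same words on codes. -/
def hWordsN (x : ℕ) : List ℕ :=
  let b := cd b6
  let f := cd phiA
  let b' := invN b
  let x' := invN x
  let m := mulN
  [m (m (m (m (m x b) f) x) f) x, m (m (m (m (m x f) x) b) f) x, m (m (m (m x x) b) x') b',
    m (m (m (m (m b x) f) x') b) f, m (m (m (m (m (m x b) f) x') f) x') x',
    m (m (m (m (m x' b) f) x') f) x', m (m x b') x', m (m (m (m x' b') x) b) f,
    m (m (m (m (m x' b') f) x) b') f, m (m x x) b']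

theorem five_gen : ∀ x : A6, x * x * (x * x) * x = 1 → x = 1 ∨
    ∃ z ∈ hWords x, z = tgt ∨ (z * z * (z * z) = 1 ∧ z * z ≠ 1) := by
  intro x hx
  have t : ∀ n ∈ tab6, mulN (mulN (mulN n n) (mulN n n)) n = cd 1 → n = cd 1 ∨
      ∃ z ∈ hWordsN n, z = cd tgt ∨ (mulN (mulN z z) (mulN z z) = cd 1 ∧ mulN z z ≠ cd 1) := by
    decide +kernel
  have hmap : hWordsN (cd x) = (hWords x).map cd := by
    simp only [hWordsN, hWords, List.map_cons, List.map_nil, cd_mul, cd_inv]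
  rcases all6 t x (by rw [← cd_mul, ← cd_mul, ← cd_mul, hx]) with h | ⟨z, hz, h⟩
  · exact Or.inl (cd_inj h)
  · rw [hmap, List.mem_map] at hz
    obtain ⟨w, hw, rfl⟩ := hz
    simp only [← cd_mul, ne_eq, cd_eq] at h
    exact Or.inr ⟨w, hw, h⟩

end A6

end CfsgLib.AltNineThree
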