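import Cfsg.Agent.Lib.AltNineThree.CompC
import Cfsg.Agent.Lib.AltNineThree.SixFacts

/-!
The component of `C((678))` with its coordinates, and the action of elements of `N(J)` on it.
-/

set_option autoImplicit false
set_option linter.unusedSectionVars false
set_option linter.style.haveILetI false
set_option maxRecDepth 20000

namespace CfsgLib.AltNineThree

open E9 A6
open Equiv

/-- The component in coordinates. -/
structure Comp {G : Type*} [Group G] [Finite G] (S : Setup G) where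
  ψ : A6 →* G
  inj : Function.Injective ψ
  le : ψ.range ≤ S.CC
  dec : ∀ x ∈ S.CC, ∃ (y : A6) (k : ℕ), k < 3 ∧ x = ψ y * S.Φ cE ^ k
  comm : ∀ x y : G, x ∈ S.CC → y ∈ S.CC → x * y * x⁻¹ * y⁻¹ ∈ ψ.range
  ha : ψ a6 = S.Φ aE
  hb : ψ b6 = S.Φ bE
  hf : ψ f6 = S.Φ fcE

namespace E9

theorem act_facts :
    (conjC 64 1 = invC 1 ∧ conjC 64 3 = 3 ∧ conjC 64 9 = 18 ∧ mulC 64 64 = 0 ∧
      conjC 64 243 = mulC (mulC 1 3) (mulC (mulC 243 243) 243)) ∧
    (conjC 65 1 = invC 1 ∧ conjC 65 3 = 3 ∧ conjC 65 9 = 18 ∧ mulC 65 65 = 0 ∧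
      conjC 65 243 = mulC (mulC (mulC 1 1) (mulC 3 3)) (mulC (mulC 243 243) 243)) ∧
    (conjC 162 3 = 9 ∧ conjC 162 9 = 3 ∧ conjC 162 1 = 2 ∧ mulC 162 162 = 0 ∧
      conjC 162 64 = conjC (invC 1) 85 ∧ conjC 162 65 = 85) ∧
    (mulC 9 9 = 18 ∧ invC 9 = 18 ∧ allC (fun x => !Nat.beq (conjC x 9) 4 && !Nat.beq (conjC x 18) 4) = true) ∧
    ((List.range 3).all (fun i => two (mulC 3 (List.getD [0, 9, 18] i 0)) || Nat.beq i 0) = true ∧
      (List.range 3).all (fun i => two (mulC 4 (List.getD [0, 9, 18] i 0))) = true) ∧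
    allC (fun x => jC (mulC (conjC 9 x) (invC x))) = true ∧
    ¬ 5 ∣ 648 ∧ ¬ 7 ∣ 648 := by
  refine ⟨⟨?_, ?_, ?_, ?_, ?_⟩, ⟨?_, ?_, ?_, ?_, ?_⟩, ⟨?_, ?_, ?_, ?_, ?_, ?_⟩, ⟨?_, ?_, ?_⟩, ⟨?_, ?_⟩,
    ?_, ?_, ?_⟩ <;> decide +kernel

/-- `(01)(67)`. -/
def f0E : E9 := mk' 64
/-- `(02)(67)`. -/
def upE : E9 := mk' 65
/-- `(12)(36)(47)(58)`. -/
def hE : E9 := mk' 162
/-- `(01)(34)`. -/
def uE : E9 := mk' 85

end E9

namespace Setup

variable {G : Type*} [Group G] [Finite G] (S : Setup G)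

theorem exists_comp (e6 : S.CA ⧸ Subgroup.zpowers S.za ≃* alternatingGroup (Fin 6)) :
    Nonempty (Comp S) := by
  obtain ⟨ψ, h1, h2, h3, h4, h5, h6, h7⟩ := S.exists_psi e6
  exact ⟨⟨ψ, h1, h2, h3, h4, h5, h6, h7⟩⟩

end Setup

namespace Comp

variable {G : Type*} [Group G] [Finite G] {S : Setup G} (P : Comp S)

/-- `(678)` in the group. -/
def c (_P : Comp S) : G := S.Φ cE
/-- `(345)` in the group. -/
def b (_P : Comp S) : G := S.Φ bE
/-- `(01)(67)` in the group. -/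
def f0 (_P : Comp S) : G := S.Φ f0E
/-- `(12)(36)(47)(58)` in the group. -/
def h (_P : Comp S) : G := S.Φ hE

theorem comm_c (y : A6) : Commute (P.ψ y) P.c := S.mem_CC.mp (P.le ⟨y, rfl⟩)

theorem c_cube : P.c ^ 3 = 1 := S.J_cube (S.Φ_mem_J.mpr cE_mem)

theorem c_ne : P.c ≠ 1 := fun e => cE_ne (S.inj (e.trans (map_one S.Φ).symm))

theorem b_cube : P.b ^ 3 = 1 := S.J_cube (S.Φ_mem_J.mpr (show jC (bE.c : ℕ) = true by decide +kernel))

theorem ψ_b : P.ψ b6 = P.b := P.hb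

theorem mem_CC {x : G} (hx : Commute x P.c) : x ∈ S.CC := S.mem_CC.mpr hx

theorem exists_coord {x : G} (hx : Commute x P.c) : ∃ (y : A6) (k : ℕ), k < 3 ∧ x = P.ψ y * P.c ^ k :=
  P.dec x (P.mem_CC hx)

theorem c_notMem {y : A6} {k : ℕ} (hk : k < 3) (e : P.c ^ k = P.ψ y) : k = 0 ∧ y = 1 := by
  have hy : y = 1 := by
    have h : ∀ z : A6, y * z = z * y := fun z => P.inj (by
      rw [map_mul, map_mul, ← e]
      exact ((P.comm_c z).pow_right k).symm)
    exact center_trivial y (h a6) (h b6) (h w6)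
  rw [hy, map_one] at e
  refine ⟨?_, hy⟩
  by_contra hk0
  have h3 : orderOf P.c = 3 := orderOf_eq_prime P.c_cube P.c_ne
  have := Nat.le_of_dvd (by omega) (h3 ▸ orderOf_dvd_of_pow_eq_one e)
  omega

/-- An element of order prime to three commuting with `(678)` lies in the component. -/
theorem coord_of_order {x : G} (hx : Commute x P.c) {n : ℕ} (hn : x ^ n = 1) (h3 : ¬ 3 ∣ n) :
    ∃ y : A6, x = P.ψ y ∧ y ^ n = 1 := by
  obtain ⟨y, k, hk, rfl⟩ := P.exists_coord hx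
  rw [((P.comm_c y).pow_right k).mul_pow, ← map_pow, ← pow_mul] at hn
  have e : P.c ^ (k * n % 3) = P.ψ (y ^ n)⁻¹ := by
    rw [← pow_eq_pow_mod _ P.c_cube, map_inv]; exact eq_inv_of_mul_eq_one_right hn
  obtain ⟨h0, h1⟩ := P.c_notMem (Nat.mod_lt _ (by norm_num)) e
  have hk0 : k = 0 := by
    rcases (Nat.prime_three.dvd_mul.mp (Nat.dvd_of_mod_eq_zero h0)) with h | h
    · omega
    · exact absurd h h3
  exact ⟨y, by rw [hk0, pow_zero, mul_one], inv_eq_one.mp h1⟩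

/-- Conjugation by `Φ x` on the component. -/
theorem act (x : E9) (σ : Perm (Fin 6))
    (hc : S.Φ x * P.c * (S.Φ x)⁻¹ = P.c ∨ S.Φ x * P.c * (S.Φ x)⁻¹ = P.c⁻¹)
    (ha : S.Φ x * S.Φ aE * (S.Φ x)⁻¹ = P.ψ (conj6 σ a6))
    (hb : S.Φ x * S.Φ bE * (S.Φ x)⁻¹ = P.ψ (conj6 σ b6))
    (hf : S.Φ x * S.Φ fcE * (S.Φ x)⁻¹ = P.ψ (conj6 σ f6)) :
    ∀ y : A6, S.Φ x * P.ψ y * (S.Φ x)⁻¹ = P.ψ (conj6 σ y) := by
  set α : A6 →* G := (MulAut.conj (S.Φ x)).toMonoidHom.comp P.ψ with hα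
  have hα' : ∀ y, α y = S.Φ x * P.ψ y * (S.Φ x)⁻¹ := fun y => rfl
  have hαC : ∀ y, α y ∈ S.CC := by
    intro y
    refine P.mem_CC ?_
    rw [hα']
    set g := S.Φ x
    have hy := P.comm_c y
    rcases hc with e | e
    · show g * P.ψ y * g⁻¹ * P.c = P.c * (g * P.ψ y * g⁻¹)
      nth_rewrite 1 [← e]; nth_rewrite 2 [← e]
      rw [conj_mul, conj_mul, hy.eq]
    · have e' : g * P.c⁻¹ * g⁻¹ = P.c := by rw [← conj_inv, e, inv_inv]
      show g * P.ψ y * g⁻¹ * P.c = P.c * (g * P.ψ y * g⁻¹)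
      nth_rewrite 1 [← e']; nth_rewrite 2 [← e']
      rw [conj_mul, conj_mul, hy.inv_right.eq]
  obtain ⟨p, q, hpq⟩ := w_commutator
  obtain ⟨w', hw'⟩ : α w6 ∈ P.ψ.range := by
    rw [← hpq, map_mul, map_mul, map_mul, map_inv, map_inv]
    exact P.comm _ _ (hαC p) (hαC q)
  set β : A6 →* G := P.ψ.comp (conj6 σ) with hβ
  have hβi : Function.Injective β := P.inj.comp (conj6_bijective σ).1
  obtain ⟨v, hv⟩ := (conj6_bijective σ).2 w'
  have hβv : β v = α w6 := by rw [hβ, MonoidHom.comp_apply, hv, hw']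
  have hβa : β a6 = α a6 := by rw [hα', P.ha, ha]; rfl
  have hβb : β b6 = α b6 := by rw [hα', P.hb, hb]; rfl
  have hβf : β f6 = α f6 := by rw [hα', P.hf, hf]; rfl
  have hw : v = w6 := w_unique v (hβi (by
      rw [map_mul, map_mul, hβv, ← map_mul, ← map_mul, map_one,
        show w6 * w6 * w6 = 1 by decide +kernel, map_one]))
    (hβi (by
      simp only [map_mul, hβv, hβa]
      simp only [← map_mul]
      rw [show w6 * a6 * (w6 * a6) = 1 by decide +kernel, map_one, map_one]))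
    (hβi (by
      simp only [map_mul, hβv, hβa, hβf]
      simp only [← map_mul]
      rw [show w6 * a6 * f6 * (w6 * a6 * f6) = 1 by decide +kernel, map_one, map_one]))
  have e : α = β := eq_of_abw hβa.symm hβb.symm (by subst hw; exact hβv.symm)
  intro y
  exact DFunLike.congr_fun e y

theorem Φ_code {x : E9} {n : ℕ} (h : (x.c : ℕ) = n) : S.Φ x = S.Φ (mk' n) := by
  rw [show x = mk' n from code_inj (by rw [code_mk (h ▸ x.c.isLt), h])]

theorem ψ_u : P.ψ uA = S.Φ uE := by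
  obtain ⟨-, -, -, -, -, -, hu, -⟩ := conj_gens
  rw [hu]
  simp only [map_mul, map_inv, P.ha, P.hb, P.hf]
  simp only [← map_mul, ← map_inv]
  refine congrArg S.Φ (code_inj ?_)
  rw [uE, code_mk (by norm_num)]
  simp only [code_mul, code_inv, code_named.1, code_named.2.1, code_named.2.2.2.1]
  exact comp_facts.2.2.2.2.2.1 ▸ comp_facts.2.2.2.2.2.2.2.2.2.1

theorem conj_f0 (y : A6) : P.f0 * P.ψ y * P.f0 = P.ψ (conj6 (swap 0 1) y) := by
  obtain ⟨⟨ea, eb, ec, e2, ef⟩, -⟩ := act_facts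
  obtain ⟨ga, gb, gf, -⟩ := conj_gens
  have hinv : (S.Φ f0E)⁻¹ = S.Φ f0E := inv_eq_of_mul_eq_one_right (by
    rw [← map_mul, ← map_one S.Φ]
    exact congrArg S.Φ (code_inj (by rw [code_mul, f0E, code_mk (by norm_num)]; exact e2)))
  have h := P.act f0E (swap 0 1) (Or.inr (by
      rw [Comp.c, ← map_inv, ← map_mul, ← map_mul, ← map_inv]
      refine congrArg S.Φ (code_inj ?_)
      rw [code_conj, code_inv, f0E, code_mk (by norm_num), code_named.2.2.1]
      exact ec.trans (by decide +kernel)))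
    (by
      rw [ga, map_inv, P.ha, ← map_inv, ← map_mul, ← map_mul, ← map_inv]
      refine congrArg S.Φ (code_inj ?_)
      rw [code_conj, code_inv, f0E, code_mk (by norm_num), code_named.1]
      exact ea)
    (by
      rw [gb, P.hb, ← map_inv, ← map_mul, ← map_mul]
      refine congrArg S.Φ (code_inj ?_)
      rw [code_conj, f0E, code_mk (by norm_num), code_named.2.1]
      exact eb)
    (by
      rw [gf]
      simp only [map_mul, P.ha, P.hb, P.hf]
      simp only [← map_mul, ← map_inv]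
      refine congrArg S.Φ (code_inj ?_)
      rw [code_conj, f0E, code_mk (by norm_num)]
      simp only [code_mul, code_named.1, code_named.2.1, code_named.2.2.2.1]
      exact ef) y
  rwa [hinv] at h

theorem conj_up (y : A6) : S.Φ upE * P.ψ y * S.Φ upE = P.ψ (conj6 (swap 0 2) y) := by
  obtain ⟨-, ⟨ea, eb, ec, e2, ef⟩, -⟩ := act_facts
  obtain ⟨-, -, -, ga, gb, gf, -⟩ := conj_gens
  have hinv : (S.Φ upE)⁻¹ = S.Φ upE := inv_eq_of_mul_eq_one_right (by
    rw [← map_mul, ← map_one S.Φ]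
    exact congrArg S.Φ (code_inj (by rw [code_mul, upE, code_mk (by norm_num)]; exact e2)))
  have h := P.act upE (swap 0 2) (Or.inr (by
      rw [Comp.c, ← map_inv, ← map_mul, ← map_mul, ← map_inv]
      refine congrArg S.Φ (code_inj ?_)
      rw [code_conj, code_inv, upE, code_mk (by norm_num), code_named.2.2.1]
      exact ec.trans (by decide +kernel)))
    (by
      rw [ga, map_inv, P.ha, ← map_inv, ← map_mul, ← map_mul, ← map_inv]
      refine congrArg S.Φ (code_inj ?_)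
      rw [code_conj, code_inv, upE, code_mk (by norm_num), code_named.1]
      exact ea)
    (by
      rw [gb, P.hb, ← map_inv, ← map_mul, ← map_mul]
      refine congrArg S.Φ (code_inj ?_)
      rw [code_conj, upE, code_mk (by norm_num), code_named.2.1]
      exact eb)
    (by
      rw [gf]
      simp only [map_mul, P.ha, P.hb, P.hf]
      simp only [← map_mul, ← map_inv]
      refine congrArg S.Φ (code_inj ?_)
      rw [code_conj, upE, code_mk (by norm_num)]
      simp only [code_mul, code_named.1, code_named.2.1, code_named.2.2.2.1]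
      exact ef) y
  rwa [hinv] at h

theorem h_sq : P.h * P.h = 1 := by
  rw [Comp.h, ← map_mul, ← map_one S.Φ]
  exact congrArg S.Φ (code_inj (by rw [code_mul, hE, code_mk (by norm_num)]; exact act_facts.2.2.1.2.2.2.1))

theorem h_inv : P.h⁻¹ = P.h := inv_eq_of_mul_eq_one_right P.h_sq

theorem h_conj {x : E9} {r : ℕ} (e : conjC 162 (x.c : ℕ) = r) :
    P.h * S.Φ x * P.h = S.Φ (mk' r) := by
  nth_rewrite 2 [← P.h_inv]
  rw [Comp.h, ← map_inv, ← map_mul, ← map_mul]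
  refine Φ_code ?_
  rw [code_conj, hE, code_mk (by norm_num), e]

theorem h_b : P.h * P.b * P.h = P.c :=
  (P.h_conj (r := 9) (by rw [code_named.2.1]; exact act_facts.2.2.1.1)).trans rfl

theorem h_c : P.h * P.c * P.h = P.b :=
  (P.h_conj (r := 3) (by rw [code_named.2.2.1]; exact act_facts.2.2.1.2.1)).trans rfl

theorem h_u : P.h * S.Φ upE * P.h = P.ψ uA := by
  rw [P.h_conj (r := 85) (by rw [upE, code_mk (by norm_num)]; exact act_facts.2.2.1.2.2.2.2.2), P.ψ_u]
  rfl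

theorem h_f0 : P.h * P.f0 * P.h = P.ψ phiA := by
  obtain ⟨-, -, -, -, -, -, -, hphi, -⟩ := conj_gens
  rw [hphi, map_mul, map_mul, map_inv, P.ψ_u, P.ha, ← map_inv, ← map_mul, ← map_mul, Comp.f0,
    P.h_conj (r := conjC (invC 1) 85) (by rw [f0E, code_mk (by norm_num)]; exact act_facts.2.2.1.2.2.2.2.1)]
  refine (Φ_code ?_).symm
  rw [uE, code_mul, code_mul, code_inv, code_named.1, code_mk (by norm_num)]
  decide +kernel

theorem f0_sq : P.f0 * P.f0 = 1 := by
  rw [Comp.f0, ← map_mul, ← map_one S.Φ]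
  exact congrArg S.Φ (code_inj (by rw [code_mul, f0E, code_mk (by norm_num)]; exact act_facts.1.2.2.2.1))

theorem f0_b : Commute P.f0 P.b := by
  rw [Comp.f0, Comp.b, commute_iff_eq, ← map_mul, ← map_mul]
  refine congrArg S.Φ (mul_inv_eq_iff_eq_mul.mp (code_inj ?_))
  rw [code_conj, f0E, code_mk (by norm_num), code_named.2.1]
  exact act_facts.1.2.1

theorem f0_c : P.f0 * P.c * P.f0 = P.c⁻¹ := by
  have hinv : P.f0⁻¹ = P.f0 := inv_eq_of_mul_eq_one_right P.f0_sq
  nth_rewrite 2 [← hinv]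
  rw [Comp.f0, Comp.c, ← map_inv, ← map_mul, ← map_mul, ← map_inv]
  refine congrArg S.Φ (code_inj ?_)
  rw [code_conj, code_inv, f0E, code_mk (by norm_num), code_named.2.2.1]
  exact act_facts.1.2.2.1.trans (by decide +kernel)

theorem b_c : Commute P.b P.c := S.J_comm (S.Φ_mem_J.mpr (show jC (bE.c : ℕ) = true by decide +kernel))
  (S.Φ_mem_J.mpr cE_mem)

end Comp

end CfsgLib.AltNineThree
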