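import Cfsg.Agent.Lib.AltNineThree.CentA
import Cfsg.Agent.Lib.AltNineThree.AltSix

/-!
When `C((012))` is not inside `N(J)`, the centralizer of `(678)` is a direct product with a copy of
the alternating group of degree six that agrees with the model.
-/

set_option autoImplicit false
set_option linter.unusedSectionVars false
set_option linter.style.haveILetI false
set_option maxRecDepth 20000

namespace CfsgLib.AltNineThree

open E9 A6

namespace E9

/-- `(03)(1425)`. -/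
def fcE : E9 := mk' 243

theorem comp_facts :
    conjC (mulC 324 324) 1 = 9 ∧ conjC 243 1 = 3 ∧ conjC 243 3 = 2 ∧ conjC 243 9 = 9 ∧
    mulC (mulC 243 243) (mulC 243 243) = 0 ∧ mulC 243 243 = 81 ∧ mulC 1 3 = mulC 3 1 ∧
    mulC (mulC (conjC 81 1) (invC 1)) 0 = 1 ∧ mulC (conjC 81 3) (invC 3) = 3 ∧
    mulC (mulC (mulC (mulC 1 1) (mulC 3 3)) 81) (invC (mulC (mulC 1 1) (mulC 3 3))) = 85 ∧
    mulC 1 1 = invC 1 := by
  refine ⟨?_, ?_, ?_, ?_, ?_, ?_, ?_, ?_, ?_, ?_, ?_⟩ <;> decide +kernel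

theorem code_named : ((aE : E9).c : ℕ) = 1 ∧ ((bE : E9).c : ℕ) = 3 ∧ ((cE : E9).c : ℕ) = 9 ∧
    ((fcE : E9).c : ℕ) = 243 ∧ ((dE : E9).c : ℕ) = 324 :=
  ⟨code_mk (by norm_num), code_mk (by norm_num), code_mk (by norm_num), code_mk (by norm_num),
    code_mk (by norm_num)⟩

theorem cE_mem : cE ∈ JE := by show jC (cE.c : ℕ) = true; decide +kernel

theorem cE_ne : cE ≠ 1 := fun e => absurd (congrArg (fun x : E9 => (x.c : ℕ)) e) (by decide +kernel)

end E9

namespace Setup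

variable {G : Type*} [Group G] [Finite G] (S : Setup G)

/-- The centralizer of `(678)`. -/
def CC : Subgroup G := Subgroup.centralizer ({S.Φ cE} : Set G)

theorem mem_CC {x : G} : x ∈ S.CC ↔ x * S.Φ cE = S.Φ cE * x := by
  rw [CC, Subgroup.mem_centralizer_singleton_iff]

theorem J_le_CC : S.J ≤ S.CC := fun _ hy =>
  S.mem_CC.mpr (S.J_comm hy (S.Φ_mem_J.mpr cE_mem))

variable (e6 : S.CA ⧸ Subgroup.zpowers S.za ≃* alternatingGroup (Fin 6))

include e6

theorem card_CC : Nat.card S.CC = 1080 := by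
  have hA : Nat.card S.CA = 1080 := by
    rw [← Subgroup.card_mul_index (Subgroup.zpowers S.za), Subgroup.index_eq_card,
      Nat.card_congr e6.toEquiv, Nat.card_zpowers, ← Subgroup.orderOf_coe]
    show orderOf (S.Φ aE) * Nat.card A6 = 1080
    rw [S.orderOf_Φ aE_mem fun e => absurd (congrArg (fun x : E9 => (x.c : ℕ)) e) (by decide +kernel),
      card_A6]
  set g := S.Φ (dE * dE) with hg
  have hca : g * S.Φ aE * g⁻¹ = S.Φ cE := by
    rw [hg, ← map_inv, ← map_mul, ← map_mul]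
    refine congrArg S.Φ (code_inj ?_)
    rw [code_conj, code_mul, code_named.2.2.2.2, code_named.1, code_named.2.2.1]
    exact comp_facts.1
  have hmap : S.CA.map (MulAut.conj g).toMonoidHom = S.CC := by
    ext x
    constructor
    · rintro ⟨y, hy, rfl⟩
      have hy' := Subgroup.mem_centralizer_singleton_iff.mp hy
      refine S.mem_CC.mpr ?_
      rw [← hca]
      show g * y * g⁻¹ * (g * S.Φ aE * g⁻¹) = g * S.Φ aE * g⁻¹ * (g * y * g⁻¹)
      rw [conj_mul, conj_mul, hy']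
    · intro hx
      refine ⟨g⁻¹ * x * g, Subgroup.mem_centralizer_singleton_iff.mpr ?_,
        by show g * (g⁻¹ * x * g) * g⁻¹ = x; group⟩
      have hx' := S.mem_CC.mp hx
      rw [← hca] at hx'
      calc g⁻¹ * x * g * S.Φ aE = g⁻¹ * (x * (g * S.Φ aE * g⁻¹)) * g := by group
        _ = g⁻¹ * (g * S.Φ aE * g⁻¹ * x) * g := by rw [hx']
        _ = _ := by group
  rw [← hmap, Subgroup.card_map_of_injective (MulAut.conj g).injective, hA]

/-- The quotient is again `A6`. -/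
theorem exists_iso : ∃ (θ : A6 →* G), Function.Injective θ ∧ θ.range ≤ S.CC ∧
    (∀ x ∈ S.CC, ∃ (y : A6) (k : ℕ), k < 3 ∧ x = θ y * S.Φ cE ^ k) ∧
    (∀ x y : G, x ∈ S.CC → y ∈ S.CC → x * y * x⁻¹ * y⁻¹ ∈ θ.range) ∧
    (∀ x ∈ S.CC, x ^ 4 = 1 → x ∈ θ.range) := by
  classical
  haveI := Fact.mk Nat.prime_three
  set C := S.CC with hC
  set cc : C := ⟨S.Φ cE, S.J_le_CC (S.Φ_mem_J.mpr cE_mem)⟩ with hcc
  set Jc := S.J.subgroupOf C with hJc
  haveI : IsMulCommutative Jc := ⟨⟨fun u v => Subtype.ext (Subtype.ext (S.J_comm u.2 v.2))⟩⟩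
  have hJcard : Nat.card Jc = 27 := by
    rw [hJc, Nat.card_congr (Subgroup.subgroupOfEquivOfLe S.J_le_CC).toEquiv, S.card_J]
  have hidx : Jc.index = 40 := by
    have h := Jc.card_mul_index
    have h1 : Nat.card C = 1080 := S.card_CC e6
    rw [hJcard, h1] at h
    omega
  have hcen : ∀ g : C, g * cc = cc * g := fun g => Subtype.ext (S.mem_CC.mp g.2)
  open scoped IsMulCommutative in
  let τ : C →* Jc := MonoidHom.transfer (MonoidHom.id Jc)
  have hτc : ((τ cc : Jc) : C) = cc ^ 40 := by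
    have key : ∀ (k : ℕ) (g₀ : C), g₀⁻¹ * cc ^ k * g₀ ∈ Jc → g₀⁻¹ * cc ^ k * g₀ = cc ^ k :=
      fun k g₀ _ => by
        rw [mul_assoc, ← (Commute.pow_right (hcen g₀) k).eq, inv_mul_cancel_left]
    have h := MonoidHom.transfer_eq_pow (MonoidHom.id Jc) cc key
    show ((MonoidHom.transfer (MonoidHom.id Jc) cc : Jc) : C) = cc ^ 40
    rw [h, MonoidHom.id_apply]
    show cc ^ Jc.index = cc ^ 40
    rw [hidx]
  have hc3 : cc ^ 3 = 1 := Subtype.ext (S.J_cube (S.Φ_mem_J.mpr cE_mem))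
  have hcc1 : cc ≠ 1 := fun e => cE_ne (S.inj ((congrArg Subtype.val e).trans (map_one S.Φ).symm))
  have hτc1 : τ cc ≠ 1 := fun e => hcc1 (by
    have := congrArg Subtype.val e
    rw [hτc, show (40 : ℕ) = 3 * 13 + 1 from rfl, pow_succ, pow_mul, hc3, one_pow, one_mul] at this
    exact this)
  set K := τ.ker with hK
  set Z := Subgroup.zpowers cc with hZ
  haveI : Z.Normal := ⟨fun n hn g => by
    obtain ⟨k, rfl⟩ := Subgroup.mem_zpowers_iff.mp hn
    rw [(Commute.zpow_right (hcen g) k).eq, mul_inv_cancel_right]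
    exact hn⟩
  have hzcard : Nat.card Z = 3 := by rw [hZ, Nat.card_zpowers, orderOf_eq_prime hc3 hcc1]
  have hpow : ∀ z ∈ Z, ∃ k : ℕ, k < 3 ∧ z = cc ^ k := fun z hz => by
    obtain ⟨k, -, e⟩ := (Finset.mem_image).mp
      ((IsOfFinOrder.mem_zpowers_iff_mem_range_orderOf (isOfFinOrder_of_finite cc)).mp hz)
    exact ⟨k % 3, Nat.mod_lt _ (by norm_num), by rw [← pow_eq_pow_mod k hc3, e]⟩
  have hKZ : ∀ z ∈ Z, z ∈ K → z = 1 := by
    intro z hz hzK
    obtain ⟨k, hk, rfl⟩ := hpow z hz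
    rw [hK, MonoidHom.mem_ker, map_pow] at hzK
    interval_cases k
    · exact pow_zero cc
    · exact absurd (by simpa using hzK) hτc1
    · exfalso
      refine hτc1 ?_
      have h3 : τ cc ^ 3 = 1 := by rw [← map_pow, hc3, map_one]
      rw [pow_succ, hzK, one_mul] at h3
      exact h3
  -- the map to `A6`
  have hCA : ∃ q : C →* A6, Function.Surjective q ∧ q.ker = Z := by
    set g := S.Φ (dE * dE) with hg
    have hca : g * S.Φ aE * g⁻¹ = S.Φ cE := by
      rw [hg, ← map_inv, ← map_mul, ← map_mul]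
      refine congrArg S.Φ (code_inj ?_)
      rw [code_conj, code_mul, code_named.2.2.2.2, code_named.1, code_named.2.2.1]
      exact comp_facts.1
    have hback : ∀ x : C, g⁻¹ * (x : G) * g ∈ S.CA := fun x => by
      have hx' := S.mem_CC.mp x.2
      rw [← hca] at hx'
      exact Subgroup.mem_centralizer_singleton_iff.mpr (by
        calc g⁻¹ * (x : G) * g * S.Φ aE = g⁻¹ * ((x : G) * (g * S.Φ aE * g⁻¹)) * g := by group
          _ = g⁻¹ * (g * S.Φ aE * g⁻¹ * x) * g := by rw [hx']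
          _ = _ := by group)
    let φ : C →* S.CA := MonoidHom.mk' (fun x => ⟨g⁻¹ * (x : G) * g, hback x⟩) fun x y =>
      Subtype.ext (by show g⁻¹ * ((x : G) * y) * g = g⁻¹ * (x : G) * g * (g⁻¹ * (y : G) * g); group)
    have hφ : Function.Surjective φ := fun y =>
      ⟨⟨g * y * g⁻¹, S.mem_CC.mpr (by
        rw [← hca, conj_mul, conj_mul, Subgroup.mem_centralizer_singleton_iff.mp y.2])⟩,
        Subtype.ext (by show g⁻¹ * (g * (y : G) * g⁻¹) * g = y; group)⟩
    set q : C →* A6 := e6.toMonoidHom.comp ((QuotientGroup.mk' _).comp φ) with hq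
    have hqs : Function.Surjective q :=
      e6.surjective.comp ((QuotientGroup.mk'_surjective _).comp hφ)
    have hZk : Z ≤ q.ker := by
      rw [hZ, Subgroup.zpowers_le, MonoidHom.mem_ker]
      have : φ cc = S.za := Subtype.ext (by
        show g⁻¹ * S.Φ cE * g = S.Φ aE
        rw [← hca]; group)
      show e6 (QuotientGroup.mk' _ (φ cc)) = 1
      rw [this, show (QuotientGroup.mk' (Subgroup.zpowers S.za)) S.za = 1 from
        (QuotientGroup.eq_one_iff S.za).mpr (Subgroup.mem_zpowers _), map_one]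
    refine ⟨q, hqs, (Subgroup.eq_of_le_of_card_ge hZk ?_).symm⟩
    have h := q.ker.card_mul_index
    rw [Subgroup.index_ker, MonoidHom.range_eq_top.mpr hqs, Subgroup.card_top, card_A6] at h
    have h1 : Nat.card C = 1080 := S.card_CC e6
    rw [h1] at h
    omega
  obtain ⟨q, hqs, hqk⟩ := hCA
  have hqinj : Function.Injective (q.comp K.subtype) := by
    rw [← MonoidHom.ker_eq_bot_iff, eq_bot_iff]
    intro k hk
    rw [MonoidHom.mem_ker, MonoidHom.comp_apply, ← MonoidHom.mem_ker, hqk] at hk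
    exact Subgroup.mem_bot.mpr (Subtype.ext (hKZ _ hk k.2))
  have hnorm : (K.map q).Normal := (inferInstance : K.Normal).map q hqs
  have htop : K.map q = ⊤ := by
    refine hnorm.eq_bot_or_eq_top.resolve_left fun hb => ?_
    have hKb : K = ⊥ := eq_bot_iff.mpr fun k hk => Subgroup.mem_bot.mpr
      (congrArg Subtype.val (hqinj (a₁ := ⟨k, hk⟩) (a₂ := 1) (by
        rw [map_one]
        exact Subgroup.mem_bot.mp (hb ▸ Subgroup.mem_map_of_mem q hk))))
    have h := Nat.card_le_card_of_injective τ ((MonoidHom.ker_eq_bot_iff τ).mp hKb)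
    have h1 : Nat.card C = 1080 := S.card_CC e6
    rw [hJcard, h1] at h
    omega
  have hbij : Function.Bijective (q.comp K.subtype) := ⟨hqinj, fun y => by
    obtain ⟨k, hk, e⟩ := (htop ▸ Subgroup.mem_top y : y ∈ K.map q)
    exact ⟨⟨k, hk⟩, e⟩⟩
  set θK := (MulEquiv.ofBijective _ hbij).symm.toMonoidHom with hθK
  refine ⟨C.subtype.comp (K.subtype.comp θK), ?_, ?_, ?_, ?_, ?_⟩
  · exact C.subtype_injective.comp (K.subtype_injective.comp (MulEquiv.injective _))
  · rintro _ ⟨y, rfl⟩; exact SetLike.coe_mem _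
  · intro x hx
    set y := θK (q ⟨x, hx⟩) with hy
    have hqy : q (y : C) = q ⟨x, hx⟩ := (MulEquiv.ofBijective _ hbij).apply_symm_apply _
    have hz : ((y : C))⁻¹ * ⟨x, hx⟩ ∈ Z := by
      rw [← hqk, MonoidHom.mem_ker, map_mul, map_inv, hqy, inv_mul_cancel]
    obtain ⟨k, hk, e⟩ := hpow _ hz
    refine ⟨q ⟨x, hx⟩, k, hk, ?_⟩
    have := congrArg Subtype.val (eq_mul_of_inv_mul_eq e)
    simpa using this
  · intro x y hx hy
    open scoped IsMulCommutative in
    have hk : (⟨x, hx⟩ * ⟨y, hy⟩ * ⟨x, hx⟩⁻¹ * ⟨y, hy⟩⁻¹ : C) ∈ K := by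
      rw [hK, MonoidHom.mem_ker]
      simp only [map_mul, map_inv]
      rw [mul_comm (τ _) (τ _), mul_inv_cancel_right, mul_inv_cancel]
    obtain ⟨z, hz⟩ := (MulEquiv.ofBijective _ hbij).symm.surjective ⟨_, hk⟩
    exact ⟨z, by
      show ((θK z : K) : C).1 = _
      rw [show θK z = _ from hz]; rfl⟩
  · intro x hx h4
    have hk : (⟨x, hx⟩ : C) ∈ K := by
      rw [hK, MonoidHom.mem_ker, ← orderOf_eq_one_iff]
      have h1 : orderOf (τ ⟨x, hx⟩) ∣ 4 := orderOf_dvd_of_pow_eq_one (by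
        rw [← map_pow, show (⟨x, hx⟩ : C) ^ 4 = 1 from Subtype.ext h4, map_one])
      have h2 : orderOf (τ ⟨x, hx⟩) ∣ 27 := hJcard ▸ orderOf_dvd_natCard _
      exact Nat.eq_one_of_dvd_coprimes (by norm_num) h1 h2
    obtain ⟨z, hz⟩ := (MulEquiv.ofBijective _ hbij).symm.surjective ⟨_, hk⟩
    exact ⟨z, by
      show ((θK z : K) : C).1 = _
      rw [show θK z = _ from hz]⟩

/-- The normalized isomorphism. -/
theorem exists_psi : ∃ ψ : A6 →* G, Function.Injective ψ ∧ ψ.range ≤ S.CC ∧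
    (∀ x ∈ S.CC, ∃ (y : A6) (k : ℕ), k < 3 ∧ x = ψ y * S.Φ cE ^ k) ∧
    (∀ x y : G, x ∈ S.CC → y ∈ S.CC → x * y * x⁻¹ * y⁻¹ ∈ ψ.range) ∧
    ψ a6 = S.Φ aE ∧ ψ b6 = S.Φ bE ∧ ψ f6 = S.Φ fcE := by
  classical
  obtain ⟨θ, hinj, hle, hdec, hcomm, hfour⟩ := S.exists_iso e6
  obtain ⟨-, hfa, hfb, hfc, hf4, hff, hab, hia, hib, -, -⟩ := comp_facts
  obtain ⟨ca, cb, ccd, cf, -⟩ := code_named
  have ha : aE ∈ JE := aE_mem
  have hfaE : fcE * aE * fcE⁻¹ = bE := code_inj (by rw [code_conj, cf, ca, cb]; exact hfa)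
  have hfbE : fcE * bE * fcE⁻¹ = aE⁻¹ := code_inj (by
    rw [code_conj, code_inv, cf, cb, ca]; exact hfb.trans (by decide +kernel))
  have hfcC : S.Φ fcE ∈ S.CC := S.mem_CC.mpr (by
    rw [← map_mul, ← map_mul]
    refine congrArg S.Φ (mul_inv_eq_iff_eq_mul.mp (code_inj ?_))
    rw [code_conj, cf, ccd]; exact hfc)
  have haC : S.Φ aE ∈ S.CC := S.J_le_CC (S.Φ_mem_J.mpr ha)
  have hf2 : S.Φ fcE * S.Φ fcE ∈ S.CC := mul_mem hfcC hfcC
  have hcomA : (fcE * fcE) * aE * (fcE * fcE)⁻¹ * aE⁻¹ = aE := code_inj (by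
    rw [code_mul, code_conj, code_mul, code_inv, cf, ca, hff]
    exact (Nat.eq_of_beq_eq_true (by decide +kernel : Nat.beq (mulC (conjC 81 1) (invC 1)) 1 = true)))
  obtain ⟨ga, hga⟩ : S.Φ aE ∈ θ.range := by
    have := hcomm _ _ hf2 haC
    rwa [← map_mul, ← map_inv, ← map_inv, ← map_mul, ← map_mul, ← map_mul, hcomA] at this
  obtain ⟨gf, hgf⟩ : S.Φ fcE ∈ θ.range := hfour _ hfcC (by
    rw [← map_pow, ← map_one S.Φ]
    refine congrArg S.Φ (code_inj ?_)
    rw [show fcE ^ 4 = (fcE * fcE) * (fcE * fcE) by rw [pow_succ, pow_succ, pow_two, mul_assoc],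
      code_mul, code_mul, cf]
    exact hf4)
  have ha3 : ga * ga * ga = 1 := hinj (by
    rw [map_mul, map_mul, hga, map_one, ← pow_two, ← pow_succ, S.J_cube (S.Φ_mem_J.mpr ha)])
  have ha1 : ga ≠ 1 := fun e => by
    rw [e, map_one, ← map_one S.Φ] at hga
    exact absurd (congrArg (fun x : E9 => (x.c : ℕ)) (S.inj hga)) (by decide +kernel)
  -- make the image of `a` a three-cycle
  obtain ⟨θ', ga', gf', hinj', hrange, ha', hf', hconj⟩ :
      ∃ (θ' : A6 →* G) (y g : A6), Function.Injective θ' ∧ θ'.range = θ.range ∧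
        θ' y = S.Φ aE ∧ θ' g = S.Φ fcE ∧ ∃ h : A6, h * a6 * h⁻¹ = y := by
    rcases three_facts ga ha3 ha1 with h | ⟨h, hh⟩
    · exact ⟨θ, ga, gf, hinj, rfl, hga, hgf, h⟩
    · obtain ⟨ε, hε⟩ := exists_hom xe xe_rel.1 xe_rel.2
      have hεi : Function.Injective ε := by
        refine (MonoidHom.ker_eq_bot_iff ε).mp ((inferInstance : ε.ker.Normal).eq_bot_or_eq_top.resolve_right ?_)
        intro ht
        have : xg 0 ∈ ε.ker := ht ▸ Subgroup.mem_top _
        rw [MonoidHom.mem_ker, hε] at this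
        exact absurd this (by decide +kernel)
      have hεb : Function.Bijective ε := hεi.bijective_of_finite
      obtain ⟨y, hy⟩ := hεb.2 ga
      obtain ⟨g, hg⟩ := hεb.2 gf
      have hy3 : y * y * y = 1 := hεi (by rw [map_mul, map_mul, hy, ha3, map_one])
      have hy1 : y ≠ 1 := fun e => ha1 (by rw [← hy, e, map_one])
      refine ⟨θ.comp ε, y, g, hinj.comp hεi, ?_, by rw [MonoidHom.comp_apply, hy, hga],
        by rw [MonoidHom.comp_apply, hg, hgf], ?_⟩
      · rw [MonoidHom.range_comp, MonoidHom.range_eq_top.mpr hεb.2, ← MonoidHom.range_eq_map]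
      · refine (three_facts y hy3 hy1).resolve_right ?_
        rintro ⟨k, hk⟩
        refine (exc_facts (h⁻¹ * ε k)).2 ?_
        rw [← hy, ← hk] at hh
        simp only [map_mul, map_inv, hε] at hh
        calc h⁻¹ * ε k * (xe 0 * xe 1 * xe 2 * xe 3) * (h⁻¹ * ε k)⁻¹
            = h⁻¹ * (ε k * (xe 0 * xe 1 * xe 2 * xe 3) * (ε k)⁻¹) * h := by group
          _ = h⁻¹ * (h * (xg 0 * xg 1 * xg 2 * xg 3) * h⁻¹) * h := by rw [hh]
          _ = _ := by group
  obtain ⟨h0, hh0⟩ := hconj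
  set g1 := h0⁻¹ * gf' * h0 with hg1
  have e0 : gf' * ga' * gf'⁻¹ * ga' = ga' * (gf' * ga' * gf'⁻¹) := hinj' (by
    simp only [map_mul, map_inv, ha', hf']
    rw [← map_inv, ← map_mul, ← map_mul, hfaE, ← map_mul, ← map_mul]
    refine congrArg S.Φ (code_inj ?_)
    rw [code_mul, code_mul, ca, cb]; exact hab.symm)
  have e1 : gf' * gf' * (gf' * gf') = 1 := hinj' (by
    rw [map_mul, map_mul, hf', map_one, ← map_mul, ← map_mul, ← map_one S.Φ]
    exact congrArg S.Φ (code_inj (by rw [code_mul, code_mul, cf]; exact hf4)))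
  have e2 : gf' * (gf' * ga' * gf'⁻¹) * gf'⁻¹ = ga'⁻¹ := hinj' (by
    simp only [map_mul, map_inv, ha', hf']
    rw [← map_inv, ← map_mul, ← map_mul, hfaE, ← map_mul, ← map_mul, hfbE, map_inv])
  obtain ⟨σ, hσa, hσf⟩ := frame g1
    (by
      rw [show g1 * g1 * (g1 * g1) = h0⁻¹ * (gf' * gf' * (gf' * gf')) * h0 by rw [hg1]; group, e1]
      group)
    (by
      rw [show g1 * a6 * g1⁻¹ * a6 = h0⁻¹ * (gf' * (h0 * a6 * h0⁻¹) * gf'⁻¹ * (h0 * a6 * h0⁻¹)) * h0 by
        rw [hg1]; group, hh0, e0, ← hh0]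
      rw [hg1]; group)
    (by
      rw [show g1 * (g1 * a6 * g1⁻¹) * g1⁻¹ =
        h0⁻¹ * (gf' * (gf' * (h0 * a6 * h0⁻¹) * gf'⁻¹) * gf'⁻¹) * h0 by rw [hg1]; group, hh0, e2, ← hh0]
      group)
  set α := (MulAut.conj h0).toMonoidHom.comp (conj6 σ) with hα
  have hαb : Function.Bijective α := (MulAut.conj h0).bijective.comp (conj6_bijective σ)
  have hαa : α a6 = ga' := by
    show h0 * conj6 σ a6 * h0⁻¹ = ga'
    rw [show conj6 σ a6 = a6 from Subtype.ext (by rw [conj6_apply]; exact hσa), hh0]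
  have hαf : α f6 = gf' := by
    show h0 * conj6 σ f6 * h0⁻¹ = gf'
    rw [show conj6 σ f6 = g1 from Subtype.ext (by rw [conj6_apply]; exact hσf), hg1]; group
  set ψ := θ'.comp α with hψ
  have hψr : ψ.range = θ.range := by
    rw [hψ, MonoidHom.range_comp, MonoidHom.range_eq_top.mpr hαb.2, ← MonoidHom.range_eq_map, hrange]
  have hψa : ψ a6 = S.Φ aE := by rw [hψ, MonoidHom.comp_apply, hαa, ha']
  have hψf : ψ f6 = S.Φ fcE := by rw [hψ, MonoidHom.comp_apply, hαf, hf']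
  refine ⟨ψ, hinj'.comp hαb.1, hψr ▸ hle, fun x hx => ?_, fun x y hx hy => hψr ▸ hcomm x y hx hy,
    hψa, ?_, hψf⟩
  · obtain ⟨y, k, hk, e⟩ := hdec x hx
    obtain ⟨z, hz⟩ : θ y ∈ ψ.range := hψr ▸ ⟨y, rfl⟩
    exact ⟨z, k, hk, by rw [hz]; exact e⟩
  · rw [← f_rel.1, map_mul, map_mul, map_inv, hψa, hψf, ← map_inv, ← map_mul, ← map_mul, hfaE]

end Setup

end CfsgLib.AltNineThree
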