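import Cfsg.Agent.Lib.AltNineThree.Local

/-!
The local data from an isomorphism of the normalizer with `N9`.
-/

set_option autoImplicit false
set_option linter.style.haveILetI false
set_option maxRecDepth 20000

namespace CfsgLib.AltNineThree

open E9

variable {G : Type*} [Group G] [Finite G]

theorem exists_setup (J : Subgroup G) (hJcomm : IsMulCommutative J) (hJexp : ∀ a ∈ J, a ^ 3 = 1)
    (hJcard : Nat.card J = 27) (H : Subgroup G) (hH : H = Subgroup.normalizer (J : Set G))
    (eH : H ≃* N9)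
    (hcores : ∀ x ∈ H, orderOf x = 3 →
      Cfsg.pPrimeCore 3 (Subgroup.centralizer ({x} : Set G)) = ⊥) :
    ∃ S : Setup G, S.Φ.range = H := by
  classical
  set Φ : E9 →* G := H.subtype.comp (eN.trans eH.symm).toMonoidHom with hΦ
  have hinj : Function.Injective Φ :=
    H.subtype_injective.comp (eN.trans eH.symm).injective
  have hrange : Φ.range = H := by
    rw [hΦ, MonoidHom.range_comp, MonoidHom.range_eq_top.mpr (eN.trans eH.symm).surjective,
      ← MonoidHom.range_eq_map, Subgroup.range_subtype]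
  have hJH : J ≤ H := hH ▸ Subgroup.le_normalizer
  set A : Subgroup E9 := J.comap Φ with hA
  have hAJ : A.map Φ = J := by
    rw [hA, Subgroup.map_comap_eq, hrange, inf_eq_right.mpr hJH]
  have hAcard : Nat.card A = 27 := by
    rw [← Subgroup.card_map_of_injective hinj, hAJ, hJcard]
  have hle : A ≤ JE := by
    intro x hx
    by_contra hxn
    have hc3 : x ^ 3 = 1 := hinj (by rw [map_pow, map_one]; exact hJexp _ hx)
    have h := impB_elim (all_spec outside_J x) (by
      rw [Bool.and_eq_true, Bool.not_eq_true', Nat.beq_eq, ← code_cube, hc3]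
      exact ⟨code_one, by simpa [mem_JE] using hxn⟩)
    rw [List.any_eq_true] at h
    obtain ⟨n, hn, hnc⟩ := h
    rw [Bool.not_eq_true'] at hnc
    set g : E9 := mk' n
    have hgc : (g.c : ℕ) = n := code_mk (by simp only [List.mem_range] at hn; omega)
    have hconj : g * x * g⁻¹ ∈ A := by
      rw [hA, Subgroup.mem_comap, map_mul, map_mul, map_inv]
      have hg : Φ g ∈ Subgroup.normalizer (J : Set G) := hH ▸ hrange ▸ ⟨g, rfl⟩
      exact (Subgroup.mem_normalizer_iff.mp hg _).mp hx
    refine Bool.false_ne_true (hnc.symm.trans ?_)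
    rw [← hgc, ← code_conj, comm_iff]
    refine hinj ?_
    rw [map_mul, map_mul (f := Φ) (g * x * g⁻¹)]
    exact congrArg Subtype.val (hJcomm.is_comm.comm ⟨_, hx⟩ ⟨_, hconj⟩)
  have hAeq : A = JE := Subgroup.eq_of_le_of_card_ge hle (by rw [hAcard, card_JE])
  refine ⟨⟨Φ, hinj, fun x hx => ?_, fun e he => hcores _ (hrange ▸ ⟨e, rfl⟩) he⟩, hrange⟩
  rw [hrange, hH, Subgroup.mem_normalizer_iff_map_conj_eq]
  refine Subgroup.eq_of_le_of_card_ge ?_ (le_of_eq
    (Subgroup.card_map_of_injective (MulAut.conj x).injective).symm)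
  rintro _ ⟨y, hy, rfl⟩
  rw [← hAJ, hAeq] at hy
  obtain ⟨j, hj, rfl⟩ := hy
  obtain ⟨j', hj', e⟩ := hx j hj
  rw [← hAJ, hAeq]
  exact ⟨j', hj', by simp [e]⟩

end CfsgLib.AltNineThree
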