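import Cfsg.Agent.Lib.SelfCentThree.Simple
import Cfsg.Agent.Lib.Coprime.Action
import Cfsg.Agent.S0494

/-!
The centralizer of a four group with a self-centralizing element of order three modulo the four
group, normalized by a second element of order three.
-/

set_option autoImplicit false
set_option linter.unusedSectionVars false
set_option linter.style.haveILetI false
set_option maxRecDepth 20000

namespace CfsgLib.AltNineThree

theorem alt5_four : ∀ x : alternatingGroup (Fin 5), x * x * (x * x) = 1 → x * x = 1 := by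
  decide +kernel

theorem cube_roots_seven : ∀ j l : ZMod 7, j * j * j = 1 → l * l * l = 1 → l ≠ 1 →
    j = 1 ∨ j * l = 1 ∨ j * (l * l) = 1 := by decide +kernel

theorem cube_roots_five : ∀ j : ZMod 5, j * j * j = 1 → j = 1 := by decide +kernel

variable {G : Type*} [Group G] [Finite G]

/-- Exponent of a normalizing element on a group of prime order. -/
theorem exists_exponent {p : ℕ} [Fact p.Prime] {P : Subgroup G} (hP : Nat.card P = p) {x : G}
    (hx : x ∈ P) (hx1 : x ≠ 1) {y : G} (hy : y ∈ Subgroup.normalizer (P : Set G)) (hy3 : y ^ 3 = 1) :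
    ∃ j : ZMod p, y * x * y⁻¹ = x ^ j.val ∧ j * j * j = 1 := by
  classical
  have hxo : orderOf x = p := orderOf_eq_prime
    (by
      have h := congrArg Subtype.val (pow_card_eq_one' (x := (⟨x, hx⟩ : P)))
      rwa [hP] at h) hx1
  have hgen : Subgroup.zpowers x = P :=
    Subgroup.eq_of_le_of_card_ge (Subgroup.zpowers_le.mpr hx) (by rw [Nat.card_zpowers, hxo, hP])
  have hmem : y * x * y⁻¹ ∈ Subgroup.zpowers x := hgen ▸ (Subgroup.mem_normalizer_iff.mp hy x).mp hx
  obtain ⟨n, -, e⟩ := Finset.mem_image.mp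
    ((IsOfFinOrder.mem_zpowers_iff_mem_range_orderOf (isOfFinOrder_of_finite x)).mp hmem)
  refine ⟨(n : ZMod p), ?_, ?_⟩
  · rw [ZMod.val_natCast, ← e, ← hxo, pow_mod_orderOf]
  · have hiter : ∀ m : ℕ, y ^ m * x * (y ^ m)⁻¹ = x ^ n ^ m := fun m => by
      induction m with
      | zero => simp
      | succ m ih =>
        rw [pow_succ' y, show y * y ^ m * x * (y * y ^ m)⁻¹ = y * (y ^ m * x * (y ^ m)⁻¹) * y⁻¹ by group,
          ih, ← conj_pow, ← e, ← pow_mul, pow_succ']
    have h := hiter 3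
    rw [hy3, one_mul, inv_one, mul_one] at h
    have h' : x ^ (n ^ 3) = x ^ 1 := by rw [pow_one]; exact h.symm
    rw [pow_eq_pow_iff_modEq, hxo, ← ZMod.natCast_eq_natCast_iff] at h'
    push_cast at h'
    rw [← h', pow_succ, pow_succ, pow_one]

theorem commute_of_exponent {x y : G} {p : ℕ} [Fact p.Prime] {j : ZMod p}
    (h : y * x * y⁻¹ = x ^ j.val) (hj : j = 1) : Commute x y := by
  rw [hj, ZMod.val_one, pow_one] at h
  exact (mul_inv_eq_iff_eq_mul.mp h).symm

set_option maxHeartbeats 1000000 in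
/-- The dichotomy. -/
theorem four_local (V : Subgroup G) {c k : G} (hV : ∀ v ∈ V, v * v = 1) (hV4 : Nat.card V = 4)
    (hc3 : c ^ 3 = 1) (hc1 : c ≠ 1) (hcV : c ∈ Subgroup.centralizer (V : Set G))
    (hk3 : k ^ 3 = 1) (hkc : Commute k c) (hkn : k ∉ Subgroup.zpowers c)
    (hkV : k ∈ Subgroup.normalizer (V : Set G))
    (hcC : ∀ x ∈ Subgroup.centralizer (V : Set G), Commute x c →
      ∃ v ∈ V, ∃ i < 3, x = v * c ^ i)
    (hW : ∀ W : Subgroup G, W ≤ Subgroup.centralizer (V : Set G) →
      Subgroup.centralizer (V : Set G) ≤ Subgroup.normalizer (W : Set G) →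
      ¬ 3 ∣ Nat.card W → W ≤ V) :
    (Nat.card (Subgroup.centralizer (V : Set G)) ∣ 24 ∧
      ∀ x ∈ Subgroup.centralizer (V : Set G), x ^ 3 = 1 → x ∈ Subgroup.zpowers c) ∨
    ∃ x ∈ Subgroup.centralizer (V : Set G), ∃ i < 3, Commute x (k * c ^ i) ∧
      (orderOf x = 7 ∨ (orderOf x = 5 ∧ Nat.card (Subgroup.centralizer (V : Set G)) = 240 ∧
        ∀ g ∈ Subgroup.centralizer (V : Set G), g ^ 4 = 1 → g ^ 2 ∈ V)) := by
  classical
  haveI := Fact.mk Nat.prime_three
  set C := Subgroup.centralizer (V : Set G) with hC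
  have hVcomm : ∀ u ∈ V, ∀ v ∈ V, u * v = v * u := fun u hu v hv => by
    have h := hV _ (mul_mem hu hv)
    calc u * v = u * v * (v * u * (u * v))⁻¹ * (v * u * (u * v)) := by group
      _ = v * u := by
        rw [show v * u * (u * v) = v * (u * u) * v by group, hV u hu, mul_one, hV v hv, inv_one]
        simp only [mul_one]
        exact (mul_eq_one_iff_eq_inv.mp h).trans (by
          rw [mul_inv_rev, inv_eq_of_mul_eq_one_right (hV v hv), inv_eq_of_mul_eq_one_right (hV u hu)])
  have hVC : V ≤ C := fun v hv => Subgroup.mem_centralizer_iff.mpr fun u hu => hVcomm u hu v hv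
  set N := V.subgroupOf C with hN
  have hNc : ∀ n : C, n ∈ N → ∀ g : C, g * n = n * g := fun n hn g =>
    Subtype.ext (Subgroup.mem_centralizer_iff.mp g.2 _ hn).symm
  haveI : N.Normal := ⟨fun n hn g => by rw [hNc n hn g, mul_inv_cancel_right]; exact hn⟩
  have hN4 : Nat.card N = 4 :=
    (Nat.card_congr (Subgroup.subgroupOfEquivOfLe hVC).toEquiv).trans hV4
  have hNsq : ∀ n : C, n ∈ N → n * n = 1 := fun n hn => Subtype.ext (hV _ hn)
  set π := QuotientGroup.mk' N with hπ
  set cc : C := ⟨c, hcV⟩ with hcc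
  have hfix : ∀ n : C, n ∈ N → n ^ 3 = 1 → n = 1 := fun n hn h3 => by
    rw [pow_succ, pow_two, hNsq n hn, one_mul] at h3; exact h3
  have hsc : SCThree.SC (π cc) := by
    refine ⟨Nat.prime_three, orderOf_eq_prime ?_ ?_, le_antisymm (fun q hq => ?_) ?_⟩
    · rw [← map_pow, show cc ^ 3 = 1 from Subtype.ext hc3, map_one]
    · intro e
      exact hc1 (congrArg Subtype.val (hfix cc ((QuotientGroup.eq_one_iff cc).mp e) (Subtype.ext hc3)))
    · obtain ⟨g, rfl⟩ := QuotientGroup.mk'_surjective N q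
      rw [Subgroup.mem_centralizer_singleton_iff, ← map_mul, ← map_mul] at hq
      have hn : (cc * g)⁻¹ * (g * cc) ∈ N := QuotientGroup.eq.mp hq.symm
      set n := (cc * g)⁻¹ * (g * cc) with hndef
      have e1 : g⁻¹ * cc * g = cc * n⁻¹ := by rw [hndef]; group
      have e2 : n = 1 := by
        refine hfix n hn ?_
        have h3 : (cc * n⁻¹) ^ 3 = 1 := by
          rw [← e1, show g⁻¹ * cc * g = g⁻¹ * cc * g⁻¹⁻¹ by rw [inv_inv], conj_pow,
            show cc ^ 3 = 1 from Subtype.ext hc3, mul_one, mul_inv_cancel]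
        rw [(Commute.inv_right (hNc n hn cc)).mul_pow, show cc ^ 3 = 1 from Subtype.ext hc3, one_mul,
          inv_pow, inv_eq_one] at h3
        exact h3
      obtain ⟨v, hv, i, -, e⟩ := hcC g g.2 (by
        have := congrArg Subtype.val (inv_mul_eq_one.mp e2)
        exact this.symm)
      refine Subgroup.mem_zpowers_iff.mpr ⟨(i : ℤ), ?_⟩
      rw [zpow_natCast, ← map_pow]
      refine (QuotientGroup.eq.mpr ?_)
      show ((cc ^ i)⁻¹ * g : C) ∈ N
      rw [hN, Subgroup.mem_subgroupOf]
      simp only [Subgroup.coe_mul, Subgroup.coe_inv, SubmonoidClass.coe_pow, hcc]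
      have hcomm : Commute v c := (Subgroup.mem_centralizer_iff.mp hcV v hv)
      rw [e, (hcomm.pow_right i).eq, inv_mul_cancel_left]
      exact hv
    · exact Subgroup.zpowers_le.mpr (Subgroup.mem_centralizer_singleton_iff.mpr rfl)
  have hb : ∀ M : Subgroup (C ⧸ N), M.Normal → ¬ 3 ∣ Nat.card M → M = ⊥ := by
    intro M hM h3
    set W := (M.comap π).map C.subtype with hWdef
    haveI := hM
    have hnorm : C ≤ Subgroup.normalizer (W : Set G) := by
      intro g hg
      rw [Subgroup.mem_normalizer_iff_map_conj_eq]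
      refine Subgroup.eq_of_le_of_card_ge ?_ (le_of_eq
        (Subgroup.card_map_of_injective (MulAut.conj g).injective).symm)
      rintro _ ⟨_, ⟨w, hw, rfl⟩, rfl⟩
      exact ⟨⟨g, hg⟩ * w * ⟨g, hg⟩⁻¹, (hM.comap π).conj_mem w hw _, rfl⟩
    have hcard : ¬ 3 ∣ Nat.card W := by
      rw [hWdef, Subgroup.card_map_of_injective C.subtype_injective]
      have h := (N.subgroupOf (M.comap π)).card_mul_index
      have hle : N ≤ M.comap π := fun n hn => by
        rw [Subgroup.mem_comap, show π n = 1 from (QuotientGroup.eq_one_iff n).mpr hn]; exact one_mem M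
      rw [Nat.card_congr (Subgroup.subgroupOfEquivOfLe hle).toEquiv, hN4, ← Subgroup.relIndex] at h
      have hrel : N.relIndex (M.comap π) = Nat.card M := by
        have := Subgroup.relIndex_ker (M.comap π) π
        rw [hπ, QuotientGroup.ker_mk', Subgroup.map_comap_eq_self_of_surjective
          (QuotientGroup.mk'_surjective N)] at this
        exact this
      rw [hrel] at h
      intro h3'
      rw [← h] at h3'
      exact h3 ((Nat.Coprime.dvd_mul_left (by norm_num)).mp h3')
    have hle := hW W (Subgroup.map_subtype_le _) hnorm hcard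
    rw [eq_bot_iff]
    intro q hq
    obtain ⟨g, rfl⟩ := QuotientGroup.mk'_surjective N q
    exact Subgroup.mem_bot.mpr ((QuotientGroup.eq_one_iff g).mpr
      (Subgroup.mem_subgroupOf.mpr (hle ⟨g, hq, rfl⟩)))
  have hcardC : Nat.card C = 4 * Nat.card (C ⧸ N) := by
    rw [← Subgroup.index_eq_card, ← hN4, Subgroup.card_mul_index]
  rcases SCThree.quotient_cases hsc hb (fun K _ _ _ y _ hc hy => SCThree.simple_card hc hy) with
    hsmall | ⟨hsimp, hbig⟩
  · refine Or.inl ⟨by rw [hcardC]; rcases hsmall with e | e <;> rw [e] <;> norm_num, fun x hx hx3 => ?_⟩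
    set g : C := ⟨x, hx⟩
    set Z := Subgroup.zpowers (π cc)
    have hZ : π g ∈ Z := by
      have hg3 : π g ^ 3 = 1 := by rw [← map_pow, show g ^ 3 = 1 from Subtype.ext hx3, map_one]
      have hZi : Z.index ≤ 2 := by
        have h := Z.card_mul_index
        rw [Nat.card_zpowers, hsc.2.1] at h
        omega
      have hi0 : Z.index ≠ 0 := Subgroup.index_ne_zero_of_finite
      interval_cases hi : Z.index
      · exact absurd rfl hi0
      · rw [Subgroup.index_eq_one.mp hi]; exact Subgroup.mem_top _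
      · have hs := Subgroup.mul_self_mem_of_index_two hi (π g * π g)
        rwa [show π g * π g * (π g * π g) = π g ^ 3 * π g by rw [pow_succ, pow_two]; simp only [mul_assoc],
          hg3, one_mul] at hs
    obtain ⟨i, hi⟩ := Subgroup.mem_zpowers_iff.mp hZ
    rw [← map_zpow] at hi
    have hn : (cc ^ i)⁻¹ * g ∈ N := QuotientGroup.eq.mp hi
    have hn1 : (cc ^ i)⁻¹ * g = 1 := by
      refine hfix _ hn ?_
      have hcm : Commute (cc ^ i)⁻¹ g := by
        have := (Commute.zpow_left (show Commute cc ((cc ^ i)⁻¹ * g) from hNc _ hn cc) i).symm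
        rw [show g = cc ^ i * ((cc ^ i)⁻¹ * g) by group]
        exact ((Commute.refl (cc ^ i)).mul_right this.symm).inv_left
      rw [hcm.mul_pow, show g ^ 3 = 1 from Subtype.ext hx3, inv_pow, ← zpow_natCast, ← zpow_mul,
        mul_comm, zpow_mul, zpow_natCast, show cc ^ 3 = 1 from Subtype.ext hc3, one_zpow, inv_one,
        one_mul]
    exact Subgroup.mem_zpowers_iff.mpr ⟨i, by
      have := congrArg Subtype.val (inv_mul_eq_one.mp hn1)
      rw [SubgroupClass.coe_zpow] at this
      exact this⟩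
  refine Or.inr ?_
  haveI := hsimp
  -- the extension by `k`
  have hkC : k ∉ C := fun hk => hkn (by
    obtain ⟨v, hv, i, -, e⟩ := hcC k hk hkc
    have hcomm : Commute v c := Subgroup.mem_centralizer_iff.mp hcV v hv
    have hv3 : v ^ 3 = 1 := by
      have h : k ^ 3 = (v * c ^ i) ^ 3 := congrArg (fun t : G => t ^ 3) e
      rw [hk3, (hcomm.pow_right i).mul_pow, ← pow_mul, mul_comm i, pow_mul, hc3, one_pow, mul_one] at h
      exact h.symm
    rw [pow_succ, pow_two, hV v hv, one_mul] at hv3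
    rw [e, hv3, one_mul]
    exact Subgroup.npow_mem_zpowers c i)
  have hkCn : k ∈ Subgroup.normalizer (C : Set G) := by
    rw [Subgroup.mem_normalizer_iff_map_conj_eq]
    refine Subgroup.eq_of_le_of_card_ge ?_ (le_of_eq
      (Subgroup.card_map_of_injective (MulAut.conj k).injective).symm)
    rintro _ ⟨g, hg, rfl⟩
    rw [hC, Subgroup.mem_centralizer_iff]
    intro v hv
    have hv' := (Subgroup.mem_normalizer_iff.mp (inv_mem hkV) v).mp hv
    have := Subgroup.mem_centralizer_iff.mp hg _ hv'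
    show v * (k * g * k⁻¹) = k * g * k⁻¹ * v
    calc v * (k * g * k⁻¹) = k * (k⁻¹ * v * k⁻¹⁻¹ * g) * k⁻¹ := by group
      _ = k * (g * (k⁻¹ * v * k⁻¹⁻¹)) * k⁻¹ := by rw [this]
      _ = _ := by group
  set K := Subgroup.zpowers k with hK
  have hK3 : Nat.card K = 3 := by
    rw [hK, Nat.card_zpowers]
    exact orderOf_eq_prime hk3 fun e => hkC (e ▸ one_mem C)
  have hKn : K ≤ Subgroup.normalizer (C : Set G) := Subgroup.zpowers_le.mpr hkCn
  set M := C ⊔ K with hM
  have hinf : C ⊓ K = ⊥ := by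
    have h := Subgroup.card_dvd_of_le (inf_le_right : C ⊓ K ≤ K)
    rw [hK3, Nat.dvd_prime Nat.prime_three] at h
    rcases h with h | h
    · exact Subgroup.card_eq_one.mp h
    · exact absurd ((Subgroup.eq_of_le_of_card_ge inf_le_right (by rw [h, hK3]) :
        C ⊓ K = K).ge (Subgroup.mem_zpowers k)).1 hkC
  have hMcard : Nat.card M = Nat.card C * 3 := by
    have h := Coprime.card_sup_mul_card_inf hKn
    rw [← hM, hinf, Subgroup.card_bot, mul_one, hK3] at h
    exact h
  have hMn : M ≤ Subgroup.normalizer (C : Set G) := sup_le Subgroup.le_normalizer hKn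
  set A := Subgroup.closure ({c, k} : Set G) with hA
  have hAM : A ≤ M := (Subgroup.closure_le _).mpr (by
    intro x hx
    rcases hx with hx | hx
    · rw [hx]; exact Subgroup.mem_sup_left hcV
    · rw [Set.mem_singleton_iff.mp hx]; exact Subgroup.mem_sup_right (Subgroup.mem_zpowers k))
  have hAeq : A = Subgroup.zpowers c ⊔ K := by
    rw [hA, hK, Subgroup.zpowers_eq_closure, Subgroup.zpowers_eq_closure, ← Subgroup.closure_union,
      Set.singleton_union]
  have hKc : K ≤ Subgroup.normalizer (Subgroup.zpowers c : Set G) := by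
    refine Subgroup.zpowers_le.mpr (Subgroup.mem_normalizer_iff_map_conj_eq.mpr ?_)
    rw [MonoidHom.map_zpowers]
    show Subgroup.zpowers (k * c * k⁻¹) = _
    rw [hkc.eq, mul_inv_cancel_right]
  have hAcard : Nat.card A = 9 := by
    have h := Coprime.card_sup_mul_card_inf hKc
    have h' : Subgroup.zpowers c ⊓ K = ⊥ := eq_bot_iff.mpr fun x hx => hinf ▸
      ⟨Subgroup.zpowers_le.mpr hcV hx.1, hx.2⟩
    rw [← hAeq, h', Subgroup.card_bot, mul_one, hK3, Nat.card_zpowers,
      orderOf_eq_prime hc3 hc1] at h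
    exact h
  have hAform : ∀ y ∈ A, ∃ i l : ℕ, i < 3 ∧ l < 3 ∧ y = k ^ l * c ^ i := by
    intro y hy
    suffices ∃ i l : ℕ, y = k ^ l * c ^ i by
      obtain ⟨i, l, e⟩ := this
      exact ⟨i % 3, l % 3, Nat.mod_lt _ (by norm_num), Nat.mod_lt _ (by norm_num), by
        rw [← pow_eq_pow_mod i hc3, ← pow_eq_pow_mod l hk3]; exact e⟩
    rw [hA] at hy
    induction hy using Subgroup.closure_induction with
    | mem z hz =>
      rcases hz with hz | hz
      · exact ⟨1, 0, by rw [hz, pow_zero, one_mul, pow_one]⟩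
      · exact ⟨0, 1, by rw [Set.mem_singleton_iff.mp hz, pow_zero, mul_one, pow_one]⟩
    | one => exact ⟨0, 0, by simp⟩
    | mul u w _ _ hu hw =>
      obtain ⟨i, l, rfl⟩ := hu
      obtain ⟨i', l', rfl⟩ := hw
      refine ⟨i + i', l + l', ?_⟩
      rw [pow_add, pow_add, mul_assoc (k ^ l), ← mul_assoc (c ^ i), ← (hkc.pow_pow l' i).eq]
      simp only [mul_assoc]
    | inv u _ hu =>
      obtain ⟨i, l, rfl⟩ := hu
      refine ⟨2 * i, 2 * l, inv_eq_of_mul_eq_one_right ?_⟩
      rw [mul_assoc (k ^ l), ← mul_assoc (c ^ i), ← (hkc.pow_pow (2 * l) i).eq, mul_assoc (k ^ (2 * l)),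
        ← mul_assoc, ← pow_add, ← pow_add, show l + 2 * l = 3 * l by ring,
        show i + 2 * i = 3 * i by ring, pow_mul, pow_mul, hk3, hc3, one_pow, one_pow, one_mul]
  have hnotp : ∀ {p : ℕ}, p.Prime → 5 ≤ p → ∀ x ∈ C, orderOf x = p → ¬ Commute x c := by
    intro p hp h5 x hx ho hcm
    obtain ⟨v, hv, i, -, e⟩ := hcC x hx hcm
    have hcomm : Commute v c := Subgroup.mem_centralizer_iff.mp hcV v hv
    have h6 : x ^ 6 = 1 := by
      rw [e, (hcomm.pow_right i).mul_pow, ← pow_mul, show i * 6 = 3 * (2 * i) by ring, pow_mul c, hc3,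
        one_pow, mul_one, show (6 : ℕ) = 2 * 3 from rfl, pow_mul, pow_two, hV v hv, one_pow]
    have := Nat.le_of_dvd (by norm_num) (ho ▸ orderOf_dvd_of_pow_eq_one h6)
    interval_cases p
    · exact absurd (ho ▸ orderOf_dvd_of_pow_eq_one h6) (by norm_num)
    · exact absurd hp (by norm_num)
  -- the prime to use
  obtain ⟨p, hp, hp5, hsq, hdvd, hcase⟩ : ∃ p : ℕ, p.Prime ∧ 5 ≤ p ∧ ¬ p ^ 2 ∣ Nat.card C ∧
      p ∣ Nat.card C ∧ ((p = 5 ∧ Nat.card (C ⧸ N) = 60) ∨ (p = 7 ∧ Nat.card C = 672)) := by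
    rcases hbig with e | e
    · exact ⟨5, by norm_num, le_rfl, by rw [hcardC, e]; norm_num, by rw [hcardC, e]; norm_num,
        Or.inl ⟨rfl, e⟩⟩
    · exact ⟨7, by norm_num, by norm_num, by rw [hcardC, e]; norm_num, by rw [hcardC, e]; norm_num,
        Or.inr ⟨rfl, by rw [hcardC, e]⟩⟩
  haveI := Fact.mk hp
  obtain ⟨P⟩ := (inferInstance : Nonempty (Sylow p C))
  set Q := (P : Subgroup C).map C.subtype with hQ
  have hQcard : Nat.card Q = p := by
    rw [hQ, Subgroup.card_map_of_injective C.subtype_injective, P.card_eq_multiplicity]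
    have h1 : (Nat.card C).factorization p = 1 := by
      have h2 := (hp.pow_dvd_iff_le_factorization (k := 2) Nat.card_pos.ne').not.mp hsq
      have h3 := (hp.pow_dvd_iff_le_factorization (k := 1) Nat.card_pos.ne').mp (by simpa using hdvd)
      omega
    rw [h1, pow_one]
  have hQC : Q ≤ C := Subgroup.map_subtype_le _
  set R := Subgroup.normalizer (Q : Set G) ⊓ M with hR
  have hfrat : ∀ g ∈ M, ∃ h ∈ C, h * g ∈ R := by
    intro g hg
    have hgC := hMn hg
    have hconj : Q.map (MulAut.conj g).toMonoidHom ≤ C := by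
      rintro _ ⟨u, hu, rfl⟩
      exact (Subgroup.mem_normalizer_iff.mp hgC u).mp (hQC hu)
    let P' : Sylow p C := Sylow.ofCard ((Q.map (MulAut.conj g).toMonoidHom).subgroupOf C) (by
      rw [Nat.card_congr (Subgroup.subgroupOfEquivOfLe hconj).toEquiv,
        Subgroup.card_map_of_injective (MulAut.conj g).injective, hQ,
        Subgroup.card_map_of_injective C.subtype_injective, P.card_eq_multiplicity])
    obtain ⟨h, hh⟩ := MulAction.exists_smul_eq C P' P
    refine ⟨h, h.2, Subgroup.mem_inf.mpr ⟨?_, mul_mem (Subgroup.mem_sup_left h.2) hg⟩⟩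
    rw [Subgroup.mem_normalizer_iff_map_conj_eq]
    conv_rhs => rw [hQ, ← hh, Sylow.coe_subgroup_smul]
    ext u
    constructor
    · rintro ⟨w, hw, rfl⟩
      refine ⟨h * ⟨g * w * g⁻¹, hconj ⟨w, hw, rfl⟩⟩ * h⁻¹,
        ⟨⟨g * w * g⁻¹, hconj ⟨w, hw, rfl⟩⟩, ⟨w, hw, rfl⟩, rfl⟩, ?_⟩
      show (h : G) * (g * w * g⁻¹) * (h : G)⁻¹ = (h : G) * g * w * ((h : G) * g)⁻¹
      group
    · rintro ⟨_, ⟨v, ⟨w, hw, e⟩, rfl⟩, rfl⟩
      refine ⟨w, hw, ?_⟩
      have e' : g * w * g⁻¹ = (v : G) := e
      show (h : G) * g * w * ((h : G) * g)⁻¹ = (h : G) * (v : G) * (h : G)⁻¹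
      rw [← e']; group
  have hRC : C ⊔ R = M := le_antisymm (sup_le le_sup_left inf_le_right) fun g hg => by
    obtain ⟨h, hh, hr⟩ := hfrat g hg
    have := Subgroup.mul_mem_sup (inv_mem hh) hr
    rwa [inv_mul_cancel_left] at this
  have hRcard : Nat.card R = 3 * Nat.card ↥(C ⊓ R) := by
    have h := Coprime.card_sup_mul_card_inf ((inf_le_right : R ≤ M).trans hMn)
    rw [hRC, hMcard, mul_assoc] at h
    exact (Nat.eq_of_mul_eq_mul_left Nat.card_pos h).symm
  -- three-subgroups of `M` are conjugate into `A`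
  have h3C : (Nat.card C).factorization 3 = 1 := by
    have h2 : ¬ 3 ^ 2 ∣ Nat.card C := by
      rcases hbig with e | e <;> rw [hcardC, e] <;> norm_num
    have h2' := (Nat.prime_three.pow_dvd_iff_le_factorization (k := 2) Nat.card_pos.ne').not.mp h2
    have h3 : 3 ^ 1 ∣ Nat.card C := by
      rcases hbig with e | e <;> rw [hcardC, e] <;> norm_num
    have h3' := (Nat.prime_three.pow_dvd_iff_le_factorization (k := 1) Nat.card_pos.ne').mp h3
    omega
  have hconjA : ∀ T : Subgroup G, T ≤ M → IsPGroup 3 T → ∃ g ∈ M, ∀ t ∈ T, g * t * g⁻¹ ∈ A := by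
    intro T hTM hT
    let PA : Sylow 3 M := Sylow.ofCard (A.subgroupOf M) (by
      rw [Nat.card_congr (Subgroup.subgroupOfEquivOfLe hAM).toEquiv, hAcard, hMcard,
        Nat.factorization_mul Nat.card_pos.ne' (by norm_num), Finsupp.add_apply, h3C,
        Nat.Prime.factorization_self Nat.prime_three]
      norm_num)
    obtain ⟨T', hT'⟩ := (hT.comap_of_injective M.subtype M.subtype_injective).exists_le_sylow
    obtain ⟨g, hg⟩ := MulAction.exists_smul_eq M T' PA
    refine ⟨g, g.2, fun t ht => ?_⟩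
    have hm : g * ⟨t, hTM ht⟩ * g⁻¹ ∈ ((g • T' : Sylow 3 M) : Subgroup M) := by
      rw [Sylow.coe_subgroup_smul]
      exact ⟨⟨t, hTM ht⟩, hT' (Subgroup.mem_comap.mpr ht), rfl⟩
    rw [hg] at hm
    exact Subgroup.mem_subgroupOf.mp hm
  have hmove : ∀ g ∈ M, (Q.map (MulAut.conj g).toMonoidHom) ≤ C := fun g hg => by
    rintro _ ⟨u, hu, rfl⟩
    exact (Subgroup.mem_normalizer_iff.mp (hMn hg) u).mp (hQC hu)
  have hfinal : ∀ x ∈ C, orderOf x = p → ∀ l i : ℕ, l < 3 → Commute x (k ^ l * c ^ i) → l ≠ 0 →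
      ∃ x ∈ C, ∃ i < 3, Commute x (k * c ^ i) ∧
        (orderOf x = 7 ∨ (orderOf x = 5 ∧ Nat.card C = 240 ∧ ∀ g ∈ C, g ^ 4 = 1 → g ^ 2 ∈ V)) := by
    intro x hx ho l i hl hcm hl0
    have hmod : ∀ m : ℕ, c ^ m = c ^ (m % 3) := fun m => pow_eq_pow_mod m hc3
    refine ⟨x, hx, (i * l) % 3, Nat.mod_lt _ (by norm_num), ?_, ?_⟩
    · have h := hcm.pow_right l
      rw [(hkc.pow_pow l i).mul_pow, ← pow_mul, ← pow_mul, hmod] at h
      rwa [pow_eq_pow_mod (l * l) hk3, show l * l % 3 = 1 by interval_cases l <;> omega, pow_one] at h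
    · rcases hcase with ⟨rfl, h60⟩ | ⟨rfl, -⟩
      · refine Or.inr ⟨ho, by rw [hcardC, h60], fun g hg h4 => ?_⟩
        obtain ⟨e5⟩ := Cfsg.Agent.S0494.result (G := C ⧸ N) h60
        have h := alt5_four (e5 (π ⟨g, hg⟩)) (by
          rw [← map_mul, ← map_mul, ← map_mul, ← map_mul, show (⟨g, hg⟩ : C) * ⟨g, hg⟩ *
            (⟨g, hg⟩ * ⟨g, hg⟩) = 1 from Subtype.ext (by
              show g * g * (g * g) = 1
              rw [show g * g * (g * g) = g ^ 4 by simp only [pow_succ, pow_zero, one_mul, mul_assoc]]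
              exact h4), map_one, map_one])
        rw [← map_mul, ← map_mul, EmbeddingLike.map_eq_one_iff] at h
        have := Subgroup.mem_subgroupOf.mp ((QuotientGroup.eq_one_iff _).mp h)
        rw [pow_two]; exact this
      · exact Or.inl ho
  rcases hcase with ⟨rfl, h60⟩ | ⟨rfl, h672⟩
  · -- `p = 5`
    have h3R : 3 ∣ Nat.card R := ⟨_, hRcard⟩
    obtain ⟨s, hs⟩ := exists_prime_orderOf_dvd_card' (G := R) 3 h3R
    rw [← Subgroup.orderOf_coe] at hs
    have hs3 : (s : G) ^ 3 = 1 := hs ▸ pow_orderOf_eq_one _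
    obtain ⟨hsN, hsM⟩ := Subgroup.mem_inf.mp s.2
    obtain ⟨g, hg, hgA⟩ := hconjA (Subgroup.zpowers (s : G)) (Subgroup.zpowers_le.mpr hsM)
      (IsPGroup.of_card (n := 1) (by rw [Nat.card_zpowers, hs, pow_one]))
    obtain ⟨x, hx, hx1⟩ := Q.bot_or_exists_ne_one.resolve_left (fun e => by
      rw [e, Subgroup.card_bot] at hQcard; norm_num at hQcard)
    obtain ⟨j, hj, hj3⟩ := exists_exponent hQcard hx hx1 hsN hs3
    have hxp : x ^ 5 = 1 := by
      have h := congrArg Subtype.val (pow_card_eq_one' (x := (⟨x, hx⟩ : Q)))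
      rwa [hQcard] at h
    have hcm := commute_of_exponent hj (cube_roots_five j hj3)
    obtain ⟨i, l, hi, hl, e⟩ := hAform _ (hgA s (Subgroup.mem_zpowers _))
    have hxC : g * x * g⁻¹ ∈ C := hmove g hg ⟨x, hx, rfl⟩
    have ho : orderOf (g * x * g⁻¹) = 5 := by
      rw [← MulAut.conj_apply, MulEquiv.orderOf_eq]
      exact orderOf_eq_prime hxp hx1
    have hcm' : Commute (g * x * g⁻¹) (k ^ l * c ^ i) := by
      rw [← e]
      show g * x * g⁻¹ * (g * (s : G) * g⁻¹) = g * (s : G) * g⁻¹ * (g * x * g⁻¹)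
      rw [conj_mul, conj_mul, hcm.eq]
    refine hfinal _ hxC ho l i hl hcm' ?_
    rintro rfl
    rw [pow_zero, one_mul] at hcm'
    refine hnotp hp (by norm_num) _ hxC ho ?_
    interval_cases i
    · exfalso
      have : (s : G) = 1 := by
        rw [pow_zero, pow_zero, one_mul] at e
        exact conj_eq_one_iff.mp e
      rw [this, orderOf_one] at hs; norm_num at hs
    · rwa [pow_one] at hcm'
    · have h := hcm'.pow_right 2
      rwa [← pow_mul, pow_eq_pow_mod _ hc3, pow_one] at h
  · -- `p = 7`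
    have h3RC : 3 ∣ Nat.card ↥(C ⊓ R) := by
      by_contra hnd
      set NC := Subgroup.normalizer (P : Set C) with hNC
      have hn := P.card_eq_index_normalizer
      have hmod := card_sylow_modEq_one 7 C
      rw [hn] at hmod
      have hidx := (P : Subgroup C).index_dvd_of_le (K := NC) Subgroup.le_normalizer
      have hP7 : Nat.card (P : Subgroup C) = 7 := by
        rw [← Subgroup.card_map_of_injective C.subtype_injective]; exact hQcard
      have hPi : (P : Subgroup C).index = 96 := by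
        have h := (P : Subgroup C).card_mul_index
        rw [hP7, h672] at h; omega
      rw [hPi] at hidx
      have hle : NC.map C.subtype ≤ C ⊓ R := by
        rintro _ ⟨u, hu, rfl⟩
        refine Subgroup.mem_inf.mpr ⟨u.2, Subgroup.mem_inf.mpr ⟨?_, Subgroup.mem_sup_left u.2⟩⟩
        rw [Subgroup.mem_normalizer_iff_map_conj_eq]
        refine Subgroup.eq_of_le_of_card_ge ?_ (le_of_eq
          (Subgroup.card_map_of_injective (MulAut.conj _).injective).symm)
        rintro _ ⟨_, ⟨w, hw, rfl⟩, rfl⟩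
        exact ⟨u * w * u⁻¹, (Subgroup.mem_normalizer_iff.mp hu w).mp hw, rfl⟩
      have hnd' : ¬ 3 ∣ Nat.card NC := fun h => hnd (h.trans (by
        rw [← Subgroup.card_map_of_injective C.subtype_injective]
        exact Subgroup.card_dvd_of_le hle))
      have h672' := NC.card_mul_index
      rw [h672] at h672'
      have h3i : 3 ∣ NC.index := by
        have : 3 ∣ Nat.card NC * NC.index := by rw [h672']; norm_num
        exact (Nat.prime_three.dvd_mul.mp this).resolve_left hnd'
      obtain ⟨m, hm⟩ := h3i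
      rw [hm] at hidx hmod
      have hm96 : m ≤ 32 := by
        have := Nat.le_of_dvd (by norm_num) hidx
        omega
      have hmod' : 3 * m % 7 = 1 := hmod
      interval_cases m <;> omega
    have h9 : 3 ^ 2 ∣ Nat.card R := by
      rw [hRcard, pow_two]; exact Nat.mul_dvd_mul_left 3 h3RC
    obtain ⟨T, hT⟩ := Sylow.exists_subgroup_card_pow_prime 3 h9
    have hTR : T.map R.subtype ≤ R := Subgroup.map_subtype_le _
    obtain ⟨g, hg, hgA⟩ := hconjA (T.map R.subtype) (hTR.trans inf_le_right)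
      ((IsPGroup.of_card hT).map _)
    set Q' := Q.map (MulAut.conj g).toMonoidHom with hQ'
    have hTA : (T.map R.subtype).map (MulAut.conj g).toMonoidHom = A := by
      refine Subgroup.eq_of_le_of_card_ge ?_ ?_
      · rintro _ ⟨t, ht, rfl⟩; exact hgA t ht
      · rw [Subgroup.card_map_of_injective (MulAut.conj g).injective,
          Subgroup.card_map_of_injective R.subtype_injective, hT, hAcard]
        norm_num
    have hAnorm : A ≤ Subgroup.normalizer (Q' : Set G) := by
      rw [← hTA, hQ']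
      rintro _ ⟨t, ht, rfl⟩
      rw [← Subgroup.map_normalizer_eq_of_bijective Q (f := (MulAut.conj g).toMonoidHom) (MulAut.conj g).bijective]
      exact ⟨t, (Subgroup.mem_inf.mp (hTR ht)).1, rfl⟩
    have hQ'card : Nat.card Q' = 7 :=
      (Subgroup.card_map_of_injective (MulAut.conj g).injective).trans hQcard
    obtain ⟨x, hx, hx1⟩ := Q'.bot_or_exists_ne_one.resolve_left (fun e => by
      rw [e, Subgroup.card_bot] at hQ'card; norm_num at hQ'card)
    have hxC : x ∈ C := hmove g hg hx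
    have hxp : x ^ 7 = 1 := by
      have h := congrArg Subtype.val (pow_card_eq_one' (x := (⟨x, hx⟩ : Q')))
      rwa [hQ'card] at h
    have ho : orderOf x = 7 := orderOf_eq_prime hxp hx1
    obtain ⟨jk, hjk, hjk3⟩ := exists_exponent hQ'card hx hx1
      (hAnorm (Subgroup.subset_closure (by simp))) hk3
    obtain ⟨jc, hjc, hjc3⟩ := exists_exponent hQ'card hx hx1
      (hAnorm (Subgroup.subset_closure (by simp))) hc3
    have hjc1 : jc ≠ 1 := fun h => hnotp hp (by norm_num) x hxC ho (commute_of_exponent hjc h)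
    have hxo : ∀ a b : ZMod 7, (x ^ a.val) ^ b.val = x ^ (a * b).val := fun a b => by
      rw [← pow_mul, pow_eq_pow_mod (a.val * b.val) hxp, ← ZMod.val_mul]
    have hcomp : (k * c) * x * (k * c)⁻¹ = x ^ (jk * jc).val := by
      rw [show k * c * x * (k * c)⁻¹ = k * (c * x * c⁻¹) * k⁻¹ by group, hjc, ← conj_pow, hjk, hxo]
    have hcomp2 : (k * c ^ 2) * x * (k * c ^ 2)⁻¹ = x ^ (jk * (jc * jc)).val := by
      rw [show k * c ^ 2 * x * (k * c ^ 2)⁻¹ = k * (c * (c * x * c⁻¹) * c⁻¹) * k⁻¹ by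
        rw [pow_two]; group, hjc, ← conj_pow, hjc, hxo, ← conj_pow, hjk, hxo]
    rcases cube_roots_seven jk jc hjk3 hjc3 hjc1 with h | h | h
    · refine hfinal x hxC ho 1 0 (by norm_num) ?_ one_ne_zero
      rw [pow_one, pow_zero, mul_one]; exact commute_of_exponent hjk h
    · refine hfinal x hxC ho 1 1 (by norm_num) ?_ one_ne_zero
      rw [pow_one, pow_one]; exact commute_of_exponent hcomp h
    · refine hfinal x hxC ho 1 2 (by norm_num) ?_ one_ne_zero
      rw [pow_one]; exact commute_of_exponent hcomp2 h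

end CfsgLib.AltNineThree
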