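import Cfsg.Agent.Lib.AltNineThree.Comp
import Cfsg.Agent.Lib.AltNineThree.FourLocal
import Cfsg.Agent.Lib.AltNineThree.CentPairs
import Cfsg.Agent.Lib.Coprime.Generation

/-!
The centralizers of the two four groups of the component.
-/

set_option autoImplicit false
set_option linter.unusedSectionVars false
set_option linter.style.haveILetI false
set_option maxRecDepth 20000

namespace CfsgLib.AltNineThree

open E9 A6
open Equiv

namespace A6

theorem inv_of_sq {x : A6} (h : x * x = 1) : x⁻¹ = x := inv_eq_of_mul_eq_one_right h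

/-- `⟨(23)(45),(25)(34)⟩`. -/
def V2 : Subgroup A6 where
  carrier := {x | inTwo x}
  one_mem' := Or.inl rfl
  mul_mem' := fun {x y} hx hy => (two_mul_mem x hx y hy).1
  inv_mem' := fun {x} hx => by
    show inTwo x⁻¹
    rw [inv_of_sq (two_mul_mem x hx x hx).2.1]; exact hx

/-- `⟨(01)(34),(25)(34)⟩`. -/
def VB : Subgroup A6 where
  carrier := {x | inB x}
  one_mem' := Or.inl rfl
  mul_mem' := fun {x y} hx hy => (b_mul_mem x hx y hy).1
  inv_mem' := fun {x} hx => by
    show inB x⁻¹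
    rw [inv_of_sq (b_mul_mem x hx x hx).2.1]; exact hx

theorem card_fours : Nat.card V2 = 4 ∧ Nat.card VB = 4 := by
  have h : Fintype.card {x : A6 // inTwo x} = 4 ∧ Fintype.card {x : A6 // inB x} = 4 := by
    decide +kernel
  classical
  exact ⟨(Nat.card_congr (Equiv.subtypeEquivRight fun x => Iff.rfl :
      V2 ≃ {x : A6 // inTwo x})).trans (Nat.card_eq_fintype_card.trans h.1),
    (Nat.card_congr (Equiv.subtypeEquivRight fun x => Iff.rfl :
      VB ≃ {x : A6 // inB x})).trans (Nat.card_eq_fintype_card.trans h.2)⟩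

end A6

namespace Comp

variable {G : Type*} [Group G] [Finite G] {S : Setup G} (P : Comp S)

/-- Conjugates of local centralizers. -/
theorem conj_range {j : E9} (hj : Subgroup.centralizer ({S.Φ j} : Set G) ≤ S.Φ.range) {x g : G}
    (hx : Commute x (g * S.Φ j * g⁻¹)) : ∃ e : E9, x = g * S.Φ e * g⁻¹ := by
  obtain ⟨e, he⟩ := hj (show g⁻¹ * x * g ∈ _ from Subgroup.mem_centralizer_singleton_iff.mpr (by
    calc g⁻¹ * x * g * S.Φ j = g⁻¹ * (x * (g * S.Φ j * g⁻¹)) * g := by group
      _ = g⁻¹ * (g * S.Φ j * g⁻¹ * x) * g := by rw [hx.eq]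
      _ = _ := by group))
  exact ⟨e, by rw [he]; group⟩

/-- No elements of order five or seven in conjugates of local centralizers. -/
theorem no_five_seven {j : E9} (hj : Subgroup.centralizer ({S.Φ j} : Set G) ≤ S.Φ.range) {x g : G}
    (hx : Commute x (g * S.Φ j * g⁻¹)) : orderOf x ≠ 5 ∧ orderOf x ≠ 7 := by
  obtain ⟨e, rfl⟩ := conj_range hj hx
  rw [← MulAut.conj_apply, MulEquiv.orderOf_eq, orderOf_injective S.Φ S.inj]
  have h := orderOf_dvd_natCard e
  rw [E9.card_eq] at h
  obtain ⟨-, -, -, -, -, -, h5, h7⟩ := act_facts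
  exact ⟨fun e => h5 (e ▸ h), fun e => h7 (e ▸ h)⟩

/-- Elements of a `3'`-group normalized by `(678)` in such centralizers commute with `(678)`. -/
theorem commute_of_local {j : E9} (hj : Subgroup.centralizer ({S.Φ j} : Set G) ≤ S.Φ.range)
    {W : Subgroup G} (hW3 : ¬ 3 ∣ Nat.card W) (hcW : P.c ∈ Subgroup.normalizer (W : Set G))
    {x g : G} (hg : Commute g P.c) (hxW : x ∈ W) (hx : Commute x (g * S.Φ j * g⁻¹)) :
    Commute x P.c := by
  obtain ⟨e, rfl⟩ := conj_range hj hx
  obtain ⟨-, -, -, -, -, hJ, -⟩ := act_facts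
  set x := g * S.Φ e * g⁻¹ with hxdef
  have hq : cE * e * cE⁻¹ * e⁻¹ ∈ JE := mem_JE.mpr (by
    rw [code_mul, code_conj, code_inv, code_named.2.2.1]; exact all_spec hJ e)
  have hconj : P.c * x * P.c⁻¹ * x⁻¹ = g * S.Φ (cE * e * cE⁻¹ * e⁻¹) * g⁻¹ := by
    simp only [map_mul, map_inv]
    show P.c * x * P.c⁻¹ * x⁻¹ = g * (P.c * S.Φ e * P.c⁻¹ * (S.Φ e)⁻¹) * g⁻¹
    rw [hxdef]
    calc P.c * (g * S.Φ e * g⁻¹) * P.c⁻¹ * (g * S.Φ e * g⁻¹)⁻¹
        = (P.c * g) * S.Φ e * (P.c * g)⁻¹ * (g * (S.Φ e)⁻¹ * g⁻¹) := by group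
      _ = (g * P.c) * S.Φ e * (g * P.c)⁻¹ * (g * (S.Φ e)⁻¹ * g⁻¹) := by rw [hg.eq]
      _ = _ := by group
  have hmem : P.c * x * P.c⁻¹ * x⁻¹ ∈ W :=
    mul_mem ((Subgroup.mem_normalizer_iff.mp hcW x).mp hxW) (inv_mem hxW)
  have hone : P.c * x * P.c⁻¹ * x⁻¹ = 1 := by
    have h3 : (P.c * x * P.c⁻¹ * x⁻¹) ^ 3 = 1 := by
      rw [hconj, conj_pow, S.J_cube (S.Φ_mem_J.mpr hq), mul_one, mul_inv_cancel]
    rcases (Nat.dvd_prime Nat.prime_three).mp (orderOf_dvd_of_pow_eq_one h3) with h | h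
    · exact orderOf_eq_one_iff.mp h
    · exact absurd (h ▸ Subgroup.orderOf_dvd_natCard W hmem) hW3
  have := mul_inv_eq_one.mp hone
  exact (mul_inv_eq_iff_eq_mul.mp this).symm

theorem two_local {n : ℕ} {i : ℕ} (hn : n < 648) (hi : i < 3)
    (h : two (mulC n (List.getD [0, 9, 18] i 0)) = true) :
    Subgroup.centralizer ({S.Φ (mk' n * cE ^ i)} : Set G) ≤ S.Φ.range := by
  refine S.cent_two ?_
  rw [code_mul, code_mk hn]
  interval_cases i
  · rw [pow_zero, code_one]; exact h
  · rw [pow_one, code_named.2.2.1]; exact h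
  · rw [pow_two, code_mul, code_named.2.2.1, act_facts.2.2.2.1.1]; exact h

/-- The general reduction for a four group of the component. -/
theorem four_group (V6 : Subgroup A6) (h4 : Nat.card V6 = 4) (hsq : ∀ v ∈ V6, v * v = 1)
    (hcent : ∀ y : A6, (∀ v ∈ V6, y * v = v * y) → y ∈ V6)
    (k : G) (hk3 : k ^ 3 = 1) (hkc : Commute k P.c) (hkn : k ∉ Subgroup.zpowers P.c)
    (hkV : ∀ v ∈ V6, ∃ w ∈ V6, k * P.ψ v * k⁻¹ = P.ψ w)
    (hfix : ∀ W : Subgroup G, W ≤ Subgroup.centralizer ((V6.map P.ψ : Subgroup G) : Set G) →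
      Subgroup.normalizer ((Subgroup.centralizer ((V6.map P.ψ : Subgroup G) : Set G) : Subgroup G) : Set G) ≤
        Subgroup.normalizer (W : Set G) → ¬ 3 ∣ Nat.card W →
      ∀ x ∈ W, ∀ i < 3, Commute x (k * P.c ^ i) →
        Commute x P.c ∨ x ∈ V6.map P.ψ) :
    (Nat.card (Subgroup.centralizer ((V6.map P.ψ : Subgroup G) : Set G)) ∣ 24 ∧
      ∀ x ∈ Subgroup.centralizer ((V6.map P.ψ : Subgroup G) : Set G), x ^ 3 = 1 →
        x ∈ Subgroup.zpowers P.c) ∨
    ∃ x ∈ Subgroup.centralizer ((V6.map P.ψ : Subgroup G) : Set G), ∃ i < 3,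
      Commute x (k * P.c ^ i) ∧ (orderOf x = 7 ∨ (orderOf x = 5 ∧
        Nat.card (Subgroup.centralizer ((V6.map P.ψ : Subgroup G) : Set G)) = 240 ∧
        ∀ g ∈ Subgroup.centralizer ((V6.map P.ψ : Subgroup G) : Set G), g ^ 4 = 1 →
          g ^ 2 ∈ V6.map P.ψ)) := by
  classical
  haveI := Fact.mk Nat.prime_three
  set V := V6.map P.ψ with hV
  set C := Subgroup.centralizer (V : Set G) with hC
  have hVsq : ∀ v ∈ V, v * v = 1 := by
    rintro _ ⟨v, hv, rfl⟩; rw [← map_mul, hsq v hv, map_one]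
  have hV4 : Nat.card V = 4 := (Subgroup.card_map_of_injective P.inj).trans h4
  have hcC : P.c ∈ C := Subgroup.mem_centralizer_iff.mpr (by
    rintro _ ⟨v, -, rfl⟩; exact (P.comm_c v).eq)
  have hkN : k ∈ Subgroup.normalizer (V : Set G) := by
    rw [Subgroup.mem_normalizer_iff_map_conj_eq]
    refine Subgroup.eq_of_le_of_card_ge ?_ (le_of_eq
      (Subgroup.card_map_of_injective (MulAut.conj k).injective).symm)
    rintro _ ⟨_, ⟨v, hv, rfl⟩, rfl⟩
    obtain ⟨w, hw, e⟩ := hkV v hv
    exact ⟨w, hw, e.symm⟩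
  have hkC : k ∈ Subgroup.normalizer (C : Set G) := by
    rw [Subgroup.mem_normalizer_iff_map_conj_eq]
    refine Subgroup.eq_of_le_of_card_ge ?_ (le_of_eq
      (Subgroup.card_map_of_injective (MulAut.conj k).injective).symm)
    rintro _ ⟨g, hg, rfl⟩
    rw [hC, Subgroup.mem_centralizer_iff]
    intro v hv
    have hv' := (Subgroup.mem_normalizer_iff.mp (inv_mem hkN) v).mp hv
    have := Subgroup.mem_centralizer_iff.mp hg _ hv'
    show v * (k * g * k⁻¹) = k * g * k⁻¹ * v
    calc v * (k * g * k⁻¹) = k * (k⁻¹ * v * k⁻¹⁻¹ * g) * k⁻¹ := by group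
      _ = k * (g * (k⁻¹ * v * k⁻¹⁻¹)) * k⁻¹ := by rw [this]
      _ = _ := by group
  have hcC' : ∀ x ∈ C, Commute x P.c → ∃ v ∈ V, ∃ i < 3, x = v * P.c ^ i := by
    intro x hx hxc
    obtain ⟨y, i, hi, rfl⟩ := P.exists_coord hxc
    refine ⟨P.ψ y, ⟨y, hcent y fun v hv => P.inj ?_, rfl⟩, i, hi, rfl⟩
    have h := Subgroup.mem_centralizer_iff.mp hx _ ⟨v, hv, rfl⟩
    have hc := ((P.comm_c v).pow_right i).eq
    rw [mul_assoc, ← hc, ← mul_assoc, ← mul_assoc] at h
    rw [map_mul, map_mul]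
    exact (mul_right_cancel h).symm
  refine four_local V hVsq hV4 P.c_cube P.c_ne hcC hk3 hkc hkn hkN hcC' fun W hWC hWn hW3 => ?_
  -- reduce to the core of `C`
  set O := Cfsg.pPrimeCore 3 C with hO
  set W0 := O.map C.subtype with hW0
  have hW0C : W0 ≤ C := Subgroup.map_subtype_le _
  have hW03 : ¬ 3 ∣ Nat.card W0 := by
    rw [hW0, Subgroup.card_map_of_injective C.subtype_injective]
    intro hd
    have := Nat.eq_one_of_dvd_coprimes (SelfCent.pPrimeCore_coprime (G := C) 3) hd (dvd_refl 3)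
    norm_num at this
  have hto : ∀ U : Subgroup G, U ≤ C → C ≤ Subgroup.normalizer (U : Set G) → ¬ 3 ∣ Nat.card U →
      U ≤ W0 := by
    intro U hUC hUn hU3
    haveI : (U.subgroupOf C).Normal := Subgroup.normal_subgroupOf_of_le_normalizer hUn
    have h := SelfCent.le_pPrimeCore (p := 3) (inferInstance : (U.subgroupOf C).Normal) (by
      rw [Nat.card_congr (Subgroup.subgroupOfEquivOfLe hUC).toEquiv]
      exact (Nat.prime_three.coprime_iff_not_dvd.mpr hU3).symm)
    exact fun u hu => ⟨⟨u, hUC hu⟩, h hu, rfl⟩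
  refine (hto W hWC hWn hW3).trans ?_
  have hVC : V ≤ C := by
    intro v hv
    refine Subgroup.mem_centralizer_iff.mpr fun u hu => ?_
    have := hVsq _ (mul_mem hu hv)
    calc u * v = (u * v)⁻¹ := (inv_eq_of_mul_eq_one_right this).symm
      _ = v * u := by
        rw [mul_inv_rev, inv_eq_of_mul_eq_one_right (hVsq u hu), inv_eq_of_mul_eq_one_right (hVsq v hv)]
  have hVW0 : V ≤ W0 := hto V hVC (fun g hg => by
    rw [Subgroup.mem_normalizer_iff]
    intro v
    constructor
    · intro hv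
      rw [← Subgroup.mem_centralizer_iff.mp hg v hv, mul_inv_cancel_right]; exact hv
    · intro hv
      have h := Subgroup.mem_centralizer_iff.mp hg _ hv
      have e : v = g * v * g⁻¹ := by
        calc v = g⁻¹ * (g * v * g⁻¹ * g) := by group
          _ = g⁻¹ * (g * (g * v * g⁻¹)) := by rw [h]
          _ = _ := by group
      rw [e]; exact hv) (by rw [hV4]; norm_num)
  have hnorm : Subgroup.normalizer (C : Set G) ≤ Subgroup.normalizer (W0 : Set G) := by
    intro g hg
    rw [Subgroup.mem_normalizer_iff_map_conj_eq]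
    set U := W0.map (MulAut.conj g).toMonoidHom with hU
    refine Subgroup.eq_of_le_of_card_ge (hto U ?_ ?_ ?_) (le_of_eq
      (Subgroup.card_map_of_injective (MulAut.conj g).injective).symm)
    · rintro _ ⟨u, hu, rfl⟩
      exact (Subgroup.mem_normalizer_iff.mp hg u).mp (hW0C hu)
    · intro y hy
      have hy' : g⁻¹ * y * g ∈ C := by
        have := (Subgroup.mem_normalizer_iff.mp (inv_mem hg) y).mp hy
        rwa [inv_inv] at this
      rw [Subgroup.mem_normalizer_iff_map_conj_eq]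
      refine Subgroup.eq_of_le_of_card_ge ?_ (le_of_eq
        (Subgroup.card_map_of_injective (MulAut.conj y).injective).symm)
      rintro _ ⟨_, ⟨_, ⟨u, hu, rfl⟩, rfl⟩, rfl⟩
      haveI : O.Normal := SelfCent.pPrimeCore_normal' 3
      refine ⟨((⟨g⁻¹ * y * g, hy'⟩ : C) * u * (⟨g⁻¹ * y * g, hy'⟩ : C)⁻¹ : C),
        ⟨_, (inferInstance : O.Normal).conj_mem _ hu _, rfl⟩, ?_⟩
      show g * ((g⁻¹ * y * g) * (u : G) * (g⁻¹ * y * g)⁻¹) * g⁻¹ = y * (g * (u : G) * g⁻¹) * y⁻¹
      group
    · rw [hU, Subgroup.card_map_of_injective (MulAut.conj g).injective]; exact hW03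
  set A := Subgroup.closure ({P.c, k} : Set G) with hA
  have hgen : ∀ x ∈ ({P.c, k} : Set G), ∀ y ∈ ({P.c, k} : Set G), x * y = y * x := by
    intro x hx y hy
    rcases hx with hx | hx <;> rcases hy with hy | hy <;>
      (try rw [Set.mem_singleton_iff] at hx) <;> (try rw [Set.mem_singleton_iff] at hy) <;> subst hx hy
    exacts [rfl, hkc.symm.eq, hkc.eq, rfl]
  haveI : IsMulCommutative A := Subgroup.isMulCommutative_closure hgen
  have hform : ∀ y ∈ A, ∃ i l : ℕ, y = k ^ l * P.c ^ i := by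
    intro y hy
    rw [hA] at hy
    induction hy using Subgroup.closure_induction with
    | mem z hz =>
      rcases hz with hz | hz
      · exact ⟨1, 0, by rw [hz, pow_zero, one_mul, pow_one]⟩
      · exact ⟨0, 1, by rw [Set.mem_singleton_iff.mp hz, pow_zero, mul_one, pow_one]⟩
    | one => exact ⟨0, 0, by simp⟩
    | mul u w _ _ hu hw =>
      obtain ⟨i, l, rfl⟩ := hu
      obtain ⟨i', l', rfl⟩ := hw
      refine ⟨i + i', l + l', ?_⟩
      rw [pow_add, pow_add, mul_assoc (k ^ l), ← mul_assoc (P.c ^ i), ← (hkc.pow_pow l' i).eq]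
      simp only [mul_assoc]
    | inv u _ hu =>
      obtain ⟨i, l, rfl⟩ := hu
      refine ⟨2 * i, 2 * l, inv_eq_of_mul_eq_one_right ?_⟩
      rw [mul_assoc (k ^ l), ← mul_assoc (P.c ^ i), ← (hkc.pow_pow (2 * l) i).eq,
        mul_assoc (k ^ (2 * l)), ← mul_assoc, ← pow_add, ← pow_add, show l + 2 * l = 3 * l by ring,
        show i + 2 * i = 3 * i by ring, pow_mul, pow_mul, hk3, P.c_cube, one_pow, one_pow, one_mul]
  have hcube : ∀ a ∈ A, a ^ 3 = 1 := by
    intro a ha
    obtain ⟨i, l, rfl⟩ := hform a ha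
    rw [(hkc.pow_pow l i).mul_pow, ← pow_mul, ← pow_mul, mul_comm l, mul_comm i, pow_mul, pow_mul,
      hk3, P.c_cube, one_pow, one_pow, one_mul]
  have hAc : ¬ IsCyclic A := by
    refine CfsgLib.Coprime.not_isCyclic_of_exponent hcube (by norm_num) ?_
    have hlt : Subgroup.zpowers P.c < A :=
      lt_of_le_of_ne (Subgroup.zpowers_le.mpr (Subgroup.subset_closure (by simp))) fun e =>
        hkn (e ▸ Subgroup.subset_closure (by simp))
    have h := Subgroup.card_dvd_of_le hlt.le
    rw [Nat.card_zpowers, orderOf_eq_prime P.c_cube P.c_ne] at h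
    rcases lt_or_ge 3 (Nat.card A) with h' | h'
    · exact h'
    · exact absurd (Subgroup.eq_of_le_of_card_ge hlt.le (by
        rw [Nat.card_zpowers, orderOf_eq_prime P.c_cube P.c_ne]; exact h')) hlt.ne
  have hAp : IsPGroup 3 A := fun g => ⟨1, Subtype.ext (by simpa using hcube g g.2)⟩
  have hcop : (Nat.card A).Coprime (Nat.card W0) := by
    obtain ⟨n, hn⟩ := hAp.exists_card_eq
    rw [hn]
    exact (Nat.prime_three.coprime_iff_not_dvd.mpr hW03).pow_left n
  have hAN : A ≤ Subgroup.normalizer (W0 : Set G) := (Subgroup.closure_le _).mpr (by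
    intro x hx
    rcases hx with hx | hx
    · rw [hx]; exact hnorm (Subgroup.le_normalizer hcC)
    · rw [Set.mem_singleton_iff.mp hx]; exact hnorm hkC)
  refine CfsgLib.Coprime.le_of_centralizer_le hAc hAN hcop ?_
  intro a ha ha1 x hx
  obtain ⟨hxW, hxa⟩ := Subgroup.mem_inf.mp hx
  have hxa' : Commute x a := (Subgroup.mem_centralizer_singleton_iff.mp hxa)
  have hcase : Commute x P.c → x ∈ V := by
    intro hxc
    obtain ⟨v, hv, i, hi, e⟩ := hcC' x (hW0C hxW) hxc
    have hci : P.c ^ i ∈ W0 := by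
      have := mul_mem (inv_mem (hVW0 hv)) hxW
      rwa [e, inv_mul_cancel_left] at this
    rcases (Nat.dvd_prime Nat.prime_three).mp (orderOf_dvd_of_pow_eq_one (x := P.c ^ i) (n := 3) (by
      rw [← pow_mul, mul_comm, pow_mul, P.c_cube, one_pow])) with h | h
    · rw [e, orderOf_eq_one_iff.mp h, mul_one]; exact hv
    · exact absurd (h ▸ Subgroup.orderOf_dvd_natCard W0 hci) hW03
  obtain ⟨i, l, rfl⟩ := hform a ha
  rw [pow_eq_pow_mod i P.c_cube, pow_eq_pow_mod l hk3] at hxa' ha1
  have hlt : l % 3 < 3 := Nat.mod_lt _ (by norm_num)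
  have hit : i % 3 < 3 := Nat.mod_lt _ (by norm_num)
  by_cases hl0 : l % 3 = 0
  · rw [hl0, pow_zero, one_mul] at hxa' ha1
    refine hcase ?_
    interval_cases hi : i % 3
    · exact absurd (pow_zero _) ha1
    · rwa [pow_one] at hxa'
    · have h := hxa'.pow_right 2
      rwa [← pow_mul, pow_eq_pow_mod _ P.c_cube, pow_one] at h
  · have h := hxa'.pow_right (l % 3)
    rw [(hkc.pow_pow _ _).mul_pow, ← pow_mul, ← pow_mul, pow_eq_pow_mod (i % 3 * (l % 3)) P.c_cube,
      pow_eq_pow_mod (l % 3 * (l % 3)) hk3,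
      show l % 3 * (l % 3) % 3 = 1 by interval_cases hl : l % 3 <;> omega, pow_one] at h
    rcases hfix W0 hW0C hnorm hW03 x hxW _ (Nat.mod_lt _ (by norm_num)) h with h' | h'
    · exact hcase h'
    · exact h'

/-- The four group with three transpositions has a small centralizer. -/
theorem vb_small : Nat.card (Subgroup.centralizer ((VB.map P.ψ : Subgroup G) : Set G)) ∣ 24 ∧
    ∀ x ∈ Subgroup.centralizer ((VB.map P.ψ : Subgroup G) : Set G), x ^ 3 = 1 →
      x ∈ Subgroup.zpowers P.c := by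
  classical
  obtain ⟨hk, hka, ⟨y, hy⟩, -⟩ := elems
  have hkc : Commute (P.ψ kA) P.c := P.comm_c kA
  have hloc : ∀ i < 3, Subgroup.centralizer ({S.Φ (mk' 4 * cE ^ i)} : Set G) ≤ S.Φ.range :=
    fun i hi => two_local (by norm_num) hi
      (List.all_eq_true.mp act_facts.2.2.2.2.1.2 i (List.mem_range.mpr hi))
  have hform : ∀ i : ℕ, P.ψ kA * P.c ^ i = P.ψ y * S.Φ (mk' 4 * cE ^ i) * (P.ψ y)⁻¹ := by
    intro i
    rw [map_mul, map_pow, ← hy, map_mul, map_mul, map_inv, map_mul,
      show S.Φ (mk' 4) = S.Φ aE * S.Φ bE by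
        rw [← map_mul]
        refine (Φ_code ?_).symm
        rw [code_mul, code_named.1, code_named.2.1]; decide +kernel, P.ha, P.hb]
    have hcm := ((P.comm_c y).inv_left.pow_right i).eq
    show P.ψ y * (S.Φ aE * S.Φ bE) * (P.ψ y)⁻¹ * P.c ^ i = _
    rw [mul_assoc _ (P.ψ y)⁻¹, hcm]
    simp only [Comp.c, mul_assoc]
  refine (P.four_group VB card_fours.2 (fun v hv => (b_mul_mem v hv v hv).2.1)
    (fun y hy => cent_four.2.1 y (hy _ (Or.inr (Or.inl rfl))) (hy _ (Or.inr (Or.inr (Or.inl rfl)))))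
    (P.ψ kA) (by rw [← map_pow, pow_succ, pow_two, hk, map_one]) hkc ?_
    (fun v hv => ⟨_, (conj_maps.2 v hv).1, by rw [map_mul, map_mul, map_inv]⟩) ?_).resolve_right ?_
  · intro hk'
    obtain ⟨n, -, e⟩ := Finset.mem_image.mp
      ((IsOfFinOrder.mem_zpowers_iff_mem_range_orderOf (isOfFinOrder_of_finite P.c)).mp hk')
    obtain ⟨-, h1⟩ := P.c_notMem (k := n % 3) (y := kA) (Nat.mod_lt _ (by norm_num))
      (by rw [← pow_eq_pow_mod _ P.c_cube]; exact e)
    rw [h1] at hka
    simp at hka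
  · intro W hWC hWn hW3 x hxW i hi hx
    left
    rw [hform i] at hx
    refine P.commute_of_local (hloc i hi) hW3 (hWn (Subgroup.le_normalizer ?_)) (P.comm_c y) hxW hx
    exact Subgroup.mem_centralizer_iff.mpr (by rintro _ ⟨v, -, rfl⟩; exact (P.comm_c v).eq)
  · rintro ⟨x, -, i, hi, hx, ho⟩
    rw [hform i] at hx
    obtain ⟨h5, h7⟩ := no_five_seven (hloc i hi) hx
    rcases ho with h | ⟨h, -⟩
    · exact h7 h
    · exact h5 h

/-- `ψ` seen from `C((345))`. -/
def θ : A6 →* G := (MulAut.conj P.h).toMonoidHom.comp P.ψ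

theorem θ_apply (y : A6) : P.θ y = P.h * P.ψ y * P.h := by
  show P.h * P.ψ y * P.h⁻¹ = _
  rw [P.h_inv]

theorem θ_inj : Function.Injective P.θ := (MulAut.conj P.h).injective.comp P.inj

theorem θ_b : P.θ b6 = P.c := by rw [P.θ_apply, P.ψ_b, P.h_b]

theorem θ_phi : P.θ phiA = P.f0 := by
  rw [P.θ_apply, ← P.h_f0, show P.h * (P.h * P.f0 * P.h) * P.h = (P.h * P.h) * P.f0 * (P.h * P.h) by group,
    P.h_sq, one_mul, mul_one]

theorem θ_comm_b (y : A6) : Commute (P.θ y) P.b := by
  rw [P.θ_apply, ← P.h_c]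
  show P.h * P.ψ y * P.h * (P.h * P.c * P.h) = P.h * P.c * P.h * (P.h * P.ψ y * P.h)
  calc P.h * P.ψ y * P.h * (P.h * P.c * P.h) = P.h * P.ψ y * (P.h * P.h) * P.c * P.h := by group
    _ = P.h * (P.c * P.ψ y) * P.h := by rw [P.h_sq, mul_one, mul_assoc P.h, (P.comm_c y).eq]
    _ = P.h * P.c * (P.h * P.h) * P.ψ y * P.h := by rw [P.h_sq]; group
    _ = _ := by group

theorem coord_b {x : G} (hx : Commute x P.b) {n : ℕ} (hn : x ^ n = 1) (h3 : ¬ 3 ∣ n) :
    ∃ y : A6, x = P.θ y ∧ y ^ n = 1 := by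
  have hcm : Commute (P.h * x * P.h) P.c := by
    rw [← P.h_b]
    show P.h * x * P.h * (P.h * P.b * P.h) = P.h * P.b * P.h * (P.h * x * P.h)
    calc P.h * x * P.h * (P.h * P.b * P.h) = P.h * x * (P.h * P.h) * P.b * P.h := by group
      _ = P.h * (P.b * x) * P.h := by rw [P.h_sq, mul_one, mul_assoc P.h, hx.eq]
      _ = P.h * P.b * (P.h * P.h) * x * P.h := by rw [P.h_sq]; group
      _ = _ := by group
  obtain ⟨y, e, hy⟩ := P.coord_of_order hcm (n := n) (by
    nth_rewrite 2 [← P.h_inv]; rw [conj_pow, hn, mul_one, mul_inv_cancel]) h3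
  refine ⟨y, ?_, hy⟩
  rw [P.θ_apply, ← e, show P.h * (P.h * x * P.h) * P.h = (P.h * P.h) * x * (P.h * P.h) by group,
    P.h_sq, one_mul, mul_one]

/-- Either the relation holds or the first four group has a small centralizer. -/
theorem v2_cases :
    (Commute (P.θ tgt) (P.ψ vA) ∧
        Nat.card (Subgroup.centralizer ((A6.V2.map P.ψ : Subgroup G) : Set G)) = 240) ∨
      Nat.card (Subgroup.centralizer ((A6.V2.map P.ψ : Subgroup G) : Set G)) ∣ 24 := by
  classical
  set C := Subgroup.centralizer ((A6.V2.map P.ψ : Subgroup G) : Set G) with hC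
  have hcC : P.c ∈ C := Subgroup.mem_centralizer_iff.mpr (by
    rintro _ ⟨v, -, rfl⟩; exact (P.comm_c v).eq)
  have hf0C : P.f0 ∈ C := Subgroup.mem_centralizer_iff.mpr (by
    rintro _ ⟨v, hv, rfl⟩
    have h := P.conj_f0 v
    rw [(conj_maps.1 v hv).2.2.1] at h
    calc P.ψ v * P.f0 = P.f0 * P.ψ v * P.f0 * P.f0 := by rw [h]
      _ = P.f0 * P.ψ v := by rw [mul_assoc _ P.f0, P.f0_sq, mul_one])
  have hbn : P.b ∉ Subgroup.zpowers P.c := by
    intro hk'
    obtain ⟨n, -, e⟩ := Finset.mem_image.mp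
      ((IsOfFinOrder.mem_zpowers_iff_mem_range_orderOf (isOfFinOrder_of_finite P.c)).mp hk')
    obtain ⟨-, h1⟩ := P.c_notMem (k := n % 3) (y := b6) (Nat.mod_lt _ (by norm_num))
      (by rw [← pow_eq_pow_mod _ P.c_cube, P.ψ_b]; exact e)
    exact absurd h1 (by decide +kernel)
  have hloc : ∀ i < 3, i ≠ 0 → Subgroup.centralizer ({S.Φ (mk' 3 * cE ^ i)} : Set G) ≤ S.Φ.range :=
    fun i hi h0 => two_local (by norm_num) hi (by
      have h := List.all_eq_true.mp act_facts.2.2.2.2.1.1 i (List.mem_range.mpr hi)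
      rw [Bool.or_eq_true, Nat.beq_eq] at h
      exact h.resolve_right h0)
  have hbi : ∀ i : ℕ, P.b * P.c ^ i = 1 * S.Φ (mk' 3 * cE ^ i) * 1⁻¹ := fun i => by
    rw [one_mul, inv_one, mul_one, map_mul, map_pow]; rfl
  have hV2b : ∀ v ∈ A6.V2, Commute (P.ψ v) P.b → v = 1 := fun v hv hcm =>
    (conj_maps.1 v hv).2.2.2 (P.inj (by rw [map_mul, map_mul, P.ψ_b]; exact hcm.eq.symm))
  have hfix : ∀ W : Subgroup G, W ≤ C →
      Subgroup.normalizer (C : Set G) ≤ Subgroup.normalizer (W : Set G) → ¬ 3 ∣ Nat.card W →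
      ∀ x ∈ W, ∀ i < 3, Commute x (P.b * P.c ^ i) →
        Commute x P.c ∨ x ∈ A6.V2.map P.ψ := by
    intro W hWC hWn hW3 x hxW i hi hx
    have hWc : P.c ∈ Subgroup.normalizer (W : Set G) := hWn (Subgroup.le_normalizer hcC)
    by_cases hi0 : i = 0
    · subst hi0
      rw [pow_zero, mul_one] at hx
      right
      have hn : x ^ Nat.card W = 1 := by
        have h := congrArg Subtype.val (pow_card_eq_one' (x := (⟨x, hxW⟩ : W)))
        exact h
      obtain ⟨y, e, -⟩ := P.coord_b hx hn hW3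
      set Y := W.comap P.θ with hY
      have hyY : y ∈ Y := by rw [hY, Subgroup.mem_comap, ← e]; exact hxW
      have hbY : ∀ z ∈ Y, b6 * z * b6⁻¹ ∈ Y ∧ b6⁻¹ * z * b6 ∈ Y := fun z hz => by
        constructor
        · rw [hY, Subgroup.mem_comap, map_mul, map_mul, map_inv, P.θ_b]
          exact (Subgroup.mem_normalizer_iff.mp hWc _).mp hz
        · rw [hY, Subgroup.mem_comap, map_mul, map_mul, map_inv, P.θ_b]
          have := (Subgroup.mem_normalizer_iff.mp (inv_mem hWc) _).mp hz
          rwa [inv_inv] at this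
      have hpY : ∀ z ∈ Y, phiA * z * phiA ∈ Y := fun z hz => by
        rw [hY, Subgroup.mem_comap, map_mul, map_mul, P.θ_phi]
        have := (Subgroup.mem_normalizer_iff.mp (hWn (Subgroup.le_normalizer hf0C)) _).mp hz
        rwa [inv_eq_of_mul_eq_one_right P.f0_sq] at this
      rcases outside_four y with hQ | ⟨z, hz, hz6, hz2⟩
      · by_cases hy1 : y = 1
        · rw [e, hy1, map_one]; exact one_mem _
        exfalso
        have hxV : x ∈ Subgroup.centralizer ((VB.map P.ψ : Subgroup G) : Set G) := by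
          have hu : Commute (P.ψ uA) x := by
            rw [e, P.θ_apply, ← P.h_u]
            show P.h * S.Φ upE * P.h * (P.h * P.ψ y * P.h) = P.h * P.ψ y * P.h * (P.h * S.Φ upE * P.h)
            have hcm : S.Φ upE * P.ψ y = P.ψ y * S.Φ upE := by
              have h := P.conj_up y
              rw [q_facts.2 y hQ] at h
              conv_rhs => rw [← h]
              rw [mul_assoc _ (S.Φ upE) (S.Φ upE), ← map_mul, show upE * upE = 1 from code_inj (by
                rw [code_mul, upE, code_mk (by norm_num)]; exact act_facts.2.1.2.2.2.1), map_one,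
                mul_one]
            calc P.h * S.Φ upE * P.h * (P.h * P.ψ y * P.h)
                = P.h * S.Φ upE * (P.h * P.h) * P.ψ y * P.h := by group
              _ = P.h * (P.ψ y * S.Φ upE) * P.h := by rw [P.h_sq, mul_one, mul_assoc P.h, hcm]
              _ = P.h * P.ψ y * (P.h * P.h) * S.Φ upE * P.h := by rw [P.h_sq]; group
              _ = _ := by group
          have hz : Commute (P.ψ vZ) x :=
            Subgroup.mem_centralizer_iff.mp (hWC hxW) _ ⟨vZ, Or.inr (Or.inr (Or.inl rfl)), rfl⟩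
          refine Subgroup.mem_centralizer_iff.mpr ?_
          rintro _ ⟨v, hv, rfl⟩
          rcases hv with rfl | rfl | rfl | rfl
          · rw [map_one, one_mul, mul_one]
          · exact hu.eq
          · exact hz.eq
          · rw [map_mul]; exact (hu.mul_left hz).eq
        have hmem := P.vb_small.2 (x * P.c * x⁻¹) (mul_mem (mul_mem hxV
          (Subgroup.mem_centralizer_iff.mpr (by rintro _ ⟨v, -, rfl⟩; exact (P.comm_c v).eq))) (inv_mem hxV))
          (by rw [conj_pow, P.c_cube, mul_one, mul_inv_cancel])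
        obtain ⟨n, -, hn'⟩ := Finset.mem_image.mp
          ((IsOfFinOrder.mem_zpowers_iff_mem_range_orderOf (isOfFinOrder_of_finite P.c)).mp hmem)
        rw [e, ← P.θ_b, ← map_inv, ← map_mul, ← map_mul, ← map_pow] at hn'
        have hn'' := (P.θ_inj hn').symm
        rw [pow_eq_pow_mod n (show b6 ^ 3 = 1 by decide +kernel)] at hn''
        obtain ⟨hq, hq'⟩ := (q_facts.1 y hQ).resolve_left hy1
        have hlt := Nat.mod_lt n (show 0 < 3 by norm_num)
        interval_cases n % 3
        · rw [pow_zero] at hn''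
          exact absurd (conj_eq_one_iff.mp hn'') (by decide +kernel)
        · rw [pow_one] at hn''; exact hq hn''
        · exact hq' (hn''.trans (by decide +kernel))
      · exfalso
        have hzY : z ∈ Y := by
          simp only [uWords, List.mem_cons, List.not_mem_nil, or_false] at hz
          obtain ⟨hb1, hb2⟩ := hbY y hyY
          have hp := hpY y hyY
          have hbp : b6 * phiA * y * (b6 * phiA)⁻¹ ∈ Y := by
            have := (hbY _ hp).1
            rwa [show b6 * phiA * y * (b6 * phiA)⁻¹ = b6 * (phiA * y * phiA) * b6⁻¹ by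
              rw [mul_inv_rev, show phiA⁻¹ = phiA from inv_of_sq (by decide +kernel)]
              simp only [mul_assoc]]
          rcases hz with rfl | rfl | rfl | rfl | rfl <;>
            repeat first | assumption | apply mul_mem
        have hmem : P.θ (z * z) ∈ W := by
          have := mul_mem hzY hzY
          rwa [hY, Subgroup.mem_comap] at this
        have h3 : (P.θ (z * z)) ^ 3 = 1 := by
          rw [← map_pow, pow_succ, pow_two, hz6, map_one]
        rcases (Nat.dvd_prime Nat.prime_three).mp (orderOf_dvd_of_pow_eq_one h3) with h | h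
        · exact hz2 (P.θ_inj ((orderOf_eq_one_iff.mp h).trans (map_one P.θ).symm))
        · exact hW3 (h ▸ Subgroup.orderOf_dvd_natCard W hmem)
    · left
      rw [hbi i] at hx
      exact P.commute_of_local (hloc i hi hi0) hW3 hWc (Commute.one_left _) hxW hx
  rcases P.four_group A6.V2 card_fours.1 (fun v hv => (two_mul_mem v hv v hv).2.1)
    (fun y hy => cent_four.1 y (hy _ (Or.inr (Or.inl rfl))) (hy _ (Or.inr (Or.inr (Or.inl rfl)))))
    P.b P.b_cube P.b_c hbn
    (fun v hv => ⟨_, (conj_maps.1 v hv).1, by rw [map_mul, map_mul, map_inv, P.ψ_b]⟩)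
    hfix with hsmall | ⟨x, hxC, i, hi, hx, ho⟩
  · exact Or.inr hsmall.1
  · -- an element of order five in `C((345))`
    by_cases hi0 : i = 0
    · subst hi0
      rw [pow_zero, mul_one] at hx
      rcases ho with h7 | ⟨h5, h240, hfour⟩
      · exfalso
        obtain ⟨y, e, hy⟩ := P.coord_b hx (n := 7) (h7 ▸ pow_orderOf_eq_one x) (by norm_num)
        have hd : orderOf y ∣ Nat.card A6 := orderOf_dvd_natCard y
        rw [e, orderOf_injective P.θ P.θ_inj] at h7
        rw [h7, card_A6] at hd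
        norm_num at hd
      · refine Or.inl ?_
        obtain ⟨y, e, hy⟩ := P.coord_b hx (n := 5) (h5 ▸ pow_orderOf_eq_one x) (by norm_num)
        set H := C.comap P.θ with hH
        have hyH : y ∈ H := by rw [hH, Subgroup.mem_comap, ← e]; exact hxC
        have hbH : b6 ∈ H := by rw [hH, Subgroup.mem_comap, P.θ_b]; exact hcC
        have hpH : phiA ∈ H := by rw [hH, Subgroup.mem_comap, P.θ_phi]; exact hf0C
        rcases five_gen y (by rw [← hy]; simp only [pow_succ, pow_zero, one_mul, mul_assoc]) with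
          h1 | ⟨z, hz, hz'⟩
        · rw [e, h1, map_one, orderOf_one] at h5; norm_num at h5
        have hzH : z ∈ H := by
          simp only [hWords, List.mem_cons, List.not_mem_nil, or_false] at hz
          rcases hz with rfl | rfl | rfl | rfl | rfl | rfl | rfl | rfl | rfl | rfl <;>
            repeat first | assumption | apply mul_mem | apply inv_mem
        rcases hz' with rfl | ⟨hz4, hz2⟩
        · exact ⟨(Subgroup.mem_centralizer_iff.mp hzH _ ⟨vA, Or.inr (Or.inl rfl), rfl⟩).symm, h240⟩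
        · exfalso
          obtain ⟨v, hv, hve⟩ := hfour (P.θ z) hzH (by
            rw [← map_pow, show z ^ 4 = z * z * (z * z) by
              simp only [pow_succ, pow_zero, one_mul, mul_assoc], hz4, map_one])
          rw [← map_pow, pow_two] at hve
          have := hV2b v hv (hve ▸ P.θ_comm_b _)
          rw [this, map_one, ← map_one P.θ] at hve
          exact hz2 (P.θ_inj hve).symm
    · exfalso
      rw [hbi i] at hx
      obtain ⟨h5, h7⟩ := no_five_seven (hloc i hi hi0) hx
      rcases ho with h | ⟨h, -⟩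
      · exact h7 h
      · exact h5 h

end Comp

end CfsgLib.AltNineThree
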