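import Cfsg.Agent.Lib.AltNineThree.FourCases

/-!
A small centralizer of the first four group is impossible: a Sylow two-subgroup of order sixteen
would fuse two of its central involutions.
-/

set_option autoImplicit false
set_option linter.unusedSectionVars false
set_option linter.style.haveILetI false
set_option maxRecDepth 20000

namespace CfsgLib.AltNineThree

open E9 A6
open Equiv

namespace A6

theorem d_mul : ∀ t : A6, inD t → ∀ t' : A6, inD t' →
    inD (t * t') ∧ (t * t' * t⁻¹ * t'⁻¹ = 1 ∨ t * t' * t⁻¹ * t'⁻¹ = vZ) := by decide +kernel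

theorem d_facts : ∀ t : A6, inD t → inD t⁻¹ ∧ conj6 (swap 0 1) t = t ∧ t * t * (t * t) = 1 ∧
    t * vZ = vZ * t ∧
    (t * t = 1 → t = 1 ∨ t = vZ ∨ t = vA ∨ t = vA * vZ ∨ t = uA ∨ t = uA * vZ) := by decide +kernel

theorem d_norm : ∀ t : A6, inD t →
    (inTwo (t * vA * t⁻¹) ∧ inTwo (t * vZ * t⁻¹)) ∧ (inB (t * uA * t⁻¹) ∧ inB (t * vZ * t⁻¹)) := by
  decide +kernel

theorem d_named : inD vA ∧ inD uA ∧ inD vZ ∧ inD (vA * vZ) ∧ inD (uA * vZ) ∧ vA * uA ≠ uA * vA ∧
    vA * uA * vA⁻¹ * uA⁻¹ = vZ ∧ vA * vA = 1 ∧ Fintype.card {t : A6 // inD t} = 8 := by decide +kernel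

end A6

/-- A two-group normalizing a four group with small centralizer has order at most sixteen. -/
theorem two_group_bound {G : Type*} [Group G] [Finite G] (V : Subgroup G) (hV : Nat.card V = 4)
    (hC : Nat.card (Subgroup.centralizer (V : Set G)) ∣ 24) (R : Subgroup G) (hR : IsPGroup 2 R)
    (hRN : R ≤ Subgroup.normalizer (V : Set G)) : Nat.card R ≤ 16 := by
  classical
  haveI := Fact.mk Nat.prime_two
  haveI : Fintype V := Fintype.ofFinite V
  set ρ : R →* Equiv.Perm V :=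
    (MulAut.toPerm V).comp (V.normalizerMonoidHom.comp (Subgroup.inclusion hRN)) with hρ
  have hρ' : ∀ (r : R) (v : V), ((ρ r v : V) : G) = (r : G) * v * (r : G)⁻¹ := fun r v => rfl
  have hstab : Nat.card (MulAction.stabilizer (Equiv.Perm V) (1 : V)) = 6 := by
    haveI : Fintype (MulAction.orbit (Equiv.Perm V) (1 : V)) := Fintype.ofFinite _
    have h := MulAction.card_orbit_mul_card_stabilizer_eq_card_group (Equiv.Perm V) (1 : V)
    have hO : Fintype.card (MulAction.orbit (Equiv.Perm V) (1 : V)) = Fintype.card V := by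
      refine Fintype.card_congr (Equiv.subtypeUnivEquiv fun v => ⟨Equiv.swap 1 v, ?_⟩)
      exact Equiv.swap_apply_left 1 v
    rw [hO, Fintype.card_perm, ← Nat.card_eq_fintype_card, hV, ← Nat.card_eq_fintype_card,
      show (4 : ℕ).factorial = 24 from rfl] at h
    omega
  have hle : ρ.range ≤ MulAction.stabilizer (Equiv.Perm V) (1 : V) := by
    rintro _ ⟨r, rfl⟩
    refine MulAction.mem_stabilizer_iff.mpr (Subtype.ext ?_)
    show ((ρ r 1 : V) : G) = _
    rw [hρ']; simp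
  obtain ⟨a, ha⟩ := (hR.of_surjective ρ.rangeRestrict ρ.rangeRestrict_surjective).exists_card_eq
  have ha2 : a ≤ 1 := by
    by_contra h
    have h4 : (2 : ℕ) ^ 2 ∣ 6 := (pow_dvd_pow 2 (by omega : 2 ≤ a)).trans
      (ha ▸ hstab ▸ Subgroup.card_dvd_of_le hle)
    norm_num at h4
  obtain ⟨b, hb⟩ := (hR.to_subgroup ρ.ker).exists_card_eq
  have hker : (ρ.ker).map R.subtype ≤ Subgroup.centralizer (V : Set G) := by
    rintro _ ⟨r, hr, rfl⟩
    refine Subgroup.mem_centralizer_iff.mpr fun v hv => ?_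
    have h := congrArg (fun σ : Equiv.Perm V => ((σ ⟨v, hv⟩ : V) : G)) (MonoidHom.mem_ker.mp hr)
    have h' : (r : G) * v * (r : G)⁻¹ = v := h
    exact (mul_inv_eq_iff_eq_mul.mp h').symm
  have hb3 : b ≤ 3 := by
    by_contra h
    have h16 : (2 : ℕ) ^ 4 ∣ 24 := (pow_dvd_pow 2 (by omega : 4 ≤ b)).trans
      (hb ▸ (Subgroup.card_map_of_injective R.subtype_injective ▸ Subgroup.card_dvd_of_le hker).trans hC)
    norm_num at h16
  have h := ρ.ker.card_mul_index
  rw [Subgroup.index_ker, ha, hb] at h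
  rw [← h, ← pow_add]
  calc (2 : ℕ) ^ (b + a) ≤ 2 ^ 4 := Nat.pow_le_pow_right (by norm_num) (by omega)
    _ = 16 := by norm_num

namespace Comp

variable {G : Type*} [Group G] [Finite G] {S : Setup G} (P : Comp S)

theorem f0_comm {t : A6} (ht : inD t) : Commute P.f0 (P.ψ t) := by
  have h := P.conj_f0 t
  rw [(d_facts t ht).2.1] at h
  calc P.f0 * P.ψ t = P.f0 * (P.ψ t * (P.f0 * P.f0)) := by rw [P.f0_sq, mul_one]
    _ = (P.f0 * P.ψ t * P.f0) * P.f0 := by group
    _ = P.ψ t * P.f0 := by rw [h]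

theorem f0_notMem : ∀ y : A6, P.ψ y ≠ P.f0 := fun y e => by
  have h1 := (P.comm_c y).eq
  rw [e] at h1
  have h2 := P.f0_c
  rw [h1, mul_assoc, P.f0_sq, mul_one] at h2
  refine P.c_ne ?_
  have h3 : P.c * P.c = 1 := mul_eq_one_iff_eq_inv.mpr h2
  have h4 := P.c_cube
  rwa [pow_succ, pow_two, h3, one_mul] at h4

/-- The two-group `(V ⋊ ⟨(01)(34)⟩) × ⟨(01)(67)⟩`. -/
def TT : Subgroup G where
  carrier := {g | ∃ t, inD t ∧ (g = P.ψ t ∨ g = P.ψ t * P.f0)}
  one_mem' := ⟨1, Or.inl (Or.inl rfl), Or.inl (map_one P.ψ).symm⟩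
  mul_mem' := fun {g k} hg hk => by
    obtain ⟨t, ht, hg⟩ := hg
    obtain ⟨t', ht', hk⟩ := hk
    refine ⟨t * t', (d_mul t ht t' ht').1, ?_⟩
    rcases hg with rfl | rfl <;> rcases hk with rfl | rfl
    · exact Or.inl (map_mul _ _ _).symm
    · exact Or.inr (by rw [map_mul, mul_assoc])
    · exact Or.inr (by rw [mul_assoc, (P.f0_comm ht').eq, ← mul_assoc, map_mul])
    · exact Or.inl (by
        rw [mul_assoc, ← mul_assoc P.f0, (P.f0_comm ht').eq, mul_assoc (P.ψ t'), P.f0_sq, mul_one,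
          map_mul])
  inv_mem' := fun {g} hg => by
    obtain ⟨t, ht, hg⟩ := hg
    refine ⟨t⁻¹, (d_facts t ht).1, ?_⟩
    rcases hg with rfl | rfl
    · exact Or.inl (map_inv _ _).symm
    · exact Or.inr (by
        rw [mul_inv_rev, inv_eq_of_mul_eq_one_right P.f0_sq, ← map_inv,
          (P.f0_comm (d_facts t ht).1).eq])

theorem ψ_mem_TT {t : A6} (ht : inD t) : P.ψ t ∈ P.TT := ⟨t, ht, Or.inl rfl⟩

theorem f0_mem_TT : P.f0 ∈ P.TT := ⟨1, Or.inl (Or.inl rfl), Or.inr (by rw [map_one, one_mul])⟩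

theorem card_TT : Nat.card P.TT = 16 := by
  classical
  let f : {t : A6 // inD t} × Bool → P.TT := fun p =>
    ⟨if p.2 then P.ψ p.1 * P.f0 else P.ψ p.1, by
      refine ⟨p.1, p.1.2, ?_⟩
      cases p.2
      · exact Or.inl rfl
      · exact Or.inr rfl⟩
  have hf : Function.Bijective f := by
    refine ⟨?_, ?_⟩
    · rintro ⟨⟨t, ht⟩, a⟩ ⟨⟨t', ht'⟩, b⟩ h
      have h' := congrArg Subtype.val h
      simp only [f] at h'
      cases a <;> cases b <;> simp only [Bool.false_eq_true, if_false, if_true] at h'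
      · obtain rfl : t = t' := P.inj h'
        rfl
      · exact absurd (by rw [map_mul, map_inv, h', inv_mul_cancel_left] : P.ψ (t'⁻¹ * t) = P.f0)
          (P.f0_notMem _)
      · exact absurd (by rw [map_mul, map_inv, ← h', inv_mul_cancel_left] : P.ψ (t⁻¹ * t') = P.f0)
          (P.f0_notMem _)
      · obtain rfl : t = t' := P.inj (mul_right_cancel h')
        rfl
    · rintro ⟨g, t, ht, h | h⟩
      · exact ⟨(⟨t, ht⟩, false), Subtype.ext h.symm⟩
      · exact ⟨(⟨t, ht⟩, true), Subtype.ext h.symm⟩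
  rw [← Nat.card_eq_of_bijective f hf, Nat.card_prod, Nat.card_eq_fintype_card,
    A6.d_named.2.2.2.2.2.2.2.2, Nat.card_eq_fintype_card, Fintype.card_bool]

theorem vZ_central {x : G} (hx : x ∈ P.TT) : Commute x (P.ψ vZ) := by
  obtain ⟨t, ht, h⟩ := hx
  have h1 : Commute (P.ψ t) (P.ψ vZ) := by
    show P.ψ t * P.ψ vZ = _
    rw [← map_mul, (d_facts t ht).2.2.2.1, map_mul]
  rcases h with rfl | rfl
  · exact h1
  · exact h1.mul_left (P.f0_comm d_named.2.2.1)

theorem f0_central {x : G} (hx : x ∈ P.TT) : Commute x P.f0 := by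
  obtain ⟨t, ht, h⟩ := hx
  rcases h with rfl | rfl
  · exact (P.f0_comm ht).symm
  · exact (P.f0_comm ht).symm.mul_left (Commute.refl _)

theorem commutator_TT {x y : G} (hx : x ∈ P.TT) (hy : y ∈ P.TT) :
    x * y * x⁻¹ * y⁻¹ = 1 ∨ x * y * x⁻¹ * y⁻¹ = P.ψ vZ := by
  obtain ⟨t, ht, hx'⟩ := hx
  obtain ⟨t', ht', hy'⟩ := hy
  have key : x * y * x⁻¹ * y⁻¹ = P.ψ (t * t' * t⁻¹ * t'⁻¹) := by
    simp only [map_mul, map_inv]
    have hi : P.f0⁻¹ = P.f0 := inv_eq_of_mul_eq_one_right P.f0_sq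
    have c1 := P.f0_comm ht
    have c2 := P.f0_comm ht'
    have h1 : x * y * x⁻¹ = P.ψ t * y * (P.ψ t)⁻¹ := by
      rcases hx' with rfl | rfl
      · rfl
      · rw [mul_inv_rev, mul_assoc (P.ψ t) P.f0 y,
          ← (P.f0_central ⟨t', ht', hy'⟩).eq]
        group
    rw [h1]
    rcases hy' with rfl | rfl
    · rfl
    · rw [mul_inv_rev, mul_assoc (P.ψ t), mul_assoc (P.ψ t'),
        (c1.inv_right).eq, ← mul_assoc (P.ψ t')]
      group
  rw [key]
  rcases (d_mul t ht t' ht').2 with e | e <;> rw [e]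
  · exact Or.inl (map_one _)
  · exact Or.inr rfl

theorem normalizer_vZ {g : G} (hg : g ∈ Subgroup.normalizer (P.TT : Set G)) :
    g * P.ψ vZ * g⁻¹ = P.ψ vZ := by
  have hm : ∀ {t : A6}, inD t → g * P.ψ t * g⁻¹ ∈ P.TT := fun ht =>
    (Subgroup.mem_normalizer_iff.mp hg _).mp (P.ψ_mem_TT ht)
  obtain ⟨hA, hU, -, -, -, -, hcm, -, -⟩ := d_named
  have e : g * P.ψ vZ * g⁻¹ = g * P.ψ vA * g⁻¹ * (g * P.ψ uA * g⁻¹) * (g * P.ψ vA * g⁻¹)⁻¹ *
      (g * P.ψ uA * g⁻¹)⁻¹ := by
    rw [← hcm, map_mul, map_mul, map_mul, map_inv, map_inv]; group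
  rcases P.commutator_TT (hm hA) (hm hU) with h | h
  · exfalso
    rw [← e, conj_eq_one_iff, ← map_one P.ψ] at h
    exact elems.2.2.2.2.2.2.2.2.2.1 (P.inj h)
  · exact e.trans h

/-- Elements of order three centralizing `(23)(45)` are conjugate to `(678)` or its inverse. -/
theorem three_cent {x : G} (hx : x ^ 3 = 1) (hx1 : x ≠ 1) (hxv : Commute x (P.ψ vA)) :
    ∃ g : G, g * x * g⁻¹ = P.c ∨ g * x * g⁻¹ = P.c⁻¹ := by
  classical
  haveI := Fact.mk Nat.prime_three
  set C := Subgroup.centralizer ({P.ψ vA} : Set G) with hC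
  set Z := Subgroup.zpowers P.c with hZ
  have hZC : Z ≤ C := Subgroup.zpowers_le.mpr
    (Subgroup.mem_centralizer_singleton_iff.mpr (P.comm_c vA).eq.symm)
  have hpow : ∀ z ∈ Z, z = 1 ∨ z = P.c ∨ z = P.c⁻¹ := by
    intro z hz
    obtain ⟨n, -, rfl⟩ := Finset.mem_image.mp
      ((IsOfFinOrder.mem_zpowers_iff_mem_range_orderOf (isOfFinOrder_of_finite P.c)).mp hz)
    rw [pow_eq_pow_mod n P.c_cube]
    have hlt := Nat.mod_lt n (show 0 < 3 by norm_num)
    interval_cases n % 3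
    · exact Or.inl (pow_zero _)
    · exact Or.inr (Or.inl (pow_one _))
    · refine Or.inr (Or.inr (eq_inv_of_mul_eq_one_left ?_))
      rw [← pow_succ]; exact P.c_cube
  have hmax : ∀ R : Subgroup G, IsPGroup 3 R → R ≤ C → Z ≤ R → R = Z := by
    intro R hR hRC hZR
    by_contra hne
    haveI := hR.isNilpotent
    have hlt : Z.subgroupOf R < ⊤ := lt_top_iff_ne_top.mpr fun e =>
      hne (le_antisymm (Subgroup.subgroupOf_eq_top.mp e) hZR)
    obtain ⟨⟨r, hrR⟩, hr, hrn⟩ :=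
      SetLike.exists_of_lt (Group.normalizerCondition_of_isNilpotent _ hlt)
    apply hrn
    have hrc : r * P.c * r⁻¹ ∈ Z := Subgroup.mem_subgroupOf.mp
      ((Subgroup.mem_normalizer_iff.mp hr ⟨_, hZR (Subgroup.mem_zpowers _)⟩).mp
        (Subgroup.mem_subgroupOf.mpr (Subgroup.mem_zpowers _)))
    obtain ⟨n, hn⟩ := hR ⟨r, hrR⟩
    have hn' : r ^ (3 ^ n) = 1 := congrArg Subtype.val hn
    have hcm : Commute r P.c := by
      rcases hpow _ hrc with e | e | e
      · exact absurd (conj_eq_one_iff.mp e) P.c_ne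
      · exact mul_inv_eq_iff_eq_mul.mp e
      · exfalso
        have h2 : Commute (r * r) P.c := by
          refine mul_inv_eq_iff_eq_mul.mp ?_
          calc r * r * P.c * (r * r)⁻¹ = r * (r * P.c * r⁻¹) * r⁻¹ := by group
            _ = r * P.c⁻¹ * r⁻¹ := by rw [e]
            _ = (r * P.c * r⁻¹)⁻¹ := by group
            _ = P.c := by rw [e, inv_inv]
        obtain ⟨m, hm⟩ : Odd (3 ^ n) := Odd.pow (by decide)
        have hr' : r = (r * r) ^ (m + 1) := by
          rw [← pow_two, ← pow_mul, show 2 * (m + 1) = 3 ^ n + 1 by omega, pow_succ, hn', one_mul]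
        have h1 : Commute r P.c := by rw [hr']; exact h2.pow_left _
        rw [h1.eq, mul_inv_cancel_right] at e
        refine P.c_ne ?_
        have h4 := P.c_cube
        rwa [pow_succ, pow_two, mul_eq_one_iff_eq_inv.mpr e, one_mul] at h4
    obtain ⟨y, k, -, hry⟩ := P.exists_coord hcm
    have hyv : y * vA = vA * y := P.inj (by
      have h := Subgroup.mem_centralizer_singleton_iff.mp (hRC hrR)
      rw [hry] at h
      have hck := ((P.comm_c vA).pow_right k).eq
      rw [map_mul, map_mul]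
      rw [mul_assoc, ← hck, ← mul_assoc, ← mul_assoc] at h
      exact mul_right_cancel h)
    refine Subgroup.mem_subgroupOf.mpr ?_
    have h4 : r ^ 4 ∈ Z := by
      rw [hry, ((P.comm_c y).pow_right k).mul_pow, ← map_pow,
        show y ^ 4 = y * y * (y * y) by simp only [pow_succ, pow_zero, one_mul, mul_assoc],
        cent_four.2.2 y hyv, map_one, one_mul]
      exact pow_mem (pow_mem (Subgroup.mem_zpowers _) _) _
    have hgcd := Nat.gcd_eq_gcd_ab 4 (3 ^ n)
    rw [Nat.Coprime.pow_right n (by norm_num : Nat.Coprime 4 3)] at hgcd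
    show r ∈ Z
    rw [← zpow_one r, show (1 : ℤ) = ((1 : ℕ) : ℤ) from Nat.cast_one.symm, hgcd, zpow_add, zpow_mul,
      zpow_mul, zpow_natCast, zpow_natCast, hn', one_zpow, mul_one]
    exact zpow_mem h4 _
  have hZp : IsPGroup 3 (Z.subgroupOf C) := by
    refine IsPGroup.of_card (n := 1) ?_
    rw [Nat.card_congr (Subgroup.subgroupOfEquivOfLe hZC).toEquiv, hZ, Nat.card_zpowers,
      orderOf_eq_prime P.c_cube P.c_ne, pow_one]
  obtain ⟨R, hR⟩ := hZp.exists_le_sylow
  have hRZ : (R : Subgroup C).map C.subtype = Z :=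
    hmax _ (R.2.map _) (Subgroup.map_subtype_le _) fun e he =>
      ⟨⟨e, hZC he⟩, hR (Subgroup.mem_subgroupOf.mpr he), rfl⟩
  have hxC : x ∈ C := Subgroup.mem_centralizer_singleton_iff.mpr hxv.eq
  have hxp : IsPGroup 3 (Subgroup.zpowers (⟨x, hxC⟩ : C)) := by
    rintro ⟨y, k, rfl⟩
    refine ⟨1, Subtype.ext ?_⟩
    show ((⟨x, hxC⟩ : C) ^ k) ^ (3 ^ 1) = 1
    rw [pow_one, ← zpow_natCast, zpow_comm, zpow_natCast,
      show (⟨x, hxC⟩ : C) ^ 3 = 1 from Subtype.ext hx, one_zpow]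
  obtain ⟨R', hR'⟩ := hxp.exists_le_sylow
  obtain ⟨d, hd⟩ := MulAction.exists_smul_eq C R' R
  refine ⟨d, ?_⟩
  have hm : (d : G) * x * (d : G)⁻¹ ∈ Z := by
    rw [← hRZ, ← hd, Sylow.coe_subgroup_smul]
    exact ⟨d * ⟨x, hxC⟩ * d⁻¹, ⟨⟨x, hxC⟩, hR' (Subgroup.mem_zpowers _), rfl⟩, rfl⟩
  exact (hpow _ hm).resolve_left fun e => hx1 (conj_eq_one_iff.mp e)

/-- `(23)(45)` is not conjugate to `(23)(45)(01)(67)`. -/
theorem type_ne : ¬ IsConj (P.ψ vA) (P.ψ vA * P.f0) := by
  intro hc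
  obtain ⟨g, hg⟩ := isConj_iff.mp hc
  obtain ⟨-, -, -, ⟨y, hy⟩, -, -, hfix, -⟩ := elems
  set k := P.ψ kT with hk
  have hcomm : Commute k (P.ψ vA * P.f0) := by
    have hvv : P.ψ vA * P.ψ vA = 1 := by rw [← map_mul, d_named.2.2.2.2.2.2.2.1, map_one]
    have h : P.ψ vA * (P.f0 * k * P.f0) * P.ψ vA = k := by
      rw [hk, P.conj_f0, ← map_mul, ← map_mul, hfix]
    calc k * (P.ψ vA * P.f0) = P.ψ vA * (P.f0 * k * P.f0) * (P.ψ vA * P.ψ vA) * P.f0 := by
          nth_rewrite 1 [← h]; group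
      _ = P.ψ vA * P.f0 * k * (P.f0 * P.f0) := by rw [hvv, mul_one]; group
      _ = _ := by rw [P.f0_sq, mul_one]
  have hab3 : (S.Φ aE * S.Φ bE) ^ 3 = 1 := by
    rw [← map_mul]
    exact S.J_cube (S.Φ_mem_J.mpr (mul_mem aE_mem (show jC (bE.c : ℕ) = true by decide +kernel)))
  have hkab : k = P.ψ y * (S.Φ aE * S.Φ bE) * (P.ψ y)⁻¹ := by
    rw [hk, ← hy, map_mul, map_mul, map_mul, map_inv, P.ha, P.hb]
  have hk3 : k ^ 3 = 1 := by rw [hkab, conj_pow, hab3, mul_one, mul_inv_cancel]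
  have hk1 : k ≠ 1 := fun e => by
    rw [hk, ← map_one P.ψ] at e
    exact absurd (P.inj e) (by decide +kernel)
  set x := g⁻¹ * k * g with hx
  obtain ⟨d, hd⟩ := P.three_cent (x := x)
    (by rw [hx, show g⁻¹ * k * g = g⁻¹ * k * g⁻¹⁻¹ by rw [inv_inv], conj_pow, hk3, mul_one, mul_inv_cancel])
    (fun e => hk1 (by
      have : k = g * x * g⁻¹ := by rw [hx]; group
      rw [this, e, mul_one, mul_inv_cancel]))
    (by
      show g⁻¹ * k * g * P.ψ vA = P.ψ vA * (g⁻¹ * k * g)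
      calc g⁻¹ * k * g * P.ψ vA = g⁻¹ * (k * (g * P.ψ vA * g⁻¹)) * g := by group
        _ = g⁻¹ * (g * P.ψ vA * g⁻¹ * k) * g := by rw [hg, hcomm.eq]
        _ = _ := by group)
  obtain ⟨-, -, -, ⟨-, h18, hno⟩, -⟩ := act_facts
  have hab : aE * bE ∈ JE := mul_mem aE_mem (show jC (bE.c : ℕ) = true by decide +kernel)
  have hab1 : aE * bE ≠ 1 := fun e => absurd (congrArg (fun x : E9 => (x.c : ℕ)) e) (by
    rw [code_mul, code_named.1, code_named.2.1]; decide +kernel)
  set z := d * g⁻¹ * P.ψ y with hz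
  have hzz : z * S.Φ (aE * bE) * z⁻¹ = d * x * d⁻¹ := by
    rw [hz, hx, hkab, map_mul]; group
  rcases hd with hd | hd
  · obtain ⟨e, he, -⟩ := S.fusion cE_mem hab hab1 (x := z⁻¹) (by
      rw [inv_inv, show S.Φ cE = z * S.Φ (aE * bE) * z⁻¹ from (hzz.trans hd).symm]; group)
    have h := all_spec hno e
    simp only [Bool.and_eq_true, Bool.not_eq_true'] at h
    refine Bool.false_ne_true (h.1.symm.trans ?_)
    rw [Nat.beq_eq, show (9 : ℕ) = (cE.c : ℕ) from code_named.2.2.1.symm, ← code_conj, he, code_mul,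
      code_named.1, code_named.2.1]
    decide +kernel
  · obtain ⟨e, he, -⟩ := S.fusion (inv_mem cE_mem) hab hab1 (x := z⁻¹) (by
      rw [inv_inv, map_inv, show (S.Φ cE)⁻¹ = z * S.Φ (aE * bE) * z⁻¹ from (hzz.trans hd).symm]; group)
    have h := all_spec hno e
    simp only [Bool.and_eq_true, Bool.not_eq_true'] at h
    refine Bool.false_ne_true (h.2.symm.trans ?_)
    rw [Nat.beq_eq, show (18 : ℕ) = ((cE⁻¹).c : ℕ) by rw [code_inv, code_named.2.2.1]; exact h18.symm,
      ← code_conj, he, code_mul, code_named.1, code_named.2.1]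
    decide +kernel

/-- The first four group is not conjugate to the second by an element fixing `(25)(34)`. -/
theorem not_to_vb {g : G} (hz : g * P.ψ vZ * g⁻¹ = P.ψ vZ)
    (hv : g * P.ψ vA * g⁻¹ = P.ψ uA ∨ g * P.ψ vA * g⁻¹ = P.ψ (uA * vZ)) : False := by
  classical
  have hzz : vZ * vZ = 1 := (two_mul_mem vZ (Or.inr (Or.inr (Or.inl rfl))) vZ (Or.inr (Or.inr (Or.inl rfl)))).2.1
  have hu : g * P.ψ vA * g⁻¹ = P.ψ uA ∨ g * P.ψ (vA * vZ) * g⁻¹ = P.ψ uA := by
    rcases hv with h | h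
    · exact Or.inl h
    · right
      rw [map_mul, show g * (P.ψ vA * P.ψ vZ) * g⁻¹ = g * P.ψ vA * g⁻¹ * (g * P.ψ vZ * g⁻¹) by group,
        h, hz, ← map_mul, mul_assoc, hzz, mul_one]
  have hcm : ∀ w : A6, Commute (g * P.c * g⁻¹) (g * P.ψ w * g⁻¹) := fun w => by
    show _ = _
    rw [conj_mul, conj_mul, (P.comm_c w).eq]
  have hmem : g * P.c * g⁻¹ ∈ Subgroup.centralizer ((VB.map P.ψ : Subgroup G) : Set G) := by
    have h1 : Commute (g * P.c * g⁻¹) (P.ψ uA) := by
      rcases hu with h | h <;> exact h ▸ hcm _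
    have h2 : Commute (g * P.c * g⁻¹) (P.ψ vZ) := hz ▸ hcm _
    refine Subgroup.mem_centralizer_iff.mpr ?_
    rintro _ ⟨v, hv, rfl⟩
    rcases hv with rfl | rfl | rfl | rfl
    · rw [map_one, one_mul, mul_one]
    · exact h1.eq.symm
    · exact h2.eq.symm
    · rw [map_mul]; exact (h1.mul_right h2).eq.symm
  obtain ⟨n, -, hn⟩ := Finset.mem_image.mp
    ((IsOfFinOrder.mem_zpowers_iff_mem_range_orderOf (isOfFinOrder_of_finite P.c)).mp
      (P.vb_small.2 _ hmem (by rw [conj_pow, P.c_cube, mul_one, mul_inv_cancel])))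
  rw [pow_eq_pow_mod n P.c_cube] at hn
  have hlt := Nat.mod_lt n (show 0 < 3 by norm_num)
  have finish : ∀ k : G, Commute k P.c → k * P.ψ vZ * k⁻¹ = P.ψ vZ →
      (k * P.ψ vA * k⁻¹ = P.ψ uA ∨ k * P.ψ vA * k⁻¹ = P.ψ (uA * vZ)) → False := by
    intro k hk hkz hkv
    obtain ⟨y, i, -, rfl⟩ := P.exists_coord hk
    have e : ∀ w, P.ψ y * P.c ^ i * P.ψ w * (P.ψ y * P.c ^ i)⁻¹ = P.ψ (y * w * y⁻¹) := fun w => by
      rw [map_mul, map_mul, map_inv, mul_assoc (P.ψ y) (P.c ^ i), ← ((P.comm_c w).pow_right i).eq]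
      group
    rw [e] at hkz hkv
    obtain ⟨h1, h2⟩ := no_conj y (P.inj hkz)
    rcases hkv with h | h
    · exact h1 (P.inj h)
    · exact h2 (P.inj h)
  interval_cases hn3 : n % 3
  · exact P.c_ne (conj_eq_one_iff.mp (by rw [← hn, pow_zero]))
  · rw [pow_one] at hn
    exact finish g (mul_inv_eq_iff_eq_mul.mp hn.symm) hz hv
  · have hf : P.f0⁻¹ = P.f0 := inv_eq_of_mul_eq_one_right P.f0_sq
    have hconj : ∀ w, inD w → g * P.f0 * P.ψ w * (g * P.f0)⁻¹ = g * P.ψ w * g⁻¹ := fun w hw => by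
      rw [mul_assoc g, (P.f0_comm hw).eq]; group
    refine finish (g * P.f0) ?_ (by rw [hconj _ d_named.2.2.1]; exact hz) (by
      rw [hconj _ d_named.1]; exact hv)
    refine mul_inv_eq_iff_eq_mul.mp ?_
    calc g * P.f0 * P.c * (g * P.f0)⁻¹ = g * (P.f0 * P.c * P.f0) * g⁻¹ := by
          rw [mul_inv_rev, hf]; group
      _ = (g * P.c * g⁻¹)⁻¹ := by rw [P.f0_c]; group
      _ = P.c := by
          rw [← hn]
          refine inv_eq_of_mul_eq_one_right ?_
          rw [← pow_succ]; exact P.c_cube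

/-- The images of the two noncentral generators. -/
theorem classify {g : G} (hg : g ∈ Subgroup.normalizer (P.TT : Set G)) {z : A6} (hz : inD z)
    (hzv : IsConj (P.ψ vA) (P.ψ z)) {z' : A6} (hz' : inD z') (hne : z * z' ≠ z' * z) :
    g * P.ψ z * g⁻¹ = P.ψ vA ∨ g * P.ψ z * g⁻¹ = P.ψ (vA * vZ) ∨
      g * P.ψ z * g⁻¹ = P.ψ uA ∨ g * P.ψ z * g⁻¹ = P.ψ (uA * vZ) ∨
      g * P.ψ z * g⁻¹ = P.ψ uA * P.f0 ∨ g * P.ψ z * g⁻¹ = P.ψ (uA * vZ) * P.f0 := by
  set x := g * P.ψ z * g⁻¹ with hx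
  have hxT : x ∈ P.TT := (Subgroup.mem_normalizer_iff.mp hg _).mp (P.ψ_mem_TT hz)
  have hxv : IsConj (P.ψ vA) x := hzv.trans (isConj_iff.mpr ⟨g, rfl⟩)
  have hx2 : x * x = 1 := by
    obtain ⟨k, hk⟩ := isConj_iff.mp hxv
    rw [← hk, conj_mul, ← map_mul, d_named.2.2.2.2.2.2.2.1, map_one, mul_one, mul_inv_cancel]
  have hncen : ¬ Commute x (g * P.ψ z' * g⁻¹) := by
    intro h
    apply hne
    apply P.inj
    have h' := h.eq
    rw [hx, conj_mul, conj_mul] at h'
    rw [map_mul, map_mul]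
    exact mul_left_cancel (mul_right_cancel h')
  have hz'T : g * P.ψ z' * g⁻¹ ∈ P.TT := (Subgroup.mem_normalizer_iff.mp hg _).mp (P.ψ_mem_TT hz')
  obtain ⟨t, ht, hxt⟩ := hxT
  have ht2 : t * t = 1 := P.inj (by
    rw [map_mul, map_one]
    rcases hxt with e | e
    · rw [← e]; exact hx2
    · rw [e, mul_assoc, ← mul_assoc P.f0, (P.f0_comm ht).eq, mul_assoc (P.ψ t) P.f0, P.f0_sq,
        mul_one] at hx2
      exact hx2)
  have hcen : t = 1 ∨ t = vZ → False := by
    intro h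
    refine hncen (Commute.symm ?_)
    have h0 : Commute (g * P.ψ z' * g⁻¹) (P.ψ t) := by
      rcases h with rfl | rfl
      · rw [map_one]; exact Commute.one_right _
      · exact P.vZ_central hz'T
    rcases hxt with e | e <;> rw [e]
    · exact h0
    · exact h0.mul_right (P.f0_central hz'T)
  have hbad : ∀ w, (w = vA ∨ w = vA * vZ) → x ≠ P.ψ w * P.f0 := by
    intro w hw e
    refine P.type_ne (hxv.trans ?_)
    rw [e]
    rcases hw with rfl | rfl
    · exact IsConj.refl _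
    · refine isConj_iff.mpr ⟨P.ψ uA, ?_⟩
      have huu : uA * uA = 1 := elems.2.2.2.2.2.2.2.2.2.2.1
      rw [← map_inv, inv_of_sq huu, mul_assoc, mul_assoc (P.ψ (vA * vZ)) P.f0,
        (P.f0_comm d_named.2.1).eq, ← mul_assoc, ← mul_assoc, ← map_mul, ← map_mul]
      congr 2
      decide +kernel
  rcases (d_facts t ht).2.2.2.2 ht2 with rfl | rfl | rfl | rfl | rfl | rfl
  · exact absurd (Or.inl rfl) hcen
  · exact absurd (Or.inr rfl) hcen
  · rcases hxt with e | e
    · exact Or.inl e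
    · exact absurd e (hbad _ (Or.inl rfl))
  · rcases hxt with e | e
    · exact Or.inr (Or.inl e)
    · exact absurd e (hbad _ (Or.inr rfl))
  · rcases hxt with e | e
    · exact Or.inr (Or.inr (Or.inl e))
    · exact Or.inr (Or.inr (Or.inr (Or.inr (Or.inl e))))
  · rcases hxt with e | e
    · exact Or.inr (Or.inr (Or.inr (Or.inl e)))
    · exact Or.inr (Or.inr (Or.inr (Or.inr (Or.inr e))))

theorem conj_inv_of {g a a' : G} (h : g * a * g⁻¹ = a') : g⁻¹ * a' * g⁻¹⁻¹ = a := by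
  rw [← h]; group

/-- The small case is impossible. -/
theorem v2_not_small :
    ¬ Nat.card (Subgroup.centralizer ((A6.V2.map P.ψ : Subgroup G) : Set G)) ∣ 24 := by
  classical
  intro hsmall
  haveI := Fact.mk Nat.prime_two
  obtain ⟨hA, hU, hZ, hAZ, hUZ, hne, -, -, -⟩ := d_named
  obtain ⟨-, -, -, -, ⟨yu, hyu⟩, ⟨yp, hyp⟩, -⟩ := elems
  have hzz : vZ * vZ = 1 := (two_mul_mem vZ (Or.inr (Or.inr (Or.inl rfl))) vZ (Or.inr (Or.inr (Or.inl rfl)))).2.1
  have huv : IsConj (P.ψ vA) (P.ψ uA) :=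
    isConj_iff.mpr ⟨P.ψ yu, by rw [← map_inv, ← map_mul, ← map_mul, hyu]⟩
  -- `T` is a maximal two-subgroup
  have hTp : IsPGroup 2 P.TT := IsPGroup.of_card (n := 4) (by rw [P.card_TT]; norm_num)
  have hmax : ∀ R : Subgroup G, IsPGroup 2 R → P.TT ≤ R → R = P.TT := by
    intro R hR hTR
    by_contra hne'
    haveI := hR.isNilpotent
    have hlt : P.TT.subgroupOf R < ⊤ := lt_top_iff_ne_top.mpr fun e =>
      hne' (le_antisymm (Subgroup.subgroupOf_eq_top.mp e) hTR)
    obtain ⟨⟨g, hgR⟩, hg, hgn⟩ :=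
      SetLike.exists_of_lt (Group.normalizerCondition_of_isNilpotent _ hlt)
    rw [Subgroup.mem_subgroupOf] at hgn
    have hgN : g ∈ Subgroup.normalizer (P.TT : Set G) := by
      rw [Subgroup.mem_normalizer_iff_map_conj_eq]
      refine Subgroup.eq_of_le_of_card_ge ?_ (le_of_eq
        (Subgroup.card_map_of_injective (MulAut.conj g).injective).symm)
      rintro _ ⟨u, hu, rfl⟩
      exact Subgroup.mem_subgroupOf.mp ((Subgroup.mem_normalizer_iff.mp hg ⟨u, hTR hu⟩).mp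
        (Subgroup.mem_subgroupOf.mpr hu))
    have hgz := P.normalizer_vZ hgN
    have big : ∀ (V6 : Subgroup A6), Nat.card V6 = 4 →
        Nat.card (Subgroup.centralizer ((V6.map P.ψ : Subgroup G) : Set G)) ∣ 24 →
        (∀ t, inD t → ∀ w ∈ V6, t * w * t⁻¹ ∈ V6) → (∀ w ∈ V6, inD w) →
        (∀ w ∈ V6, g * P.ψ w * g⁻¹ ∈ V6.map P.ψ) → False := by
      intro V6 h4 hC hnorm hD hgV
      have hV4 : Nat.card (V6.map P.ψ) = 4 := (Subgroup.card_map_of_injective P.inj).trans h4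
      have hTN : P.TT ≤ Subgroup.normalizer ((V6.map P.ψ : Subgroup G) : Set G) := by
        intro u hu
        rw [Subgroup.mem_normalizer_iff_map_conj_eq]
        refine Subgroup.eq_of_le_of_card_ge ?_ (le_of_eq
          (Subgroup.card_map_of_injective (MulAut.conj u).injective).symm)
        rintro _ ⟨_, ⟨w, hw, rfl⟩, rfl⟩
        obtain ⟨t, ht, hut⟩ := hu
        refine ⟨t * w * t⁻¹, hnorm t ht w hw, ?_⟩
        show P.ψ (t * w * t⁻¹) = u * P.ψ w * u⁻¹
        rw [map_mul, map_mul, map_inv]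
        rcases hut with rfl | rfl
        · rfl
        · rw [mul_assoc (P.ψ t) P.f0, (P.f0_comm (hD w hw)).eq]; group
      have hgNV : g ∈ Subgroup.normalizer ((V6.map P.ψ : Subgroup G) : Set G) := by
        rw [Subgroup.mem_normalizer_iff_map_conj_eq]
        refine Subgroup.eq_of_le_of_card_ge ?_ (le_of_eq
          (Subgroup.card_map_of_injective (MulAut.conj g).injective).symm)
        rintro _ ⟨_, ⟨w, hw, rfl⟩, rfl⟩
        exact hgV w hw
      set R' := R ⊓ Subgroup.normalizer ((V6.map P.ψ : Subgroup G) : Set G)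
      have hb := two_group_bound _ hV4 hC R' (hR.to_le inf_le_left) inf_le_right
      have hTR' : P.TT ≤ R' := le_inf hTR hTN
      have heq := Subgroup.eq_of_le_of_card_ge hTR' (by rw [P.card_TT]; exact hb)
      exact hgn (heq ▸ Subgroup.mem_inf.mpr ⟨hgR, hgNV⟩)
    have hVnorm2 : ∀ t, inD t → ∀ w ∈ A6.V2, t * w * t⁻¹ ∈ A6.V2 := by
      intro t ht w hw
      obtain ⟨⟨h1, h2⟩, -⟩ := d_norm t ht
      rcases hw with rfl | rfl | rfl | rfl
      · rw [mul_one, mul_inv_cancel]; exact one_mem _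
      · exact h1
      · exact h2
      · rw [← conj_mul]; exact mul_mem (show t * vA * t⁻¹ ∈ A6.V2 from h1) (show t * vZ * t⁻¹ ∈ A6.V2 from h2)
    have hVnormB : ∀ t, inD t → ∀ w ∈ VB, t * w * t⁻¹ ∈ VB := by
      intro t ht w hw
      obtain ⟨-, ⟨h1, h2⟩⟩ := d_norm t ht
      rcases hw with rfl | rfl | rfl | rfl
      · rw [mul_one, mul_inv_cancel]; exact one_mem _
      · exact h1
      · exact h2
      · rw [← conj_mul]; exact mul_mem (show t * uA * t⁻¹ ∈ VB from h1) (show t * vZ * t⁻¹ ∈ VB from h2)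
    have hgzinv := P.normalizer_vZ (inv_mem hgN)
    have hv := P.classify hgN hA (IsConj.refl _) hU hne
    have hu := P.classify hgN hU huv hA (Ne.symm hne)
    have two : (g * P.ψ vA * g⁻¹ = P.ψ vA ∨ g * P.ψ vA * g⁻¹ = P.ψ (vA * vZ)) → False := by
      intro h
      refine big A6.V2 card_fours.1 hsmall hVnorm2 (fun w hw => Or.inl hw) ?_
      have hmA : g * P.ψ vA * g⁻¹ ∈ A6.V2.map P.ψ := by
        rcases h with e | e <;> rw [e]
        · exact ⟨vA, Or.inr (Or.inl rfl), rfl⟩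
        · exact ⟨vA * vZ, Or.inr (Or.inr (Or.inr rfl)), rfl⟩
      have hmZ : g * P.ψ vZ * g⁻¹ ∈ A6.V2.map P.ψ := by
        rw [hgz]; exact ⟨vZ, Or.inr (Or.inr (Or.inl rfl)), rfl⟩
      intro w hw
      rcases hw with rfl | rfl | rfl | rfl
      · rw [map_one, mul_one, mul_inv_cancel]; exact one_mem _
      · exact hmA
      · exact hmZ
      · rw [map_mul, ← conj_mul]; exact mul_mem hmA hmZ
    have bee : (g * P.ψ uA * g⁻¹ = P.ψ uA ∨ g * P.ψ uA * g⁻¹ = P.ψ (uA * vZ)) → False := by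
      intro h
      refine big VB card_fours.2 P.vb_small.1 hVnormB (fun w hw => ?_) ?_
      · rcases hw with rfl | rfl | rfl | rfl
        · exact Or.inl (Or.inl rfl)
        · exact hU
        · exact hZ
        · exact hUZ
      have hmA : g * P.ψ uA * g⁻¹ ∈ VB.map P.ψ := by
        rcases h with e | e <;> rw [e]
        · exact ⟨uA, Or.inr (Or.inl rfl), rfl⟩
        · exact ⟨uA * vZ, Or.inr (Or.inr (Or.inr rfl)), rfl⟩
      have hmZ : g * P.ψ vZ * g⁻¹ ∈ VB.map P.ψ := by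
        rw [hgz]; exact ⟨vZ, Or.inr (Or.inr (Or.inl rfl)), rfl⟩
      intro w hw
      rcases hw with rfl | rfl | rfl | rfl
      · rw [map_one, mul_one, mul_inv_cancel]; exact one_mem _
      · exact hmA
      · exact hmZ
      · rw [map_mul, ← conj_mul]; exact mul_mem hmA hmZ
    have hzz' : P.ψ vZ * P.ψ vZ = 1 := by rw [← map_mul, hzz, map_one]
    rcases hv with e | e | e | e | e | e
    · exact two (Or.inl e)
    · exact two (Or.inr e)
    · exact P.not_to_vb hgz (Or.inl e)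
    · exact P.not_to_vb hgz (Or.inr e)
    all_goals
      rcases hu with f | f | f | f | f | f
      · exact P.not_to_vb (g := g⁻¹) hgzinv (Or.inl (conj_inv_of f))
      · refine P.not_to_vb (g := g⁻¹) hgzinv (Or.inr ?_)
        have h1 := conj_inv_of f
        rw [map_mul, show g⁻¹ * (P.ψ vA * P.ψ vZ) * g⁻¹⁻¹ =
          g⁻¹ * P.ψ vA * g⁻¹⁻¹ * (g⁻¹ * P.ψ vZ * g⁻¹⁻¹) by group, hgzinv] at h1
        rw [map_mul, ← h1, mul_assoc _ (P.ψ vZ) (P.ψ vZ), hzz', mul_one]
      · exact bee (Or.inl f)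
      · exact bee (Or.inr f)
      all_goals
        have hp : g * P.ψ (vA * uA) * g⁻¹ = 1 ∨ g * P.ψ (vA * uA) * g⁻¹ = P.ψ vZ := by
          have hm : ∀ a b : A6, inD b → P.ψ a * P.f0 * (P.ψ b * P.f0) = P.ψ (a * b) := fun a b hb => by
            rw [mul_assoc, ← mul_assoc P.f0, (P.f0_comm hb).eq, mul_assoc (P.ψ b), P.f0_sq, mul_one,
              map_mul]
          have h0 : g * P.ψ (vA * uA) * g⁻¹ = g * P.ψ vA * g⁻¹ * (g * P.ψ uA * g⁻¹) := by
            rw [map_mul, conj_mul]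
          rw [e, f] at h0
          first
            | (rw [hm _ _ hU] at h0
               first
                 | exact Or.inl (h0.trans (by rw [← map_one P.ψ]; congr 1; decide +kernel))
                 | exact Or.inr (h0.trans (by congr 1; decide +kernel)))
            | (rw [hm _ _ hUZ] at h0
               first
                 | exact Or.inl (h0.trans (by rw [← map_one P.ψ]; congr 1; decide +kernel))
                 | exact Or.inr (h0.trans (by congr 1; decide +kernel)))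
        rcases hp with hp | hp
        · rw [conj_eq_one_iff, ← map_one P.ψ] at hp
          exact absurd (P.inj hp) (by decide +kernel)
        · have h1 := conj_inv_of hp
          rw [hgzinv] at h1
          exact absurd (P.inj h1) (by decide +kernel)
  -- fusion of two central involutions
  let TS : Sylow 2 G := ⟨P.TT, hTp, fun hQ hle => hmax _ hQ hle⟩
  have hf : P.f0 = P.h * P.ψ yp * P.ψ vZ * (P.h * P.ψ yp)⁻¹ := by
    have h := P.θ_phi
    rw [P.θ_apply, ← hyp, map_mul, map_mul, map_inv] at h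
    rw [← h, mul_inv_rev, P.h_inv]; group
  set g := (P.h * P.ψ yp)⁻¹ with hg
  have hf' : g⁻¹ * P.ψ vZ * g = P.f0 := by rw [hg, inv_inv, hf]
  obtain ⟨n, hn, he⟩ := TS.conj_eq_normalizer_conj_of_mem_centralizer (P.ψ vZ) g
    (Subgroup.mem_centralizer_iff.mpr fun u hu => (P.vZ_central hu).eq)
    (by rw [hf']; exact Subgroup.mem_centralizer_iff.mpr fun u hu => (P.f0_central hu).eq)
  have h1 := P.normalizer_vZ (g := n⁻¹) (inv_mem hn)
  rw [inv_inv] at h1
  rw [hf', h1] at he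
  exact P.f0_notMem vZ he.symm

/-- The relation between the two components. -/
theorem key_commute : Commute (P.θ tgt) (P.ψ vA) := (P.v2_cases.resolve_right P.v2_not_small).1

/-- The centralizer of the first four group. -/
theorem card_cent_v2 : Nat.card (Subgroup.centralizer ((A6.V2.map P.ψ : Subgroup G) : Set G)) = 240 :=
  (P.v2_cases.resolve_right P.v2_not_small).2

end Comp

end CfsgLib.AltNineThree
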