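import Cfsg.Agent.Lib.AltNineThree.FourFuse
import Cfsg.Agent.Lib.SpinAlt.Cover

/-!
The two components generate a copy of the alternating group of degree nine containing the
normalizer of the elementary abelian group.
-/

set_option autoImplicit false
set_option linter.unusedSectionVars false
set_option linter.style.haveILetI false
set_option maxRecDepth 20000

namespace CfsgLib.AltNineThree

open E9 A6
open Equiv

/-- The alternating group of degree nine. -/
abbrev A9 : Type := alternatingGroup (Fin 9)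

namespace A9

/-- The points other than `0` and `1`. -/
def pt (i : Fin 7) : Fin 9 := ⟨(i : ℕ) + 2, by omega⟩

/-- The three-cycles `(01k)`. -/
def x9 (i : Fin 7) : A9 :=
  ⟨swap 0 (pt i) * swap 0 1, Perm.mem_alternatingGroup.mpr (by revert i; decide)⟩

theorem x9_rel : (∀ i, x9 i * x9 i * x9 i = 1) ∧ ∀ i j, i ≠ j → x9 i * x9 j * (x9 i * x9 j) = 1 := by
  refine ⟨?_, ?_⟩ <;> decide +kernel

theorem card_A9 : Nat.card A9 = 181440 := by
  have h := two_mul_nat_card_alternatingGroup (α := Fin 9)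
  rw [Nat.card_perm, Nat.card_fin] at h
  rw [show Nat.factorial 9 = 362880 from rfl] at h
  exact (show Nat.card (alternatingGroup (Fin 9)) = 181440 by omega)

instance : IsSimpleGroup A9 := alternatingGroup.isSimpleGroup (by simp)

theorem closure_x9 : Subgroup.closure (Set.range x9) = ⊤ := by
  apply Subgroup.map_injective (alternatingGroup (Fin 9)).subtype_injective
  rw [← MonoidHom.range_eq_map, Subgroup.range_subtype]
  refine le_antisymm ?_ ((SpinAlt.alt_le_closure (a := (0 : Fin 9)) (b := 1) (by decide)).trans ?_)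
  · rintro _ ⟨x, -, rfl⟩; exact x.2
  · rw [Subgroup.closure_le]
    rintro _ ⟨i, hi0, hi1, rfl⟩
    obtain ⟨p, rfl⟩ : ∃ p, i = pt p := by revert i; decide
    exact ⟨x9 p, Subgroup.subset_closure ⟨p, rfl⟩, rfl⟩

/-- A homomorphism out of `A9` from Carmichael relations. -/
theorem exists_hom {T : Type*} [Group T] (y : Fin 7 → T) (h3 : ∀ i, y i * y i * y i = 1)
    (h2 : ∀ i j, i ≠ j → y i * y j * (y i * y j) = 1) :
    ∃ f : A9 →* T, ∀ i, f (x9 i) = y i := by
  set K := Subgroup.closure ((fun i => (x9 i, y i)) '' ((Finset.univ : Finset (Fin 7)) : Set (Fin 7)))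
    with hK
  obtain ⟨hfin, hcard⟩ := CfsgLib.AltPres.carmichael_card (y := fun i => (x9 i, y i))
    (fun i => Prod.ext (x9_rel.1 i) (h3 i))
    (fun i j h => Prod.ext (x9_rel.2 i j h) (h2 i j h)) Finset.univ
  haveI : Finite K := hfin
  set π1 : K →* A9 := (MonoidHom.fst _ T).comp K.subtype with hπ1
  have hsurj : Function.Surjective π1 := by
    intro x
    have hx : x ∈ K.map (MonoidHom.fst _ T) := by
      rw [hK, MonoidHom.map_closure, ← Set.image_comp, Finset.coe_univ, Set.image_univ]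
      show x ∈ Subgroup.closure (Set.range x9)
      rw [closure_x9]; exact Subgroup.mem_top x
    obtain ⟨k, hk, e⟩ := hx
    exact ⟨⟨k, hk⟩, e⟩
  have hbij : Function.Bijective π1 := by
    rw [Nat.bijective_iff_surjective_and_card]
    refine ⟨hsurj, le_antisymm ?_ (Nat.card_le_card_of_surjective _ hsurj)⟩
    change 2 * Nat.card K ≤ 362880 at hcard
    rw [card_A9]
    omega
  refine ⟨((MonoidHom.snd _ T).comp K.subtype).comp (MulEquiv.ofBijective π1 hbij).symm.toMonoidHom,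
    fun i => ?_⟩
  have hk : (x9 i, y i) ∈ K := Subgroup.subset_closure ⟨i, by simp, rfl⟩
  have e : (MulEquiv.ofBijective π1 hbij).symm (x9 i) = ⟨_, hk⟩ := by
    rw [MulEquiv.symm_apply_eq]; rfl
  simp [e]

/-- The two sets of six points. -/
def blk : Bool → Fin 6 → Fin 9
  | false => ![0, 1, 2, 3, 4, 5]
  | true => ![0, 1, 2, 6, 7, 8]

/-- An element given by its values. -/
def mk9 (f g : Fin 9 → Fin 9) (h1 : ∀ x, g (f x) = x) (h2 : ∀ x, f (g x) = x)
    (h3 : Perm.sign (⟨f, g, h1, h2⟩ : Perm (Fin 9)) = 1) : A9 :=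
  ⟨⟨f, g, h1, h2⟩, Perm.mem_alternatingGroup.mpr h3⟩

/-- The embedding of `A6` on the first six points. -/
def ι1 : A6 →* A9 where
  toFun x := ⟨finSumFinEquiv.permCongr (Perm.sumCongr (x : Perm (Fin 6)) (1 : Perm (Fin 3))), by
    rw [Perm.mem_alternatingGroup, Perm.sign_permCongr, Perm.sign_sumCongr,
      Perm.mem_alternatingGroup.mp x.2, map_one, one_mul]⟩
  map_one' := by decide +kernel
  map_mul' x y := Subtype.ext (by
    show _ = finSumFinEquiv.permCongr _ * finSumFinEquiv.permCongr _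
    ext z
    obtain ⟨z, rfl⟩ := finSumFinEquiv.surjective z
    cases z <;> simp [Equiv.permCongr_apply])

/-- `(12)(36)(47)(58)`. -/
def hP : A9 := mk9 ![0, 2, 1, 6, 7, 8, 3, 4, 5] ![0, 2, 1, 6, 7, 8, 3, 4, 5]
  (by decide) (by decide) (by decide)

/-- The embedding of `A6` on `{0,1,2,6,7,8}`. -/
def ι2 : A6 →* A9 := ((MulAut.conj hP).toMonoidHom.comp ι1).comp (conj6 (swap 1 2))

theorem ι_gen :
    (∀ i : Fin 4, ι1 (xg i) = x9 ⟨i, by omega⟩) ∧
    (ι2 a6 = x9 0 ∧ ι2 w6 = x9 4 ∧ ι2 w4 = x9 5 ∧ ι2 w5 = x9 6) ∧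
    hP * hP = 1 ∧ conj6 (swap 1 2) a6 = a6⁻¹ ∧ conj6 (swap 1 2) b6 = b6 ∧
    conj6 (swap 1 2) w6 = tgt ∧ b6 * b6 = b6⁻¹ := by
  decide +kernel

theorem el_gen :
    E9.el (mk' 1) = (x9 0 : Perm (Fin 9)) ∧ E9.el (mk' 3) = (ι1 b6 : Perm (Fin 9)) ∧
    E9.el (mk' 9) = (ι2 b6 : Perm (Fin 9)) ∧ E9.el (mk' 243) = (ι1 f6 : Perm (Fin 9)) ∧
    E9.el (mk' 162) = (hP : Perm (Fin 9)) := by
  decide +kernel

/-- The model inside `A9`. -/
def e9 : E9 →* A9 := E9.elHom.codRestrict _ fun x => (E9.el_mem x).1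

theorem e9_val (x : E9) : ((e9 x : A9) : Perm (Fin 9)) = E9.el x := rfl

end A9

namespace E9

/-- Words for the complement in `(03)(1425)` and `(12)(36)(47)(58)`. -/
def wWord : List (List ℕ) := [[], [243, 243, 162, 243, 243, 162], [162, 243, 243, 162], [243, 243],
  [243, 243, 162], [162, 243, 243], [162], [243, 243, 162, 243, 243], [162, 243, 243, 162, 243],
  [243], [243, 243, 243], [243, 162, 243, 243, 162], [243, 243, 243, 162], [243, 162, 243, 243],
  [243, 162], [243, 243, 243, 162, 243, 243], [162, 243], [243, 243, 162, 243],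
  [243, 243, 243, 162, 243, 162], [243, 162, 243, 162], [243, 162, 243], [243, 243, 243, 162, 243],
  [162, 243, 162], [243, 243, 162, 243, 162]]

/-- A word for a code. -/
def wordX (x : ℕ) : List ℕ :=
  List.replicate (x % 3) 1 ++ List.replicate (x / 3 % 3) 3 ++ List.replicate (x % 27 / 9) 9 ++
    wWord.getD (x / 27) []

theorem wordX_ok : allC (fun x => Nat.beq ((wordX x).foldl mulC 0) x &&
    (wordX x).all fun n => [1, 3, 9, 243, 162].contains n) = true := by decide +kernel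

theorem code_fold (l : List ℕ) (hl : ∀ n ∈ l, n < 648) (z : E9) :
    ((l.foldl (fun a n => a * mk' n) z).c : ℕ) = l.foldl mulC (z.c : ℕ) := by
  induction l generalizing z with
  | nil => rfl
  | cons n l ih =>
    rw [List.foldl_cons, List.foldl_cons, ih (fun m hm => hl m (List.mem_cons_of_mem _ hm)), code_mul,
      code_mk (hl n List.mem_cons_self)]

theorem gens_top (K : Subgroup E9) (h1 : mk' 1 ∈ K) (h3 : mk' 3 ∈ K) (h9 : mk' 9 ∈ K)
    (hf : mk' 243 ∈ K) (hh : mk' 162 ∈ K) : K = ⊤ := by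
  rw [eq_top_iff]
  intro x _
  have h := all_spec wordX_ok x
  rw [Bool.and_eq_true, Nat.beq_eq, List.all_eq_true] at h
  obtain ⟨he, hm⟩ := h
  have hm' : ∀ n ∈ wordX (x.c : ℕ), n = 1 ∨ n = 3 ∨ n = 9 ∨ n = 243 ∨ n = 162 := fun n hn => by
    simpa using hm n hn
  have hlt : ∀ n ∈ wordX (x.c : ℕ), n < 648 := fun n hn => by
    rcases hm' n hn with rfl | rfl | rfl | rfl | rfl <;> norm_num
  have hmem : ∀ (l : List ℕ), (∀ n ∈ l, mk' n ∈ K) → ∀ z ∈ K, l.foldl (fun a n => a * mk' n) z ∈ K := by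
    intro l
    induction l with
    | nil => exact fun _ z hz => hz
    | cons n l ih =>
      intro hl z hz
      exact ih (fun m hm => hl m (List.mem_cons_of_mem _ hm)) _ (mul_mem hz (hl n List.mem_cons_self))
  have hx : x = (wordX (x.c : ℕ)).foldl (fun a n => a * mk' n) 1 := code_inj (by
    rw [code_fold _ hlt, code_one, he])
  rw [hx]
  refine hmem _ (fun n hn => ?_) 1 (one_mem K)
  rcases hm' n hn with rfl | rfl | rfl | rfl | rfl <;> assumption

end E9

namespace Comp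

variable {G : Type*} [Group G] [Finite G] {S : Setup G} (P : Comp S)

/-- The component on `{0,1,2,6,7,8}`. -/
def η : A6 →* G := P.θ.comp (conj6 (swap 1 2))

theorem η_apply (y : A6) : P.η y = P.h * P.ψ (conj6 (swap 1 2) y) * P.h := P.θ_apply _

theorem η_a : P.η a6 = P.ψ a6 := by
  rw [P.η_apply, A9.ι_gen.2.2.2.1, map_inv, P.ha, ← map_inv]
  have e : (((aE : E9)⁻¹).c : ℕ) = 2 := by rw [code_inv, code_named.1]; decide +kernel
  refine (P.h_conj (r := conjC 162 2) (by rw [e])).trans (congrArg S.Φ (code_inj ?_))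
  rw [code_mk (show conjC 162 2 < 648 by decide +kernel), code_named.1]
  decide +kernel

theorem η_b : P.η b6 = P.c := by
  show P.θ _ = _
  rw [A9.ι_gen.2.2.2.2.1, P.θ_b]

theorem η_comm_b (y : A6) : Commute (P.η y) P.b := P.θ_comm_b _

theorem η_key : Commute (P.η w6) (P.ψ vA) := by
  show Commute (P.θ _) _
  rw [A9.ι_gen.2.2.2.2.2.1]
  exact P.key_commute

theorem cross_base : P.ψ w6 * P.η w6 * (P.ψ w6 * P.η w6) = 1 := by
  obtain ⟨-, -, -, -, -, -, -, -, -, hv⟩ := conj_gens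
  have hvv : P.ψ vA * P.ψ vA = 1 := by rw [← map_mul, d_named.2.2.2.2.2.2.2.1, map_one]
  have hsq : P.η a6 * P.η w6 * (P.η a6 * P.η w6) = 1 := by
    have h : a6 * w6 * (a6 * w6) = 1 := xg_rel.2 0 1 (by decide)
    rw [← map_mul, ← map_mul, h, map_one]
  have e : P.ψ w6 * P.η w6 = P.ψ vA * (P.η a6 * P.η w6) * P.ψ vA := by
    rw [show P.ψ w6 = P.ψ vA * P.ψ a6 * P.ψ vA by rw [← map_mul, ← map_mul, hv], P.η_a,
      mul_assoc (P.ψ vA * P.ψ a6), ← P.η_key.eq]
    group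
  rw [e]
  calc P.ψ vA * (P.η a6 * P.η w6) * P.ψ vA * (P.ψ vA * (P.η a6 * P.η w6) * P.ψ vA)
      = P.ψ vA * (P.η a6 * P.η w6) * (P.ψ vA * P.ψ vA) * (P.η a6 * P.η w6) * P.ψ vA := by group
    _ = P.ψ vA * (P.η a6 * P.η w6 * (P.η a6 * P.η w6)) * P.ψ vA := by rw [hvv, mul_one]; group
    _ = 1 := by rw [hsq, mul_one, hvv]

theorem cross (p q : ℕ) :
    P.ψ (b6 ^ p * w6 * (b6 ^ p)⁻¹) * P.η (b6 ^ q * w6 * (b6 ^ q)⁻¹) *
      (P.ψ (b6 ^ p * w6 * (b6 ^ p)⁻¹) * P.η (b6 ^ q * w6 * (b6 ^ q)⁻¹)) = 1 := by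
  have hc : Commute (P.c ^ q) (P.ψ w6) := ((P.comm_c w6).pow_right q).symm
  have hb : Commute (P.b ^ p) (P.η (b6 ^ q * w6 * (b6 ^ q)⁻¹)) := ((P.η_comm_b _).pow_right p).symm
  set g := P.b ^ p * P.c ^ q with hg
  have e1 : P.ψ (b6 ^ p * w6 * (b6 ^ p)⁻¹) = g * P.ψ w6 * g⁻¹ := by
    rw [hg, mul_inv_rev, mul_assoc (P.b ^ p) (P.c ^ q), hc.eq]
    simp only [map_mul, map_inv, map_pow, P.ψ_b]
    group
  have e2 : P.η (b6 ^ q * w6 * (b6 ^ q)⁻¹) = g * P.η w6 * g⁻¹ := by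
    have h' : P.η (b6 ^ q * w6 * (b6 ^ q)⁻¹) = P.c ^ q * P.η w6 * (P.c ^ q)⁻¹ := by
      simp only [map_mul, map_inv, map_pow, P.η_b]
    calc P.η (b6 ^ q * w6 * (b6 ^ q)⁻¹)
        = P.b ^ p * P.η (b6 ^ q * w6 * (b6 ^ q)⁻¹) * (P.b ^ p)⁻¹ := by
          rw [hb.eq, mul_inv_cancel_right]
      _ = _ := by rw [h', hg]; group
  rw [e1, e2, conj_mul, conj_mul, P.cross_base, mul_one, mul_inv_cancel]

/-- The seven generators. -/
def gen9 : Fin 7 → G := ![P.ψ a6, P.ψ w6, P.ψ w4, P.ψ w5, P.η w6, P.η w4, P.η w5]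

theorem gen9_rel : (∀ i, P.gen9 i * P.gen9 i * P.gen9 i = 1) ∧
    ∀ i j, i ≠ j → P.gen9 i * P.gen9 j * (P.gen9 i * P.gen9 j) = 1 := by
  have hψ : ∀ i : Fin 4, P.gen9 ⟨i, by omega⟩ = P.ψ (xg i) := by intro i; fin_cases i <;> rfl
  have hη : ∀ i : Fin 4, P.gen9 (![0, 4, 5, 6] i) = P.η (xg i) := by
    intro i; fin_cases i
    · exact P.η_a.symm
    all_goals rfl
  refine ⟨fun i => ?_, fun i j hij => ?_⟩
  · obtain ⟨k, hk⟩ : ∃ k : Fin 4, i = ⟨k, by omega⟩ ∨ i = ![0, 4, 5, 6] k := by revert i; decide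
    rcases hk with rfl | rfl
    · rw [hψ, ← map_mul, ← map_mul, xg_rel.1, map_one]
    · rw [hη, ← map_mul, ← map_mul, xg_rel.1, map_one]
  · have hsym : ∀ {u v : G}, u * v * (u * v) = 1 → v * u * (v * u) = 1 := fun {u v} h =>
      calc v * u * (v * u) = u⁻¹ * (u * v * (u * v)) * u := by group
        _ = 1 := by rw [h, mul_one, inv_mul_cancel]
    have hw : ∀ (f : A6 →* G) (k : Fin 3), f (xg k.succ) = f (b6 ^ (k : ℕ) * w6 * (b6 ^ (k : ℕ))⁻¹) := by
      intro f k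
      refine congrArg f ?_
      revert k; decide +kernel
    obtain ⟨k, l, hkl⟩ : ∃ k l : Fin 4, k ≠ l ∧ (i = ⟨k, by omega⟩ ∧ j = ⟨l, by omega⟩ ∨
        i = ![0, 4, 5, 6] k ∧ j = ![0, 4, 5, 6] l ∨
        (k ≠ 0 ∧ l ≠ 0 ∧ (i = ⟨k, by omega⟩ ∧ j = ![0, 4, 5, 6] l ∨
          j = ⟨k, by omega⟩ ∧ i = ![0, 4, 5, 6] l))) ∨
        (k = l ∧ k ≠ 0 ∧ (i = ⟨k, by omega⟩ ∧ j = ![0, 4, 5, 6] l ∨
          j = ⟨k, by omega⟩ ∧ i = ![0, 4, 5, 6] l)) := by
      revert i j; decide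
    rcases hkl with ⟨hne, ⟨rfl, rfl⟩ | ⟨rfl, rfl⟩ | ⟨hk, hl, h⟩⟩ | ⟨rfl, hk, h⟩
    · rw [hψ, hψ, ← map_mul, ← map_mul, xg_rel.2 _ _ hne, map_one]
    · rw [hη, hη, ← map_mul, ← map_mul, xg_rel.2 _ _ hne, map_one]
    · obtain ⟨k', rfl⟩ := Fin.exists_succ_eq.mpr hk
      obtain ⟨l', rfl⟩ := Fin.exists_succ_eq.mpr hl
      rcases h with ⟨rfl, rfl⟩ | ⟨rfl, rfl⟩
      · rw [hψ, hη, hw P.ψ, hw P.η]; exact P.cross _ _
      · refine hsym ?_
        rw [hψ, hη, hw P.ψ, hw P.η]; exact P.cross _ _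
    · obtain ⟨k', rfl⟩ := Fin.exists_succ_eq.mpr hk
      rcases h with ⟨rfl, rfl⟩ | ⟨rfl, rfl⟩
      · rw [hψ, hη, hw P.ψ, hw P.η]; exact P.cross _ _
      · refine hsym ?_
        rw [hψ, hη, hw P.ψ, hw P.η]; exact P.cross _ _

/-- The copy of `A9`. -/
theorem exists_phi : ∃ F : A9 →* G, Function.Injective F ∧ F.comp A9.ι1 = P.ψ ∧ F.comp A9.ι2 = P.η ∧
    ∀ x : E9, F (A9.e9 x) = S.Φ x := by
  obtain ⟨F, hF⟩ := A9.exists_hom P.gen9 P.gen9_rel.1 P.gen9_rel.2
  obtain ⟨i1, ⟨i20, i21, i22, i23⟩, hPP, -⟩ := A9.ι_gen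
  have h1 : F.comp A9.ι1 = P.ψ := A6.eq_of_xg fun i => by
    rw [MonoidHom.comp_apply, i1, hF]
    fin_cases i <;> rfl
  have h2 : F.comp A9.ι2 = P.η := A6.eq_of_xg fun i => by
    rw [MonoidHom.comp_apply]
    fin_cases i
    · show F (A9.ι2 a6) = P.η a6
      rw [i20, hF, P.η_a]; rfl
    · show F (A9.ι2 w6) = P.η w6
      rw [i21, hF]; rfl
    · show F (A9.ι2 w4) = P.η w4
      rw [i22, hF]; rfl
    · show F (A9.ι2 w5) = P.η w5
      rw [i23, hF]; rfl
  have hinj : Function.Injective F := by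
    rw [← MonoidHom.ker_eq_bot_iff]
    refine (IsSimpleGroup.eq_bot_or_eq_top_of_normal F.ker inferInstance).resolve_right fun h => ?_
    have : A6.a6 = 1 := P.inj (by
      rw [map_one, ← h1, MonoidHom.comp_apply]
      exact MonoidHom.mem_ker.mp (h ▸ Subgroup.mem_top _))
    exact absurd this (by decide +kernel)
  have hψ : ∀ y, F (A9.ι1 y) = P.ψ y := DFunLike.congr_fun h1
  have hη : ∀ y, F (A9.ι2 y) = P.η y := DFunLike.congr_fun h2
  have hh : F A9.hP = P.h := by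
    have hinv : A9.hP⁻¹ = A9.hP := inv_eq_of_mul_eq_one_right hPP
    have hF2 : F A9.hP * F A9.hP = 1 := by rw [← map_mul, hPP, map_one]
    have hswap : ∀ y, F A9.hP * P.ψ y * F A9.hP = P.h * P.ψ y * P.h := fun y => by
      have e : A9.hP * A9.ι1 y * A9.hP = A9.ι2 (conj6 (swap 1 2) y) := by
        show _ = A9.hP * A9.ι1 (conj6 (swap 1 2) (conj6 (swap 1 2) y)) * A9.hP⁻¹
        rw [hinv]
        congr 2
        refine congrArg A9.ι1 ?_
        exact ((congrArg (fun σ => conj6 (swap 1 2) (conj6 σ y)) (swap_inv 1 2).symm).trans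
          (conj6_inv (swap 1 2) y)).symm
      rw [← hψ, ← map_mul, ← map_mul, e, hη, P.η_apply, hψ]
      congr 3
      exact (congrArg (fun σ => conj6 (swap 1 2) (conj6 σ y)) (swap_inv 1 2).symm).trans
        (conj6_inv (swap 1 2) y)
    set d := P.h * F A9.hP with hd
    have hdψ : ∀ y, Commute d (P.ψ y) := fun y => by
      show d * P.ψ y = P.ψ y * d
      calc d * P.ψ y = P.h * F A9.hP * P.ψ y * (F A9.hP * F A9.hP) := by rw [hd, hF2, mul_one]
        _ = P.h * (F A9.hP * P.ψ y * F A9.hP) * F A9.hP := by group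
        _ = (P.h * P.h) * P.ψ y * d := by rw [hswap, hd]; group
        _ = _ := by rw [P.h_sq, one_mul]
    have hdθ : ∀ y, Commute d (P.θ y) := fun y => by
      show d * P.θ y = P.θ y * d
      have e : F A9.hP * P.θ y * F A9.hP = P.ψ y := by
        rw [P.θ_apply, ← hswap]
        calc F A9.hP * (F A9.hP * P.ψ y * F A9.hP) * F A9.hP
            = (F A9.hP * F A9.hP) * P.ψ y * (F A9.hP * F A9.hP) := by group
          _ = _ := by rw [hF2, one_mul, mul_one]
      calc d * P.θ y = P.h * F A9.hP * P.θ y * (F A9.hP * F A9.hP) := by rw [hd, hF2, mul_one]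
        _ = P.h * (F A9.hP * P.θ y * F A9.hP) * F A9.hP := by group
        _ = P.h * P.ψ y * (P.h * P.h) * F A9.hP := by rw [e, P.h_sq, mul_one]
        _ = _ := by rw [P.θ_apply, hd]; group
    have hdc : Commute d P.c := by rw [← P.θ_b]; exact hdθ _
    obtain ⟨y, k, hk, hy⟩ := P.exists_coord hdc
    have hy1 : y = 1 := by
      have h : ∀ z : A6, y * z = z * y := fun z => P.inj (by
        rw [map_mul, map_mul]
        have := (hdψ z).eq
        rw [hy, mul_assoc, ← ((P.comm_c z).pow_right k).eq, ← mul_assoc, ← mul_assoc] at this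
        exact mul_right_cancel this)
      exact center_trivial y (h a6) (h b6) (h w6)
    rw [hy1, map_one, one_mul] at hy
    have hk0 : b6 ^ k = 1 := by
      have h : ∀ z : A6, b6 ^ k * z = z * b6 ^ k := fun z => P.θ_inj (by
        rw [map_mul, map_mul, map_pow, P.θ_b, ← hy]
        exact (hdθ z).eq)
      exact center_trivial _ (h a6) (h b6) (h w6)
    have hk' : k = 0 := by
      interval_cases k <;> first | rfl | exact absurd hk0 (by decide +kernel)
    rw [hk', pow_zero, hd] at hy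
    rw [← one_mul (F A9.hP), ← P.h_sq, mul_assoc, hy, mul_one]
  refine ⟨F, hinj, h1, h2, ?_⟩
  have hval : ∀ (n : ℕ) (z : A9), E9.el (mk' n) = (z : Perm (Fin 9)) → A9.e9 (mk' n) = z :=
    fun n z e => Subtype.ext e
  obtain ⟨g1, g3, g9, gf, gh⟩ := A9.el_gen
  have K := E9.gens_top ((F.comp A9.e9).eqLocus S.Φ) ?_ ?_ ?_ ?_ ?_
  · intro x
    exact (show x ∈ (F.comp A9.e9).eqLocus S.Φ from K ▸ Subgroup.mem_top x)
  · show F (A9.e9 (mk' 1)) = S.Φ aE
    rw [hval _ _ g1, hF]; exact P.ha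
  · show F (A9.e9 (mk' 3)) = S.Φ bE
    rw [hval _ _ g3, hψ]; exact P.hb
  · show F (A9.e9 (mk' 9)) = P.c
    rw [hval _ _ g9, hη, P.η_b]
  · show F (A9.e9 (mk' 243)) = S.Φ fcE
    rw [hval _ _ gf, hψ]; exact P.hf
  · show F (A9.e9 (mk' 162)) = P.h
    rw [hval _ _ gh, hh]

end Comp

end CfsgLib.AltNineThree
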