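import Cfsg.Agent.Lib.AltNineThree.Model

/-!
The 648 element model is the normalizer `N9`; generators, classes.
-/

set_option autoImplicit false
set_option maxRecDepth 20000

open Equiv

namespace CfsgLib.AltNineThree

attribute [local instance 2000] List.decidableBAll List.decidableBEx

/-- The normalizer of `⟨(012),(345),(678)⟩` inside the alternating group. -/
def N9 : Subgroup (Perm (Fin 9)) :=
  alternatingGroup (Fin 9) ⊓ Subgroup.normalizer
    ((Subgroup.closure {g0, g1, g2} : Subgroup (Perm (Fin 9))) : Set (Perm (Fin 9)))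

/-- Membership in the translation part. -/
abbrev InJ (p : Perm (Fin 9)) : Prop := ∃ v : Fin 27, jP v = p

theorem g_eq : jP 1 = g0 ∧ jP 3 = g1 ∧ jP 9 = g2 := by decide +kernel

theorem jP_zero : jP 0 = 1 ∧ entN vAddTab 0 = 0 := by decide +kernel

theorem mem_J0 {p : Perm (Fin 9)} : p ∈ Subgroup.closure {g0, g1, g2} ↔ InJ p := by
  have hlt := tab_bound.1
  constructor
  · intro h
    induction h using Subgroup.closure_induction with
    | mem u hu =>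
      rcases hu with rfl | rfl | rfl
      · exact ⟨1, g_eq.1⟩
      · exact ⟨3, g_eq.2.1⟩
      · exact ⟨9, g_eq.2.2⟩
    | one => exact ⟨0, jP_zero.1⟩
    | mul u v _ _ hu hv =>
      obtain ⟨a, rfl⟩ := hu; obtain ⟨b, rfl⟩ := hv
      exact ⟨⟨_, hlt ⟨27 * (a : ℕ) + b, by omega⟩⟩, (jP_add a b).symm⟩
    | inv u _ hu =>
      obtain ⟨a, rfl⟩ := hu
      refine ⟨⟨negV a, ?_⟩, eq_inv_of_mul_eq_one_left ?_⟩
      · exact hlt ⟨27 * (a : ℕ) + a, by omega⟩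
      · have : ∀ a : Fin 27, jP (negV a) * jP a = 1 := by decide +kernel
        exact this a
  · rintro ⟨a, rfl⟩
    rw [jP_gen]
    exact mul_mem (mul_mem (pow_mem (Subgroup.subset_closure (by simp)) _)
      (pow_mem (Subgroup.subset_closure (by simp)) _)) (pow_mem (Subgroup.subset_closure (by simp)) _)

theorem wP_sign : (∀ w : Fin 24, Perm.sign (wP w) = 1) ∧ ∀ v : Fin 27, Perm.sign (jP v) = 1 := by
  decide +kernel

theorem el_conj_J : ∀ (w : Fin 24) (v : Fin 27), InJ (wP w * jP v * (wP w)⁻¹) := by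
  intro w v
  refine ⟨⟨_, tab_bound.2.2.1 ⟨27 * (w : ℕ) + v, by omega⟩⟩, ?_⟩
  rw [wP_act, mul_inv_cancel_right]

namespace E9

theorem el_eq (x : E9) :
    el x = jP ((x.c : ℕ) % 27) * wP ((x.c : ℕ) / 27) := rfl

theorem el_mem (x : E9) : el x ∈ N9 := by
  have hu : (x.c : ℕ) % 27 < 27 := Nat.mod_lt _ (by norm_num)
  have ha : (x.c : ℕ) / 27 < 24 := by omega
  set u : Fin 27 := ⟨_, hu⟩
  set a : Fin 24 := ⟨_, ha⟩
  show jP u * wP a ∈ N9
  refine ⟨Perm.mem_alternatingGroup.mpr (by rw [Perm.sign_mul, wP_sign.1, wP_sign.2, one_mul]), ?_⟩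
  refine (Subgroup.normalizer _).mul_mem (Subgroup.le_normalizer (mem_J0.mpr ⟨u, rfl⟩)) ?_
  show wP a ∈ Subgroup.normalizer _
  rw [Subgroup.mem_normalizer_iff_map_conj_eq]
  refine Subgroup.eq_of_le_of_card_ge ?_ (le_of_eq
    (Subgroup.card_map_of_injective (MulAut.conj (wP a)).injective).symm)
  rintro _ ⟨p, hp, rfl⟩
  obtain ⟨v, rfl⟩ := mem_J0.mp hp
  exact mem_J0.mpr (el_conj_J a v)

end E9

/-- Three-cycles in the translation part. -/
theorem three_cycle : ∀ v : Fin 27,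
    (Finset.univ.filter fun x : Fin 9 => jP v x = x).card = 6 →
      (v : ℕ) ∈ [1, 2, 3, 6, 9, 18] := by decide +kernel

theorem g_fix : (Finset.univ.filter fun x : Fin 9 => g0 x = x).card = 6 ∧
    (Finset.univ.filter fun x : Fin 9 => g1 x = x).card = 6 ∧
    (Finset.univ.filter fun x : Fin 9 => g2 x = x).card = 6 := by decide +kernel

/-- The complement realizes every admissible action on the three cycles, up to inverting `(678)`. -/
theorem exists_w : ∀ a ∈ [1, 2, 3, 6, 9, 18], ∀ b ∈ [1, 2, 3, 6, 9, 18], ∀ c ∈ [1, 2, 3, 6, 9, 18],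
    jP a = jP b ∨ jP a = (jP b)⁻¹ ∨ jP a = jP c ∨ jP a = (jP c)⁻¹ ∨ jP b = jP c ∨ jP b = (jP c)⁻¹ ∨
    ∃ w : Fin 24, wP w * g0 * (wP w)⁻¹ = jP a ∧ wP w * g1 * (wP w)⁻¹ = jP b ∧
      (wP w * g2 * (wP w)⁻¹ = jP c ∨ wP w * g2⁻¹ * (wP w)⁻¹ = jP c) := by decide +kernel

theorem pinned : ∀ i j k : Fin 9, g0 i ≠ i → g1 j ≠ j → g2 k ≠ k →
    ∀ p ∈ [true, false], ∃ v : Fin 27, ∀ r : Fin 3,
      ((if p then jP v else jP v * swap 7 8) (((g0 ^ (r : ℕ)) : Perm (Fin 9)) 0)) = ((g0 ^ (r : ℕ)) : Perm (Fin 9)) i ∧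
      ((if p then jP v else jP v * swap 7 8) (((g1 ^ (r : ℕ)) : Perm (Fin 9)) 3)) = ((g1 ^ (r : ℕ)) : Perm (Fin 9)) j ∧
      ((if p then jP v else jP v * swap 7 8) (((g2 ^ (r : ℕ)) : Perm (Fin 9)) 6)) =
        (((if p then g2 else g2⁻¹) ^ (r : ℕ)) : Perm (Fin 9)) k := by decide +kernel

theorem cover : ∀ x : Fin 9, ∃ r : Fin 3, ((g0 ^ (r : ℕ)) : Perm (Fin 9)) 0 = x ∨
    ((g1 ^ (r : ℕ)) : Perm (Fin 9)) 3 = x ∨ ((g2 ^ (r : ℕ)) : Perm (Fin 9)) 6 = x := by decide +kernel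

theorem g_move : g0 0 ≠ 0 ∧ g1 3 ≠ 3 ∧ g2 6 ≠ 6 ∧ g2⁻¹ 6 ≠ 6 ∧ Perm.sign (swap (7 : Fin 9) 8) = -1 ∧
    g0 ≠ g1 ∧ g0 ≠ g2 ∧ g1 ≠ g2 ∧ g0 ≠ g1⁻¹ ∧ g0 ≠ g2⁻¹ ∧ g1 ≠ g2⁻¹ := by decide +kernel

theorem exists_el {σ : Perm (Fin 9)} (hσ : σ ∈ N9) : ∃ x : E9, E9.el x = σ := by
  obtain ⟨hev, hn⟩ : σ ∈ alternatingGroup (Fin 9) ∧ σ ∈ Subgroup.normalizer _ := hσ
  have him : ∀ g, g ∈ Subgroup.closure {g0, g1, g2} →
      (Finset.univ.filter fun x : Fin 9 => g x = x).card = 6 →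
      ∃ n ∈ [1, 2, 3, 6, 9, 18], jP n = σ * g * σ⁻¹ := by
    intro g hg hc
    obtain ⟨v, hv⟩ := mem_J0.mp ((Subgroup.mem_normalizer_iff.mp hn g).mp hg)
    refine ⟨v, three_cycle v ?_, hv⟩
    rw [hv, ← hc]
    refine Finset.card_bij (fun x _ => σ⁻¹ x) (fun x hx => ?_) (fun x _ y _ e => σ⁻¹.injective e)
      fun x hx => ⟨σ x, ?_, by simp⟩
    · refine Finset.mem_filter.mpr ⟨Finset.mem_univ _, σ.injective ?_⟩
      have h := (Finset.mem_filter.mp hx).2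
      rw [Perm.mul_apply, Perm.mul_apply] at h
      rw [h]
      simp
    · refine Finset.mem_filter.mpr ⟨Finset.mem_univ _, ?_⟩
      simp [Perm.mul_apply, (Finset.mem_filter.mp hx).2]
  obtain ⟨a, ha, ea⟩ := him g0 (Subgroup.subset_closure (by simp)) g_fix.1
  obtain ⟨b, hb, eb⟩ := him g1 (Subgroup.subset_closure (by simp)) g_fix.2.1
  obtain ⟨c, hc, ec⟩ := him g2 (Subgroup.subset_closure (by simp)) g_fix.2.2
  obtain ⟨m0, m1, m2, m2', hsw, n01, n02, n12, i01, i02, i12⟩ := g_move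
  obtain ⟨w, w0, w1, w2⟩ : ∃ w : Fin 24, wP w * g0 * (wP w)⁻¹ = jP a ∧ wP w * g1 * (wP w)⁻¹ = jP b ∧
      (wP w * g2 * (wP w)⁻¹ = jP c ∨ wP w * g2⁻¹ * (wP w)⁻¹ = jP c) := by
    have hinj : ∀ g h : Perm (Fin 9), σ * g * σ⁻¹ = σ * h * σ⁻¹ → g = h := fun g h e => conj_injective e
    have hinv : ∀ g : Perm (Fin 9), (σ * g * σ⁻¹)⁻¹ = σ * g⁻¹ * σ⁻¹ := fun g => by group
    rcases exists_w a ha b hb c hc with e | e | e | e | e | e | h
    · exact absurd (hinj _ _ (ea ▸ eb ▸ e)) n01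
    · exact absurd (hinj _ _ ((ea ▸ eb ▸ e).trans (hinv g1))) i01
    · exact absurd (hinj _ _ (ea ▸ ec ▸ e)) n02
    · exact absurd (hinj _ _ ((ea ▸ ec ▸ e).trans (hinv g2))) i02
    · exact absurd (hinj _ _ (eb ▸ ec ▸ e)) n12
    · exact absurd (hinj _ _ ((eb ▸ ec ▸ e).trans (hinv g2))) i12
    · exact h
  set τ := (wP w)⁻¹ * σ with hτ
  have hc0 : τ * g0 = g0 * τ := by
    have h : τ * g0 * τ⁻¹ = g0 := by
      rw [hτ, show (wP w)⁻¹ * σ * g0 * ((wP w)⁻¹ * σ)⁻¹ = (wP w)⁻¹ * (σ * g0 * σ⁻¹) * wP w by group,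
        ← ea, ← w0]; group
    exact mul_inv_eq_iff_eq_mul.mp h
  have hc1 : τ * g1 = g1 * τ := by
    have h : τ * g1 * τ⁻¹ = g1 := by
      rw [hτ, show (wP w)⁻¹ * σ * g1 * ((wP w)⁻¹ * σ)⁻¹ = (wP w)⁻¹ * (σ * g1 * σ⁻¹) * wP w by group,
        ← eb, ← w1]; group
    exact mul_inv_eq_iff_eq_mul.mp h
  obtain ⟨p, hc2⟩ : ∃ p : Bool, τ * g2 = (if p then g2 else g2⁻¹) * τ := by
    have h : τ * g2 * τ⁻¹ = (wP w)⁻¹ * jP c * wP w := by rw [hτ, ec]; group
    rcases w2 with w2 | w2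
    · exact ⟨true, mul_inv_eq_iff_eq_mul.mp (h.trans (by rw [← w2]; simp [mul_assoc]))⟩
    · exact ⟨false, mul_inv_eq_iff_eq_mul.mp (h.trans (by rw [← w2]; simp [mul_assoc]))⟩
  have hpow : ∀ (g g' : Perm (Fin 9)), τ * g = g' * τ → ∀ (r : ℕ) (x : Fin 9),
      τ ((g ^ r) x) = (g' ^ r) (τ x) := by
    intro g g' h r x
    have e : τ * g ^ r = g' ^ r * τ := by
      induction r with
      | zero => simp
      | succ r ih => rw [pow_succ, pow_succ, ← mul_assoc, ih, mul_assoc, h, mul_assoc]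
    exact congrArg (fun f : Perm (Fin 9) => f x) e
  obtain ⟨v, hv⟩ := pinned (τ 0) (τ 3) (τ 6)
    (fun e => m0 (τ.injective (by simpa [e] using hpow g0 g0 hc0 1 0)))
    (fun e => m1 (τ.injective (by simpa [e] using hpow g1 g1 hc1 1 3)))
    (fun e => m2 (τ.injective (by
      have h := hpow g2 _ hc2 1 6
      cases p
      · simp only [Bool.false_eq_true, if_false, pow_one] at h
        rw [h, Perm.inv_eq_iff_eq]; exact e.symm
      · simpa [e] using h)))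
    p (by cases p <;> simp)
  have hall : τ = if p then jP v else jP v * swap 7 8 := by
    refine Equiv.ext fun x => ?_
    obtain ⟨r, rfl | rfl | rfl⟩ := cover x
    · rw [hpow g0 g0 hc0, (hv r).1]
    · rw [hpow g1 g1 hc1, (hv r).2.1]
    · rw [hpow g2 _ hc2, (hv r).2.2]
  have hsv := wP_sign.2 v
  cases p
  · exfalso
    simp only [Bool.false_eq_true, if_false] at hall
    have h := congrArg Perm.sign hall
    rw [hτ, Perm.sign_mul, Perm.sign_inv, wP_sign.1, Perm.mem_alternatingGroup.mp hev, Perm.sign_mul, hsv,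
      hsw] at h
    exact absurd h (by decide)
  · simp only [if_true] at hall
    have hb : entN actTab (27 * (w : ℕ) + v) < 27 := tab_bound.2.2.1 ⟨_, by omega⟩
    refine ⟨⟨⟨27 * (w : ℕ) + entN actTab (27 * (w : ℕ) + v), by omega⟩⟩, ?_⟩
    show jP _ * wP _ = σ
    rw [show (27 * (w : ℕ) + entN actTab (27 * (w : ℕ) + v)) % 27 = entN actTab (27 * (w : ℕ) + v) by omega,
      show (27 * (w : ℕ) + entN actTab (27 * (w : ℕ) + v)) / 27 = (w : ℕ) by omega, ← wP_act, ← hall, hτ,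
      mul_inv_cancel_left]

/-- The model is the normalizer. -/
noncomputable def eN : E9 ≃* N9 :=
  MulEquiv.ofBijective ((E9.elHom).codRestrict N9 E9.el_mem)
    ⟨fun x y h => E9.el_injective (congrArg Subtype.val h),
      fun σ => (exists_el σ.2).imp fun x hx => Subtype.ext hx⟩

theorem eN_apply (x : E9) : (eN x : Perm (Fin 9)) = E9.el x := rfl

namespace E9

/-- Translations. -/
abbrev IsJ (x : E9) : Prop := (x.c : ℕ) < 27

theorem el_inJ (x : E9) (h : IsJ x) : InJ (el x) := by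
  refine ⟨⟨_, h⟩, ?_⟩
  rw [el_eq, Nat.mod_eq_of_lt h, Nat.div_eq_of_lt h,
    show wP 0 = 1 from (by decide +kernel : wP 0 = 1), mul_one]

theorem isJ_of_el {x : E9} (h : el x ∈ Subgroup.closure {g0, g1, g2}) : IsJ x := by
  obtain ⟨v, hv⟩ := mem_J0.mp h
  have : x = mk' v := el_injective (by
    rw [← hv]
    show jP v = jP (((Fin.ofNat 648 (v : ℕ)) : Fin 648).val % 27) * wP (((Fin.ofNat 648 (v : ℕ)) : Fin 648).val / 27)
    rw [Fin.val_ofNat, Nat.mod_eq_of_lt (show (v : ℕ) < 648 by omega), Nat.mod_eq_of_lt v.isLt,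
      Nat.div_eq_of_lt v.isLt,
      show wP 0 = 1 from (by decide +kernel : wP 0 = 1), mul_one])
  rw [this]
  show ((Fin.ofNat 648 (v : ℕ) : Fin 648) : ℕ) < 27
  rw [Fin.val_ofNat]; omega

end E9

end CfsgLib.AltNineThree
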