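import Cfsg.Prelude.Def_CaseTheorems
import Cfsg.Agent.Lib.AltNineThree.Classes
import Cfsg.Agent.Lib.Transfer.ThompsonComplement
import Cfsg.Agent.Lib.Transfer.Frobenius

/-!
The local setting: `N(J) ≅ 3³:S₄`; Sylow subgroups and fusion in `J`.
-/

set_option autoImplicit false
set_option linter.unusedSectionVars false
set_option linter.style.haveILetI false
set_option maxRecDepth 20000

namespace CfsgLib.AltNineThree

attribute [local instance 2000] List.decidableBAll List.decidableBEx

open E9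

/-- The local data. -/
structure Setup (G : Type*) [Group G] [Finite G] where
  Φ : E9 →* G
  inj : Function.Injective Φ
  norm : ∀ x : G, (∀ j ∈ JE, ∃ j' ∈ JE, x * Φ j * x⁻¹ = Φ j') → x ∈ Φ.range
  core : ∀ e : E9, orderOf (Φ e) = 3 →
    Cfsg.pPrimeCore 3 (Subgroup.centralizer ({Φ e} : Set G)) = ⊥

namespace Setup

variable {G : Type*} [Group G] [Finite G] (S : Setup G)

/-- The image of the translations. -/
def J : Subgroup G := JE.map S.Φ

/-- The image of the Sylow subgroup. -/
def P : Subgroup G := PE.map S.Φ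

theorem Φ_mem_J {x : E9} : S.Φ x ∈ S.J ↔ x ∈ JE :=
  Subgroup.mem_map_iff_mem S.inj

theorem card_J : Nat.card S.J = 27 := by
  rw [J, Subgroup.card_map_of_injective S.inj, card_JE]

theorem card_P : Nat.card S.P = 81 := by
  rw [P, Subgroup.card_map_of_injective S.inj, card_PE]

theorem J_le_P : S.J ≤ S.P := Subgroup.map_mono fun x hx => by
  have h : allJ (fun a => pC a) = true := by decide +kernel
  exact allJ_spec h hx

theorem J_comm {x y : G} (hx : x ∈ S.J) (hy : y ∈ S.J) : x * y = y * x := by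
  obtain ⟨a, ha, rfl⟩ := hx; obtain ⟨b, hb, rfl⟩ := hy
  rw [← map_mul, ← map_mul, JE_comm ha hb]

theorem J_cube {x : G} (hx : x ∈ S.J) : x ^ 3 = 1 := by
  obtain ⟨a, ha, rfl⟩ := hx
  rw [← map_pow, JE_cube ha, map_one]

theorem isPGroup_J : IsPGroup 3 S.J :=
  IsPGroup.of_card (n := 3) (by rw [S.card_J]; norm_num)

theorem isPGroup_P : IsPGroup 3 S.P :=
  IsPGroup.of_card (n := 4) (by rw [S.card_P]; norm_num)

theorem normalizer_J {x : G} (h : x ∈ Subgroup.normalizer (S.J : Set G)) : x ∈ S.Φ.range := by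
  refine S.norm x fun j hj => ?_
  obtain ⟨j', hj', e⟩ := (Subgroup.mem_normalizer_iff.mp h _).mp (S.Φ_mem_J.mpr hj)
  exact ⟨j', hj', e.symm⟩

theorem range_le_normalizer : S.Φ.range ≤ Subgroup.normalizer (S.J : Set G) := by
  rintro _ ⟨h, rfl⟩
  rw [Subgroup.mem_normalizer_iff_map_conj_eq]
  refine Subgroup.eq_of_le_of_card_ge ?_ (le_of_eq
    (Subgroup.card_map_of_injective (MulAut.conj (S.Φ h)).injective).symm)
  rintro _ ⟨_, ⟨j, hj, rfl⟩, rfl⟩
  refine ⟨h * j * h⁻¹, ?_, by simp⟩
  have hc : allJ (fun v => allC fun x => jC (conjC x v)) = true := by decide +kernel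
  show jC ((h * j * h⁻¹).c : ℕ) = true
  rw [code_conj]
  exact all_spec (allJ_spec hc hj) h

/-- The translations are the only abelian subgroup of order 27 of the Sylow subgroup. -/
theorem unique {A : Subgroup G} (hA : A ≤ S.P) (hc : Nat.card A = 27)
    (hcomm : ∀ u ∈ A, ∀ v ∈ A, u * v = v * u) : A = S.J := by
  by_contra hne
  have hnle : ¬ A ≤ S.J := fun h =>
    hne (Subgroup.eq_of_le_of_card_ge h (by rw [hc, S.card_J]))
  obtain ⟨u, hu, hun⟩ := SetLike.not_le_iff_exists.mp hnle
  obtain ⟨e, he, rfl⟩ := hA hu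
  have heJ : jC (e.c : ℕ) = false := by
    by_contra h
    exact hun ⟨e, mem_JE.mpr (by simpa using h), rfl⟩
  have key : ∀ v ∈ A, v ∈ S.J → v = 1 ∨ v = S.Φ zE ∨ v = S.Φ (zE * zE) := by
    intro v hv hvJ
    obtain ⟨j, hj, rfl⟩ := hvJ
    have hcj : e * j = j * e := S.inj (by rw [map_mul, map_mul]; exact hcomm _ hu _ hv)
    have h1 := impB_elim (all_spec cent_outside e) (by
      rw [Bool.and_eq_true, heJ]; exact ⟨he, rfl⟩)
    have h2 := impB_elim (allJ_spec h1 hj) ((comm_iff e j).mpr hcj)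
    simp only [Bool.or_eq_true, Nat.beq_eq] at h2
    rcases h2 with (h | h) | h
    · left; rw [show j = 1 from code_inj h, map_one]
    · right; left; rw [show j = zE from code_inj h]
    · right; right; rw [show j = zE * zE from code_inj (h.trans (by decide +kernel))]
  have h9 : Nat.card ↥(A ⊓ S.J) ≤ 3 := by
    classical
    let f : ↥(A ⊓ S.J) → Fin 3 := fun v => if (v : G) = 1 then 0 else if (v : G) = S.Φ zE then 1 else 2
    refine (Nat.card_le_card_of_injective f fun v w hvw => Subtype.ext ?_).trans (by simp)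
    rcases key _ v.2.1 v.2.2 with a | a | a <;> rcases key _ w.2.1 w.2.2 with b | b | b <;>
      simp only [f, a, b] at hvw ⊢ <;> (try split_ifs at hvw) <;> simp_all
  have hp : A ⊔ S.J ≤ S.P := sup_le hA S.J_le_P
  have hN : A ≤ Subgroup.normalizer (S.J : Set G) := hA.trans fun x hx => by
    obtain ⟨e', -, rfl⟩ := hx
    exact S.range_le_normalizer ⟨e', rfl⟩
  have h1 := CfsgLib.Coprime.card_sup_mul_card_inf (K := S.J) (S := A) hN
  have h2 := Subgroup.card_le_of_le hp
  rw [S.card_P] at h2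
  rw [sup_comm, inf_comm, S.card_J, hc] at h1
  nlinarith

/-- The Sylow subgroup of `G`. -/
theorem maximal_P {Q : Subgroup G} (hQ : IsPGroup 3 Q) (hle : S.P ≤ Q) : Q = S.P := by
  by_contra hne
  haveI := Fact.mk Nat.prime_three
  haveI := hQ.isNilpotent
  have hlt : S.P.subgroupOf Q < ⊤ := lt_top_iff_ne_top.mpr fun e =>
    hne (le_antisymm (Subgroup.subgroupOf_eq_top.mp e) hle)
  obtain ⟨⟨r, hrQ⟩, hr, hrn⟩ :=
    SetLike.exists_of_lt (Group.normalizerCondition_of_isNilpotent _ hlt)
  rw [Subgroup.mem_subgroupOf] at hrn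
  have hconj : ∀ p ∈ S.P, r * p * r⁻¹ ∈ S.P := fun p hp =>
    Subgroup.mem_subgroupOf.mp ((Subgroup.mem_normalizer_iff.mp hr ⟨p, hle hp⟩).mp
      (Subgroup.mem_subgroupOf.mpr hp))
  have hJ : S.J.map (MulAut.conj r).toMonoidHom = S.J := by
    refine S.unique ?_ ((Subgroup.card_map_of_injective (MulAut.conj r).injective).trans S.card_J) ?_
    · rintro _ ⟨p, hp, rfl⟩; exact hconj p (S.J_le_P hp)
    · rintro _ ⟨p, hp, rfl⟩ _ ⟨q, hq, rfl⟩
      rw [← map_mul, ← map_mul, S.J_comm hp hq]
  have hrR : r ∈ S.Φ.range := S.normalizer_J (Subgroup.mem_normalizer_iff_map_conj_eq.mpr hJ)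
  set M := Q ⊓ S.Φ.range with hM
  have hPM : S.P ≤ M := le_inf hle (by rintro _ ⟨e, -, rfl⟩; exact ⟨e, rfl⟩)
  obtain ⟨n, hn⟩ := IsPGroup.iff_card.mp (hQ.to_le (inf_le_left : M ≤ Q))
  have h648 : 3 ^ n ∣ 648 := by
    rw [← hn, ← E9.card_eq, ← Nat.card_congr (MonoidHom.ofInjective S.inj).toEquiv.symm]
    exact Subgroup.card_dvd_of_le inf_le_right
  have hn4 : n ≤ 4 := by
    by_contra h
    exact absurd ((pow_dvd_pow 3 (by omega : 5 ≤ n)).trans h648) (by decide)
  have heq := Subgroup.eq_of_le_of_card_ge hPM (by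
    rw [hn, S.card_P]; exact (Nat.pow_le_pow_right (by norm_num) hn4).trans (by norm_num))
  exact hrn (heq.symm.le ⟨hrQ, hrR⟩)

/-- `P` as a Sylow subgroup. -/
def sylow : Sylow 3 G := ⟨S.P, S.isPGroup_P, fun hQ hle => S.maximal_P hQ hle⟩

/-- A conjugate in `P` of an abelian subgroup of order 27 of a group containing `J`. -/
theorem conj_to_J {A : Subgroup G} (hc : Nat.card A = 27) (hcomm : ∀ u ∈ A, ∀ v ∈ A, u * v = v * u)
    {C : Subgroup G} (hA : A ≤ C) (hP : S.P ≤ C) :
    ∃ g ∈ C, A.map (MulAut.conj g).toMonoidHom = S.J := by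
  haveI := Fact.mk Nat.prime_three
  have hAp : IsPGroup 3 A := IsPGroup.of_card (n := 3) (by rw [hc]; norm_num)
  obtain ⟨R, hR⟩ := (hAp.comap_of_injective C.subtype C.subtype_injective).exists_le_sylow
  obtain ⟨g, hg⟩ := MulAction.exists_smul_eq C R (S.sylow.subtype (show (S.sylow : Subgroup G) ≤ C from hP))
  refine ⟨g, g.2, S.unique ?_ ((Subgroup.card_map_of_injective (MulAut.conj (g : G)).injective).trans hc) ?_⟩
  · rintro _ ⟨a, ha, rfl⟩
    have hm : g * ⟨a, hA ha⟩ * g⁻¹ ∈
        ((S.sylow.subtype (show (S.sylow : Subgroup G) ≤ C from hP) : Sylow 3 C) : Subgroup C) := by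
      rw [← hg, Sylow.coe_subgroup_smul]
      exact ⟨⟨a, hA ha⟩, hR (Subgroup.mem_comap.mpr ha), rfl⟩
    rw [Sylow.coe_subtype, Subgroup.mem_subgroupOf] at hm
    exact hm
  · rintro _ ⟨p, hp, rfl⟩ _ ⟨q, hq, rfl⟩
    rw [← map_mul, ← map_mul, hcomm p hp q hq]

/-- Fusion of translations is controlled by the normalizer of `J`. -/
theorem fusion {i j : E9} (hi : i ∈ JE) (hj : j ∈ JE) (hj1 : j ≠ 1) {x : G}
    (hx : x * S.Φ i * x⁻¹ = S.Φ j) :
    ∃ h : E9, h * i * h⁻¹ = j ∧ (S.Φ h)⁻¹ * x ∈ Subgroup.centralizer ({S.Φ i} : Set G) := by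
  classical
  haveI := Fact.mk Nat.prime_three
  set C := Subgroup.centralizer ({S.Φ j} : Set G) with hC
  have hJC : S.J ≤ C := fun y hy => Subgroup.mem_centralizer_singleton_iff.mpr
    (S.J_comm hy (S.Φ_mem_J.mpr hj))
  set A := S.J.map (MulAut.conj x).toMonoidHom with hA
  have hAc : A ≤ C := by
    rintro _ ⟨y, hy, rfl⟩
    refine Subgroup.mem_centralizer_singleton_iff.mpr ?_
    rw [← hx]
    show MulAut.conj x y * MulAut.conj x (S.Φ i) = MulAut.conj x (S.Φ i) * MulAut.conj x y
    rw [← map_mul, ← map_mul, S.J_comm hy (S.Φ_mem_J.mpr hi)]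
  have hAcard : Nat.card A = 27 :=
    (Subgroup.card_map_of_injective (MulAut.conj x).injective).trans S.card_J
  have hcj := impB_elim (allJ_spec cent_J hj) (by
    rw [Bool.not_eq_true', ← Bool.not_eq_true, Nat.beq_eq]
    exact fun h => hj1 (code_inj h))
  obtain ⟨c, hcC, hcA⟩ : ∃ c ∈ C, A.map (MulAut.conj c).toMonoidHom = S.J := by
    by_cases hz : zType j.c = true
    · -- conjugate `P` into the centralizer
      have hw := impB_elim (allJ_spec zType_conj hj) hz
      rw [List.any_eq_true] at hw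
      obtain ⟨w, hw, e⟩ := hw
      set h : E9 := mk' (27 * w) with hh
      have hjz : h * zE * h⁻¹ = j := code_inj (by
        rw [code_conj, hh, code_mk (by simp only [List.mem_range] at hw; omega)]
        exact Nat.eq_of_beq_eq_true e)
      set y := S.Φ h with hy
      have hPz : S.P ≤ Subgroup.centralizer ({S.Φ zE} : Set G) := by
        rintro _ ⟨p, hp, rfl⟩
        have h : allC (fun a => impB (pC a) (commC a 13)) = true := by decide +kernel
        rw [Subgroup.mem_centralizer_singleton_iff, ← map_mul, ← map_mul,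
          (comm_iff p zE).mp (impB_elim (all_spec h p) hp)]
      have hmemz : ∀ u ∈ C, y⁻¹ * u * y ∈ Subgroup.centralizer ({S.Φ zE} : Set G) := by
        intro u hu
        rw [hC, Subgroup.mem_centralizer_singleton_iff, ← hjz] at hu
        rw [map_mul, map_mul, map_inv, ← hy] at hu
        rw [Subgroup.mem_centralizer_singleton_iff]
        calc y⁻¹ * u * y * S.Φ zE = y⁻¹ * (u * (y * S.Φ zE * y⁻¹)) * y := by group
          _ = y⁻¹ * (y * S.Φ zE * y⁻¹ * u) * y := by rw [hu]
          _ = _ := by group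
      obtain ⟨g, hg, he⟩ := S.conj_to_J (A := A.map (MulAut.conj y⁻¹).toMonoidHom)
        ((Subgroup.card_map_of_injective (MulAut.conj y⁻¹).injective).trans hAcard)
        (by
          rintro _ ⟨_, ⟨p, hp, rfl⟩, rfl⟩ _ ⟨_, ⟨q, hq, rfl⟩, rfl⟩
          rw [← map_mul, ← map_mul, ← map_mul, ← map_mul, S.J_comm hp hq])
        (C := Subgroup.centralizer ({S.Φ zE} : Set G)) (by
          rintro _ ⟨u, hu, rfl⟩
          simpa using hmemz u (hAc hu)) hPz
      refine ⟨y * g * y⁻¹, ?_, ?_⟩
      · rw [hC, Subgroup.mem_centralizer_singleton_iff, ← hjz, map_mul, map_mul, map_inv, ← hy]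
        have hg' := Subgroup.mem_centralizer_singleton_iff.mp hg
        calc y * g * y⁻¹ * (y * S.Φ zE * y⁻¹) = y * (g * S.Φ zE) * y⁻¹ := by group
          _ = y * (S.Φ zE * g) * y⁻¹ := by rw [hg']
          _ = _ := by group
      · have hyJ : S.J.map (MulAut.conj y).toMonoidHom = S.J :=
          Subgroup.mem_normalizer_iff_map_conj_eq.mp (S.range_le_normalizer ⟨h, rfl⟩)
        conv_rhs => rw [← hyJ, ← he]
        simp only [Subgroup.map_map]
        congr 1
        ext u
        simp [mul_assoc]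
    · -- `J` is a Sylow subgroup of the centralizer
      have hnz : zType j.c = false := by simpa using hz
      have hmax : ∀ R : Subgroup G, IsPGroup 3 R → R ≤ C → S.J ≤ R → R = S.J := by
        intro R hR hRC hJR
        by_contra hne
        haveI := hR.isNilpotent
        have hlt : S.J.subgroupOf R < ⊤ := lt_top_iff_ne_top.mpr fun e =>
          hne (le_antisymm (Subgroup.subgroupOf_eq_top.mp e) hJR)
        obtain ⟨⟨r, hrR⟩, hr, hrn⟩ :=
          SetLike.exists_of_lt (Group.normalizerCondition_of_isNilpotent _ hlt)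
        rw [Subgroup.mem_subgroupOf] at hrn
        have hrN : r ∈ Subgroup.normalizer (S.J : Set G) := by
          rw [Subgroup.mem_normalizer_iff]
          intro p
          constructor
          · intro hp
            exact Subgroup.mem_subgroupOf.mp ((Subgroup.mem_normalizer_iff.mp hr ⟨p, hJR hp⟩).mp
              (Subgroup.mem_subgroupOf.mpr hp))
          · intro hp
            have hpR : p ∈ R := by
              have := mul_mem (mul_mem (inv_mem hrR) (hJR hp)) hrR
              rwa [show r⁻¹ * (r * p * r⁻¹) * r = p by group] at this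
            exact Subgroup.mem_subgroupOf.mp ((Subgroup.mem_normalizer_iff.mp hr ⟨p, hpR⟩).mpr
              (Subgroup.mem_subgroupOf.mpr hp))
        obtain ⟨e, rfl⟩ := S.normalizer_J hrN
        have hce : j * e = e * j := S.inj (by
          rw [map_mul, map_mul]; exact (Subgroup.mem_centralizer_singleton_iff.mp (hRC hrR)).symm)
        have h2 := impB_elim (all_spec hcj e) ((comm_iff j e).mpr hce)
        rw [Bool.and_eq_true] at h2
        obtain ⟨m, hm⟩ := hR ⟨_, hrR⟩
        have h9 : cubeC (cubeC e.c) = 0 := by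
          have h1 : e ^ (3 ^ m) = 1 := S.inj (by
            rw [map_pow, map_one]; exact congrArg Subtype.val hm)
          have h648 : orderOf e ∣ 648 := E9.card_eq ▸ orderOf_dvd_natCard e
          have hd : orderOf e ∣ 81 := by
            obtain ⟨k, -, hk⟩ := (Nat.dvd_prime_pow Nat.prime_three).mp (orderOf_dvd_of_pow_eq_one h1)
            rw [hk] at h648 ⊢
            have : k ≤ 4 := by
              by_contra hk4
              exact absurd ((pow_dvd_pow 3 (by omega : 5 ≤ k)).trans h648) (by decide)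
            exact (pow_dvd_pow 3 this).trans (by norm_num)
          have h81 : allC (fun x => impB (Nat.beq (cubeC (cubeC (cubeC (cubeC x)))) 0)
              (Nat.beq (cubeC (cubeC x)) 0)) = true := by decide +kernel
          refine Nat.eq_of_beq_eq_true (impB_elim (all_spec h81 e) ?_)
          rw [Nat.beq_eq, ← code_cube, ← code_cube, ← code_cube, ← code_cube, ← pow_mul, ← pow_mul, ← pow_mul,
            orderOf_dvd_iff_pow_eq_one.mp hd]
          rfl
        exact hrn (S.Φ_mem_J.mpr (impB_elim h2.2 (by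
          rw [h9, hnz]; rfl)))
      have hJp : IsPGroup 3 (S.J.subgroupOf C) := S.isPGroup_J.comap_of_injective _ C.subtype_injective
      obtain ⟨R, hR⟩ := hJp.exists_le_sylow
      have hRJ : (R : Subgroup C).map C.subtype = S.J :=
        hmax _ (R.2.map _) (Subgroup.map_subtype_le _) fun p hp =>
          ⟨⟨p, hJC hp⟩, hR (Subgroup.mem_subgroupOf.mpr hp), rfl⟩
      have hAp : IsPGroup 3 (A.subgroupOf C) :=
        (S.isPGroup_J.map (MulAut.conj x).toMonoidHom).comap_of_injective _ C.subtype_injective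
      obtain ⟨R', hR'⟩ := hAp.exists_le_sylow
      obtain ⟨c, hc⟩ := MulAction.exists_smul_eq C R' R
      refine ⟨c, c.2, Subgroup.eq_of_le_of_card_ge ?_ ?_⟩
      · rintro _ ⟨a, ha, rfl⟩
        rw [← hRJ]
        refine ⟨c * ⟨a, hAc ha⟩ * c⁻¹, ?_, rfl⟩
        show c * ⟨a, hAc ha⟩ * c⁻¹ ∈ (R : Subgroup C)
        rw [← hc, Sylow.coe_subgroup_smul]
        exact ⟨⟨a, hAc ha⟩, hR' (Subgroup.mem_subgroupOf.mpr ha), rfl⟩
      · rw [S.card_J, Subgroup.card_map_of_injective (MulAut.conj (c : G)).injective, hAcard]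
  have hcx : c * x ∈ Subgroup.normalizer (S.J : Set G) := by
    rw [Subgroup.mem_normalizer_iff_map_conj_eq]
    conv_rhs => rw [← hcA, hA, Subgroup.map_map]
    congr 1
    ext u
    simp [mul_assoc]
  obtain ⟨h, hh⟩ := S.normalizer_J hcx
  refine ⟨h, S.inj ?_, ?_⟩
  · rw [map_mul, map_mul, map_inv, hh, mul_inv_rev,
      show c * x * S.Φ i * (x⁻¹ * c⁻¹) = c * (x * S.Φ i * x⁻¹) * c⁻¹ by group, hx,
      Subgroup.mem_centralizer_singleton_iff.mp hcC, mul_inv_cancel_right]
  · rw [hh, Subgroup.mem_centralizer_singleton_iff, mul_inv_rev, mul_assoc (x⁻¹ * c⁻¹)]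
    have h1 : c⁻¹ * S.Φ j * c = S.Φ j := by
      rw [mul_assoc, ← Subgroup.mem_centralizer_singleton_iff.mp hcC, inv_mul_cancel_left]
    calc x⁻¹ * c⁻¹ * (x * S.Φ i) = x⁻¹ * c⁻¹ * (x * S.Φ i * x⁻¹) * x := by group
      _ = x⁻¹ * c⁻¹ * S.Φ j * x := by rw [hx]
      _ = x⁻¹ * (c⁻¹ * S.Φ j * c) * c⁻¹ * x := by group
      _ = S.Φ i * (x⁻¹ * c⁻¹ * x) := by rw [h1, ← hx]; group

end Setup

end CfsgLib.AltNineThree
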