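import Cfsg.Agent.Lib.AltNineThree.Hom

/-!
Facts about involutions and two-subgroups of the alternating group of degree nine.
-/

set_option autoImplicit false
set_option linter.style.haveILetI false
set_option maxRecDepth 20000
set_option synthInstance.maxSize 4000
set_option synthInstance.maxHeartbeats 400000

open Equiv

namespace CfsgLib.AltNineThree

attribute [local instance 2000] List.decidableBAll List.decidableBEx

/-- The alternating group of degree five. -/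
abbrev A5 : Type := alternatingGroup (Fin 5)

/-- An element of `A5` given by its values. -/
def mk5 (f g : Fin 5 → Fin 5) (h1 : ∀ x, g (f x) = x) (h2 : ∀ x, f (g x) = x)
    (h3 : Perm.sign (⟨f, g, h1, h2⟩ : Perm (Fin 5)) = 1) : A5 :=
  ⟨⟨f, g, h1, h2⟩, Perm.mem_alternatingGroup.mpr h3⟩

namespace A9

open A6

/-- A permutation sending the first five points to `0,1,6,7,8`. -/
def q9 : A9 := mk9 ![0, 1, 6, 7, 8, 2, 3, 4, 5] ![0, 1, 5, 6, 7, 8, 2, 3, 4]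
  (by decide) (by decide) (by decide)

/-- The embedding of `A5` on the first five points. -/
def ι50 : A5 →* A9 where
  toFun x := ⟨finSumFinEquiv.permCongr (Perm.sumCongr (x : Perm (Fin 5)) (1 : Perm (Fin 4))), by
    rw [Perm.mem_alternatingGroup, Perm.sign_permCongr, Perm.sign_sumCongr,
      Perm.mem_alternatingGroup.mp x.2, map_one, one_mul]⟩
  map_one' := by decide +kernel
  map_mul' x y := Subtype.ext (by
    show _ = finSumFinEquiv.permCongr _ * finSumFinEquiv.permCongr _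
    ext z
    obtain ⟨z, rfl⟩ := finSumFinEquiv.surjective z
    cases z <;> simp [Equiv.permCongr_apply])

/-- The embedding of `A5` on `0,1,6,7,8`. -/
def ι5 : A5 →* A9 := (MulAut.conj q9).toMonoidHom.comp ι50

/-- `(23)(45)`. -/
def u0 : A9 := mk9 ![0, 1, 3, 2, 5, 4, 6, 7, 8] ![0, 1, 3, 2, 5, 4, 6, 7, 8]
  (by decide) (by decide) (by decide)
/-- `(25)(34)`. -/
def z0 : A9 := mk9 ![0, 1, 5, 4, 3, 2, 6, 7, 8] ![0, 1, 5, 4, 3, 2, 6, 7, 8]
  (by decide) (by decide) (by decide)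
/-- `(01)(67)`. -/
def r0 : A9 := mk9 ![1, 0, 2, 3, 4, 5, 7, 6, 8] ![1, 0, 2, 3, 4, 5, 7, 6, 8]
  (by decide) (by decide) (by decide)
/-- `(01)(23)(45)(67)`. -/
def s0 : A9 := u0 * r0
/-- `(01)(23)`. -/
def swapV : A9 := mk9 ![1, 0, 3, 2, 4, 5, 6, 7, 8] ![1, 0, 3, 2, 4, 5, 6, 7, 8]
  (by decide) (by decide) (by decide)
/-- `(23)(67)`. -/
def w3 : A9 := mk9 ![0, 1, 3, 2, 4, 5, 7, 6, 8] ![0, 1, 3, 2, 4, 5, 7, 6, 8]
  (by decide) (by decide) (by decide)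
/-- `(234)`. -/
def d1 : A9 := mk9 ![0, 1, 3, 4, 2, 5, 6, 7, 8] ![0, 1, 4, 2, 3, 5, 6, 7, 8]
  (by decide) (by decide) (by decide)
/-- `(06)(17)`. -/
def d2 : A9 := mk9 ![6, 7, 2, 3, 4, 5, 0, 1, 8] ![6, 7, 2, 3, 4, 5, 0, 1, 8]
  (by decide) (by decide) (by decide)
/-- `(02)(13)(46)(57)`. -/
def σ0 : A9 := mk9 ![2, 3, 0, 1, 6, 7, 4, 5, 8] ![2, 3, 0, 1, 6, 7, 4, 5, 8]
  (by decide) (by decide) (by decide)
/-- `(024)(135)`. -/
def y0 : A9 := ι1 kT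
/-- `(1243)(78)`. -/
def d0 : A9 := mk9 ![0, 2, 4, 1, 3, 5, 6, 8, 7] ![0, 3, 1, 4, 2, 5, 6, 8, 7]
  (by decide) (by decide) (by decide)

/-- Even products of the symmetries of `{{2,3},{4,5}}` and of `{{0,1},{6,7}}`. -/
def tL : List A9 :=
  let gA : List A9 := [1, u0, z0, u0 * z0]
  let gB : List A9 := [1, r0, d2, r0 * d2]
  let m : List A9 := [1, swapV]
  gA.flatMap fun a => gB.flatMap fun b => m.map fun c => a * b * c

theorem tL_facts : tL.Nodup ∧ tL.length = 32 ∧ 1 ∈ tL ∧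
    (∀ a ∈ tL, a⁻¹ ∈ tL ∧ a * u0 = u0 * a ∧ a * r0 = r0 * a ∧ σ0 * a * σ0 ∈ tL ∧ a ≠ σ0) := by
  refine ⟨?_, ?_, ?_, ?_⟩ <;> decide +kernel

theorem tL_mul : ∀ a ∈ tL, ∀ b ∈ tL, a * b ∈ tL := by decide +kernel

theorem tL_named : u0 ∈ tL ∧ z0 ∈ tL ∧ swapV ∈ tL ∧ σ0 * σ0 = 1 ∧ r0 ∈ tL := by decide +kernel

theorem named_eq :
    u0 = ι1 vA ∧ z0 = ι1 vZ ∧ u0 * z0 = ι1 (vA * vZ) ∧
    E9.el (E9.mk' 64) = (r0 : Perm (Fin 9)) ∧ E9.el (E9.mk' 4) = (d0⁻¹ * y0 * d0 : A9) ∧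
    E9.el (E9.mk' 234) = (d0⁻¹ * s0 * d0 : A9) ∧
    u0 * u0 = 1 ∧ z0 * z0 = 1 ∧ u0 * z0 = z0 * u0 ∧ z0 ≠ 1 ∧ z0 ≠ u0 ∧ u0 ≠ 1 := by
  decide +kernel

theorem swap_facts : swapV * u0 * swapV⁻¹ = u0 ∧ swapV * z0 * swapV⁻¹ = u0 * z0 ∧
    swapV * (u0 * z0) * swapV⁻¹ = z0 ∧ y0 * y0 * y0 = 1 ∧ y0 ≠ 1 ∧ y0 * s0 = s0 * y0 ∧ s0 * s0 = 1 ∧
    s0 ≠ 1 := by
  decide +kernel

theorem five_facts : (∀ a : A5, ι5 a * u0 = u0 * ι5 a ∧ ι5 a * z0 = z0 * ι5 a) ∧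
    (∀ v ∈ [1, vA, vZ, vA * vZ], ∀ a : A5, ι1 v * ι5 a = 1 → v = 1 ∧ a = 1) := by
  refine ⟨?_, ?_⟩ <;> decide +kernel

/-- `(0 2)(3 4)` on the five points. -/
def p1 : A5 := mk5 ![2, 1, 0, 4, 3] ![2, 1, 0, 4, 3] (by decide) (by decide) (by decide)
/-- `(0 3)(2 4)` on the five points. -/
def p2 : A5 := mk5 ![3, 1, 4, 0, 2] ![3, 1, 4, 0, 2] (by decide) (by decide) (by decide)
/-- `(1 2)(3 4)` on the five points. -/
def q1 : A5 := mk5 ![0, 2, 1, 4, 3] ![0, 2, 1, 4, 3] (by decide) (by decide) (by decide)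
/-- `(1 3)(2 4)` on the five points. -/
def q2 : A5 := mk5 ![0, 3, 4, 1, 2] ![0, 3, 4, 1, 2] (by decide) (by decide) (by decide)
/-- `(2 3 4)` on the five points. -/
def c5 : A5 := mk5 ![0, 1, 3, 4, 2] ![0, 1, 4, 2, 3] (by decide) (by decide) (by decide)
/-- A five-cycle. -/
def five : A5 := mk5 ![1, 2, 3, 4, 0] ![4, 0, 1, 2, 3] (by decide) (by decide) (by decide)

theorem quads : c5 * c5 * c5 = 1 ∧ c5 ≠ 1 ∧
    (p1 * p1 = 1 ∧ p2 * p2 = 1 ∧ p1 * p2 = p2 * p1 ∧ p1 * p1 ≠ p1) ∧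
    (q1 * q1 = 1 ∧ q2 * q2 = 1 ∧ q1 * q2 = q2 * q1) ∧
    ((c5 * p1 * c5⁻¹ = p2 ∧ c5 * p2 * c5⁻¹ = p1 * p2) ∨
      (c5⁻¹ * p1 * c5⁻¹⁻¹ = p2 ∧ c5⁻¹ * p2 * c5⁻¹⁻¹ = p1 * p2)) ∧
    ((c5 * q1 * c5⁻¹ = q2 ∧ c5 * q2 * c5⁻¹ = q1 * q2) ∨
      (c5⁻¹ * q1 * c5⁻¹⁻¹ = q2 ∧ c5⁻¹ * q2 * c5⁻¹⁻¹ = q1 * q2)) ∧
    c5 = p1 * q1 * q2 * p2 * q1 ∧ E9.el (E9.mk' 9) = (ι5 c5 : Perm (Fin 9)) ∧
    five * five * (five * five) * five = 1 ∧ five ≠ 1 := by
  decide +kernel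

theorem triple_facts : d1 * u0 * d1⁻¹ = ι1 vZ ∧ d1 * swapV * d1⁻¹ = ι1 uA ∧
    d2 * u0 * d2⁻¹ = u0 ∧ d2 * w3 * d2⁻¹ = swapV := by decide +kernel

/-- An involution moving eight points. -/
abbrev IsEight (e : A9) : Prop := ((e : Perm (Fin 9)).support).card = 8

theorem tL_invol : ∀ w ∈ tL, w * w = 1 → w ≠ 1 → w ≠ u0 →
    w = z0 ∨ w = u0 * z0 ∨ IsEight w ∨ IsEight (u0 * w) ∨
      w = swapV ∨ u0 * w = swapV ∨ w = w3 ∨ u0 * w = w3 := by decide +kernel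

theorem eight_pos : IsEight s0 ∧ ¬ IsEight u0 ∧ ¬ IsEight z0 ∧ ¬ IsEight (u0 * z0) := by decide +kernel

theorem five_in_T : Fintype.card {a : A5 // ι5 a ∈ tL} = 4 ∧ Fintype.card A5 = 60 ∧
    ∀ v ∈ [1, vA, vZ, vA * vZ], ι1 v ∈ tL := by decide +kernel

/-- The two classes of involutions. -/
theorem invol_classes {e : A9} (h2 : e * e = 1) (h1 : e ≠ 1) :
    ((∃ g : A9, g * u0 * g⁻¹ = e) ∧ ¬ IsEight e) ∨ ((∃ g : A9, g * s0 * g⁻¹ = e) ∧ IsEight e) := by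
  haveI := Fact.mk Nat.prime_two
  set σ : Perm (Fin 9) := (e : Perm (Fin 9)) with hσ
  have hσ2 : σ ^ 2 = 1 := by
    rw [pow_two, hσ, ← Subgroup.coe_mul, h2, Subgroup.coe_one]
  obtain ⟨k, hk⟩ : ∃ k, σ.cycleType = Multiset.replicate k 2 :=
    ⟨_, Perm.cycleType_of_pow_prime_eq_one hσ2⟩
  have hsum : σ.support.card = 2 * k := by
    rw [← Perm.sum_cycleType, hk, Multiset.sum_replicate, smul_eq_mul, mul_comm]
  have hle : 2 * k ≤ 9 := hsum ▸ (Finset.card_le_univ _).trans (by simp)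
  have heven : Even k := by
    have h := Perm.mem_alternatingGroup.mp e.2
    rw [← hσ, Perm.sign_of_cycleType, hk, Multiset.sum_replicate, Multiset.card_replicate,
      smul_eq_mul] at h
    rcases Nat.even_or_odd k with he | ho
    · exact he
    · exfalso
      have : Odd (k * 2 + k) := Even.add_odd (even_two.mul_left k) ho
      rw [this.neg_one_pow] at h
      exact absurd h (by decide)
  have hk0 : k ≠ 0 := fun e0 => h1 (Subtype.ext (Perm.cycleType_eq_zero.mp (by rw [← hσ, hk, e0]; rfl)))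
  have key : ∀ (t : A9) (τ : Perm (Fin 9)), Perm.sign τ = -1 → τ * (t : Perm (Fin 9)) = t * τ →
      (t : Perm (Fin 9)).support.card = 2 * k → t * t = 1 → ∃ g : A9, g * t * g⁻¹ = e := by
    intro t τ hτ hcm ht ht2
    have ht2' : (t : Perm (Fin 9)) ^ 2 = 1 := by
      rw [pow_two, ← Subgroup.coe_mul, ht2, Subgroup.coe_one]
    obtain ⟨l, hl⟩ : ∃ l, (t : Perm (Fin 9)).cycleType = Multiset.replicate l 2 :=
      ⟨_, Perm.cycleType_of_pow_prime_eq_one ht2'⟩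
    have hlk : l = k := by
      rw [← Perm.sum_cycleType, hl, Multiset.sum_replicate, smul_eq_mul] at ht
      omega
    obtain ⟨g, hg⟩ := isConj_iff.mp (Perm.isConj_iff_cycleType_eq.mpr (hl.trans (hlk ▸ hk.symm)))
    rcases Int.units_eq_one_or (Perm.sign g) with hs | hs
    · exact ⟨⟨g, Perm.mem_alternatingGroup.mpr hs⟩, Subtype.ext hg⟩
    · refine ⟨⟨g * τ, Perm.mem_alternatingGroup.mpr (by rw [Perm.sign_mul, hs, hτ]; decide)⟩,
        Subtype.ext ?_⟩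
      show g * τ * (t : Perm (Fin 9)) * (g * τ)⁻¹ = σ
      rw [mul_assoc g, hcm, ← hg]
      group
  have hτ : Perm.sign (swap (2 : Fin 9) 3) = -1 ∧
      swap (2 : Fin 9) 3 * (u0 : Perm (Fin 9)) = (u0 : Perm (Fin 9)) * swap 2 3 ∧
      swap (2 : Fin 9) 3 * (s0 : Perm (Fin 9)) = (s0 : Perm (Fin 9)) * swap 2 3 ∧
      (u0 : Perm (Fin 9)).support.card = 4 ∧ (s0 : Perm (Fin 9)).support.card = 8 := by decide +kernel
  obtain ⟨hs, hu, hv, hu4, hs8⟩ := hτ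
  obtain ⟨r, rfl⟩ := heven
  rcases (show r = 1 ∨ r = 2 by omega) with rfl | rfl
  · exact Or.inl ⟨key u0 _ hs hu hu4 named_eq.2.2.2.2.2.2.1, by show ¬ σ.support.card = 8; omega⟩
  · exact Or.inr ⟨key s0 _ hs hv hs8 swap_facts.2.2.2.2.2.2.1, by show σ.support.card = 8; omega⟩

/-- The subgroup of order 32. -/
def T32 : Subgroup A9 where
  carrier := {e | e ∈ tL}
  one_mem' := tL_facts.2.2.1
  mul_mem' := fun {a b} ha hb => tL_mul a ha b hb
  inv_mem' := fun {a} ha => (tL_facts.2.2.2 a ha).1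

theorem mem_T32 {e : A9} : e ∈ T32 ↔ e ∈ tL := Iff.rfl

theorem card_T32 : Nat.card T32 = 32 := by
  classical
  rw [Nat.card_congr (Equiv.subtypeEquivRight (q := fun s => s ∈ tL.toFinset) fun s =>
      (by rw [List.mem_toFinset]; exact Iff.rfl)),
    Nat.card_eq_fintype_card, Fintype.card_coe, List.toFinset_card_of_nodup tL_facts.1, tL_facts.2.1]

/-- The subgroup of order 64. -/
def T64 : Subgroup A9 where
  carrier := {e | e ∈ tL ∨ e * σ0 ∈ tL}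
  one_mem' := Or.inl tL_facts.2.2.1
  mul_mem' := fun {a b} ha hb => by
    have hσ : σ0 * σ0 = 1 := tL_named.2.2.2.1
    have hconj : ∀ x ∈ tL, σ0 * x * σ0 ∈ tL := fun x hx => (tL_facts.2.2.2 x hx).2.2.2.1
    rcases ha with ha | ha <;> rcases hb with hb | hb
    · exact Or.inl (tL_mul a ha b hb)
    · exact Or.inr (by rw [mul_assoc]; exact tL_mul a ha _ hb)
    · refine Or.inr ?_
      rw [show a * b * σ0 = a * σ0 * (σ0 * b * σ0) by
        rw [show a * σ0 * (σ0 * b * σ0) = a * (σ0 * σ0) * b * σ0 by group, hσ, mul_one]]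
      exact tL_mul _ ha _ (hconj b hb)
    · refine Or.inl ?_
      rw [show a * b = a * σ0 * (σ0 * (b * σ0) * σ0) by
        rw [show a * σ0 * (σ0 * (b * σ0) * σ0) = a * (σ0 * σ0) * b * (σ0 * σ0) by group, hσ, mul_one,
          mul_one]]
      exact tL_mul _ ha _ (hconj _ hb)
  inv_mem' := fun {a} ha => by
    have hσ : σ0 * σ0 = 1 := tL_named.2.2.2.1
    rcases ha with ha | ha
    · exact Or.inl (tL_facts.2.2.2 a ha).1
    · refine Or.inr ?_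
      have h := (tL_facts.2.2.2 _ (tL_facts.2.2.2 _ ha).1).2.2.2.1
      rwa [mul_inv_rev, inv_eq_of_mul_eq_one_right hσ,
        show σ0 * (σ0 * a⁻¹) * σ0 = σ0 * σ0 * a⁻¹ * σ0 by group, hσ, one_mul] at h

theorem card_T64 : Nat.card T64 = 64 := by
  classical
  let f : T32 × Bool → T64 := fun p => ⟨if p.2 then (p.1 : A9) * σ0 else (p.1 : A9), by
    have hσ : σ0 * σ0 = 1 := tL_named.2.2.2.1
    cases p.2
    · exact Or.inl p.1.2
    · exact Or.inr (by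
        show (p.1 : A9) * σ0 * σ0 ∈ tL
        rw [mul_assoc, hσ, mul_one]; exact p.1.2)⟩
  have hnot : σ0 ∉ tL := fun h => (tL_facts.2.2.2 σ0 h).2.2.2.2 rfl
  have hf : Function.Bijective f := by
    refine ⟨?_, ?_⟩
    · rintro ⟨⟨a, ha⟩, x⟩ ⟨⟨b, hb⟩, y⟩ h
      have h' := congrArg Subtype.val h
      simp only [f] at h'
      cases x <;> cases y <;> simp only [Bool.false_eq_true, if_false, if_true] at h'
      · obtain rfl : a = b := h'
        rfl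
      · exact absurd (by
          have := tL_mul _ (tL_facts.2.2.2 b hb).1 a ha
          rwa [h', inv_mul_cancel_left] at this) hnot
      · exact absurd (by
          have := tL_mul _ (tL_facts.2.2.2 a ha).1 b hb
          rwa [← h', inv_mul_cancel_left] at this) hnot
      · obtain rfl : a = b := mul_right_cancel h'
        rfl
    · rintro ⟨e, he | he⟩
      · exact ⟨(⟨e, he⟩, false), rfl⟩
      · exact ⟨(⟨e * σ0, he⟩, true), Subtype.ext (by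
          show e * σ0 * σ0 = e
          rw [mul_assoc, tL_named.2.2.2.1, mul_one])⟩
  rw [← Nat.card_eq_of_bijective f hf, Nat.card_prod, card_T32, Nat.card_eq_fintype_card,
    Fintype.card_bool]

end A9

namespace E9

theorem pair_facts : allC (fun x => impB (commC x 4 && commC x 234)
    ([0, 4, 8, 234, 238, 242].contains x)) = true ∧
    (mulC 4 4 = 8 ∧ mulC 234 4 = 238 ∧ mulC 234 8 = 242) := by
  refine ⟨?_, ?_, ?_, ?_⟩ <;> decide +kernel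

end E9

end CfsgLib.AltNineThree
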