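import Cfsg.Agent.Lib.AltNineThree.CentU
import Cfsg.Agent.Lib.SelfCentThree.Simple

/-!
The copy of the alternating group of degree nine is the whole group.
-/

set_option autoImplicit false
set_option linter.unusedSectionVars false
set_option linter.style.haveILetI false
set_option maxRecDepth 20000
set_option maxHeartbeats 1000000

namespace CfsgLib.AltNineThree

open E9 A6 A9
open Equiv

namespace A9

theorem s_facts : σ0 * s0 = s0 * σ0 ∧ (u0 * swapV) * s0 = s0 * (u0 * swapV) ∧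
    ¬ IsEight swapV ∧ ¬ IsEight (u0 * swapV) ∧ swapV * swapV = 1 ∧
    u0 * swapV * (u0 * swapV) = 1 ∧ swapV ≠ 1 ∧ u0 * swapV ≠ 1 ∧ u0 * swapV ∈ tL := by
  decide +kernel

theorem tL_comm_s : ∀ e : A9, e ∈ tL → e * s0 = s0 * e := fun e he => by
  obtain ⟨-, h1, h2, -, -⟩ := tL_facts.2.2.2 e he
  rw [s0, ← mul_assoc, h1, mul_assoc, h2, ← mul_assoc]

theorem T64_comm_s : ∀ e ∈ T64, e * s0 = s0 * e := by
  intro e he
  rcases he with he | he
  · exact tL_comm_s e he
  · have h := tL_comm_s _ he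
    rw [mul_assoc, s_facts.1, ← mul_assoc, ← mul_assoc] at h
    exact mul_right_cancel h

end A9

namespace Comp

namespace Nine

variable {G : Type*} [Group G] [Finite G] {S : Setup G} {P : Comp S} (N : P.Nine)

/-- An element moving an involution of four moved points into the image lies in the image. -/
theorem closed {t : A9} (h2 : t * t = 1) (h1 : t ≠ 1) (h8 : ¬ IsEight t) {g : G}
    (hg : g * N.F t * g⁻¹ ∈ N.F.range) : g ∈ N.F.range := by
  obtain ⟨e, he⟩ := hg
  obtain ⟨d, hd⟩ := ((invol_classes h2 h1).resolve_right fun h => h8 h.2).1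
  have hconj : g * N.F d * N.F u0 * (g * N.F d)⁻¹ = N.F e := by
    rw [he, ← hd, map_mul, map_mul, map_inv]; group
  obtain ⟨e2, e1, e8⟩ := N.not_eight hconj
  obtain ⟨k, hk⟩ := ((invol_classes e2 e1).resolve_right fun h => e8 h.2).1
  obtain ⟨r, hr⟩ := N.cent_u (x := (N.F k)⁻¹ * (g * N.F d)) (mul_inv_eq_iff_eq_mul.mp (by
    rw [show (N.F k)⁻¹ * (g * N.F d) * N.F u0 * ((N.F k)⁻¹ * (g * N.F d))⁻¹ =
      (N.F k)⁻¹ * (g * N.F d * N.F u0 * (g * N.F d)⁻¹) * N.F k by group, hconj, ← hk, map_mul, map_mul,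
      map_inv]
    group))
  refine ⟨k * r * d⁻¹, ?_⟩
  rw [map_mul, map_mul, map_inv, hr]; group

/-- A Sylow two-subgroup of the whole group inside the image. -/
theorem exists_sylow : ∃ R : Sylow 2 G, (R : Subgroup G) = T64.map N.F := by
  classical
  haveI := Fact.mk Nat.prime_two
  set T := T64.map N.F with hT
  have hT2 : IsPGroup 2 T := (IsPGroup.of_card (n := 6) (by rw [card_T64]; norm_num)).map _
  refine ⟨⟨T, hT2, fun {R} hR hle => ?_⟩, rfl⟩
  by_contra hne
  haveI := hR.isNilpotent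
  have hlt : T.subgroupOf R < ⊤ := lt_top_iff_ne_top.mpr fun e =>
    hne (le_antisymm (Subgroup.subgroupOf_eq_top.mp e) hle)
  obtain ⟨⟨g, hgR⟩, hg, hgn⟩ := SetLike.exists_of_lt (Group.normalizerCondition_of_isNilpotent _ hlt)
  rw [Subgroup.mem_subgroupOf] at hgn
  have huT : N.F u0 ∈ T := ⟨u0, Or.inl tL_named.1, rfl⟩
  obtain ⟨w, -, ew⟩ := Subgroup.mem_subgroupOf.mp ((Subgroup.mem_normalizer_iff.mp hg ⟨_, hle huT⟩).mp
    (Subgroup.mem_subgroupOf.mpr huT))
  have hgG : g ∈ N.F.range := N.closed named_eq.2.2.2.2.2.2.1 named_eq.2.2.2.2.2.2.2.2.2.2.2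
    eight_pos.2.1 ⟨w, ew⟩
  have hTM : T ≤ R ⊓ N.F.range := le_inf hle (by rintro _ ⟨e, -, rfl⟩; exact ⟨e, rfl⟩)
  obtain ⟨k, hk⟩ := IsPGroup.iff_card.mp (hR.to_le (inf_le_left : R ⊓ N.F.range ≤ R))
  have hle64 : Nat.card (R ⊓ N.F.range : Subgroup G) ≤ 64 := by
    have h1 : 2 ^ k ∣ 181440 := by
      rw [← hk, ← card_A9, Nat.card_congr (MonoidHom.ofInjective N.inj).toEquiv]
      exact Subgroup.card_dvd_of_le inf_le_right
    rw [hk]
    have : k ≤ 6 := by
      by_contra hk6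
      exact absurd ((pow_dvd_pow 2 (by omega : 7 ≤ k)).trans h1) (by norm_num)
    exact (Nat.pow_le_pow_right (by norm_num) this).trans_eq rfl
  have heq := Subgroup.eq_of_le_of_card_ge hTM (by
    rw [hT, Subgroup.card_map_of_injective N.inj, card_T64]; exact hle64)
  exact hgn (heq.symm.le (Subgroup.mem_inf.mpr ⟨hgR, hgG⟩))

/-- The centralizer of `(024)(135)` inside that of `(01)(23)(45)(67)`. -/
theorem cent_y {x : G} (hy : Commute x (N.F y0)) (hs : Commute x (N.F s0)) :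
    ∃ i < 3, ∃ l < 2, x = N.F (y0 ^ i * s0 ^ l) := by
  have key : ∀ {n : ℕ} {e : A9}, E9.el (mk' n) = ((d0⁻¹ * e * d0 : A9) : Perm (Fin 9)) →
      Commute x (N.F e) → Commute ((N.F d0)⁻¹ * x * (N.F d0)) (S.Φ (mk' n)) := by
    intro n e he hc
    rw [← N.F_code he, map_mul, map_mul, map_inv]
    show _ = _
    calc (N.F d0)⁻¹ * x * (N.F d0) * ((N.F d0)⁻¹ * N.F e * (N.F d0)) = (N.F d0)⁻¹ * (x * N.F e) * (N.F d0) := by group
      _ = (N.F d0)⁻¹ * (N.F e * x) * (N.F d0) := by rw [hc.eq]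
      _ = _ := by group
  obtain ⟨-, -, -, -, e4, e234, -⟩ := named_eq
  have h4 := key e4 hy
  have h234 := key e234 hs
  obtain ⟨e, he⟩ := S.cent_ab (Subgroup.mem_centralizer_singleton_iff.mpr h4.eq)
  rw [← he] at h4 h234
  have c4 : commC (e.c : ℕ) 4 = true := by
    rw [← code_mk (show (4 : ℕ) < 648 by norm_num)]
    exact (comm_iff e (mk' 4)).mpr (S.inj (by rw [map_mul, map_mul]; exact h4.eq))
  have c234 : commC (e.c : ℕ) 234 = true := by
    rw [← code_mk (show (234 : ℕ) < 648 by norm_num)]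
    exact (comm_iff e (mk' 234)).mpr (S.inj (by rw [map_mul, map_mul]; exact h234.eq))
  have hmem := impB_elim (all_spec E9.pair_facts.1 e) (by rw [c4, c234]; rfl)
  obtain ⟨p8, p238, p242⟩ := E9.pair_facts.2
  obtain ⟨i, hi, l, hl, hil⟩ : ∃ i < 3, ∃ l < 2, e = mk' 234 ^ l * mk' 4 ^ i := by
    have hc : ∀ n : ℕ, n < 648 → ∀ z : E9, (z.c : ℕ) = n → (e.c : ℕ) = n → e = z :=
      fun n _ z hz he => code_inj (he.trans hz.symm)
    simp only [List.contains_eq_mem, decide_eq_true_eq, List.mem_cons, List.not_mem_nil, or_false] at hmem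
    rcases hmem with h | h | h | h | h | h
    · exact ⟨0, by norm_num, 0, by norm_num, code_inj (by rw [pow_zero, pow_zero, mul_one, code_one]; exact h)⟩
    · exact ⟨1, by norm_num, 0, by norm_num, code_inj (by
        rw [pow_zero, pow_one, one_mul, code_mk (by norm_num)]; exact h)⟩
    · exact ⟨2, by norm_num, 0, by norm_num, code_inj (by
        rw [pow_zero, pow_two, one_mul, code_mul, code_mk (by norm_num), p8]; exact h)⟩
    · exact ⟨0, by norm_num, 1, by norm_num, code_inj (by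
        rw [pow_zero, pow_one, mul_one, code_mk (by norm_num)]; exact h)⟩
    · exact ⟨1, by norm_num, 1, by norm_num, code_inj (by
        rw [pow_one, pow_one, code_mul, code_mk (by norm_num), code_mk (by norm_num), p238]; exact h)⟩
    · exact ⟨2, by norm_num, 1, by norm_num, code_inj (by
        rw [pow_one, pow_two, code_mul, code_mk (by norm_num), code_mul, code_mk (by norm_num), p8, p242]
        exact h)⟩
  refine ⟨i, hi, l, hl, ?_⟩
  have hx : x = (N.F d0) * S.Φ e * (N.F d0)⁻¹ := by rw [he]; group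
  rw [hx, hil, map_mul, map_pow, map_pow, ← N.F_code e234, ← N.F_code e4, ← map_pow, ← map_pow,
    ← map_inv, ← map_mul, ← map_mul, ← map_mul]
  congr 1
  rw [show d0⁻¹ * s0 * d0 = d0⁻¹ * s0 * d0⁻¹⁻¹ by rw [inv_inv], conj_pow,
    show d0⁻¹ * y0 * d0 = d0⁻¹ * y0 * d0⁻¹⁻¹ by rw [inv_inv], conj_pow, inv_inv]
  have hcm : Commute (y0 ^ i) (s0 ^ l) := Commute.pow_pow swap_facts.2.2.2.2.2.1 i l
  rw [hcm.eq]
  group

/-- The centralizer of `(01)(23)(45)(67)` is in the image. -/
theorem cent_s {x : G} (hx : Commute x (N.F s0)) : x ∈ N.F.range := by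
  classical
  haveI := Fact.mk Nat.prime_two
  haveI h3f := Fact.mk Nat.prime_three
  obtain ⟨-, -, -, y3, y1, ys, ss, s1⟩ := swap_facts
  obtain ⟨hσ, hws, h8a, h8b, aa, bb, a1, b1, hbT⟩ := s_facts
  set Y := Subgroup.centralizer ({N.F s0} : Set G) with hY
  have memY : ∀ {e : A9}, e * s0 = s0 * e → N.F e ∈ Y := fun {e} h =>
    Subgroup.mem_centralizer_singleton_iff.mpr (by rw [← map_mul, ← map_mul, h])
  set j : Y := ⟨N.F s0, memY rfl⟩ with hj
  set y : Y := ⟨N.F y0, memY ys⟩ with hy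
  have hj1 : N.F s0 ≠ 1 := fun e => s1 (N.inj (e.trans (map_one _).symm))
  have hjj : j * j = 1 := Subtype.ext (N.sq_one ss)
  have hjo : orderOf j = 2 := orderOf_eq_prime (by rw [pow_two, hjj]) fun e => hj1 (congrArg Subtype.val e)
  set J := Subgroup.zpowers j with hJ
  have hjc : ∀ g : Y, Commute g j := fun g => Subtype.ext (Subgroup.mem_centralizer_singleton_iff.mp g.2)
  haveI : J.Normal := ⟨fun n hn k => by
    obtain ⟨l, rfl⟩ := Subgroup.mem_zpowers_iff.mp hn
    rw [((hjc k).zpow_right l).eq, mul_inv_cancel_right]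
    exact Subgroup.zpow_mem_zpowers j l⟩
  have hJmem : ∀ {g}, g ∈ J → g = 1 ∨ g = j := by
    intro g hg
    obtain ⟨l, rfl⟩ := Subgroup.mem_zpowers_iff.mp hg
    rcases Int.even_or_odd l with ⟨k, rfl⟩ | ⟨k, rfl⟩
    · left; rw [← two_mul, zpow_mul, zpow_two, hjj, one_zpow]
    · right; rw [zpow_add, zpow_one, zpow_mul, zpow_two, hjj, one_zpow, one_mul]
  set π := QuotientGroup.mk' J with hπ
  have hy3 : y ^ 3 = 1 := Subtype.ext (by
    show N.F y0 ^ 3 = 1
    rw [← map_pow, pow_succ, pow_two, y3, map_one])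
  have hyo : orderOf y = 3 := orderOf_eq_prime hy3 fun e =>
    y1 (N.inj ((congrArg Subtype.val e).trans (map_one _).symm))
  have hpy : π y ≠ 1 := fun e => by
    rcases hJmem ((QuotientGroup.eq_one_iff _).mp e) with e | e
    · rw [e, orderOf_one] at hyo; omega
    · rw [e, hjo] at hyo; omega
  have hjz : π j = 1 := (QuotientGroup.eq_one_iff _).mpr (Subgroup.mem_zpowers j)
  have hSC : SCThree.SC (π y) := by
    have ho : orderOf (π y) = 3 := orderOf_eq_prime (by rw [← map_pow, hy3, map_one]) hpy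
    refine ⟨Nat.prime_three, ho, le_antisymm (fun q hq => ?_)
      (Subgroup.zpowers_le.mpr (Subgroup.mem_centralizer_singleton_iff.mpr rfl))⟩
    obtain ⟨g, rfl⟩ := QuotientGroup.mk'_surjective J q
    have hd : y⁻¹ * (g * y * g⁻¹) ∈ J := by
      rw [← QuotientGroup.eq_one_iff]
      show π (y⁻¹ * (g * y * g⁻¹)) = 1
      rw [map_mul, map_mul, map_mul, map_inv, map_inv, (Subgroup.mem_centralizer_singleton_iff.mp hq :
        π g * π y = π y * π g), mul_inv_cancel_right, inv_mul_cancel]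
    have hxy : Commute g y := by
      rcases hJmem hd with e | e
      · exact mul_inv_eq_iff_eq_mul.mp (inv_mul_eq_one.mp e).symm
      · exfalso
        have e' : g * y * g⁻¹ = y * j := (inv_mul_eq_iff_eq_mul.mp e)
        have h6 : (y * j) ^ 3 = 1 := by rw [← e', conj_pow, hy3, mul_one, mul_inv_cancel]
        rw [(hjc y).mul_pow, hy3, one_mul, pow_succ, pow_two, hjj, one_mul] at h6
        exact hj1 (congrArg Subtype.val h6)
    obtain ⟨i, -, l, -, e⟩ := N.cent_y (congrArg Subtype.val hxy.eq)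
      (Subgroup.mem_centralizer_singleton_iff.mp g.2)
    have hg : g = y ^ i * j ^ l := Subtype.ext (by
      rw [e, map_mul, map_pow, map_pow]; rfl)
    rw [hg, map_mul, map_pow, map_pow, hjz, one_pow, mul_one]
    exact pow_mem (Subgroup.mem_zpowers _) _
  -- the Sylow two-subgroup
  obtain ⟨R2, hR2⟩ := N.exists_sylow
  have hPY : (R2 : Subgroup G) ≤ Y := by
    rw [hR2]; rintro _ ⟨s, hs, rfl⟩; exact memY (T64_comm_s s hs)
  set PY : Sylow 2 Y := R2.subtype hPY with hPY'
  have hPcard : Nat.card (PY : Subgroup Y) = 64 := by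
    rw [hPY', Sylow.coe_subtype, Nat.card_congr (Subgroup.subgroupOfEquivOfLe hPY).toEquiv, hR2,
      Subgroup.card_map_of_injective N.inj, card_T64]
  obtain ⟨m, hm, hYcard⟩ : ∃ m, Odd m ∧ Nat.card Y = 64 * m := by
    refine ⟨(PY : Subgroup Y).index, Nat.not_even_iff_odd.mp fun e =>
      PY.not_dvd_index (even_iff_two_dvd.mp e), ?_⟩
    rw [← hPcard, Subgroup.card_mul_index]
  have hQcard : Nat.card (Y ⧸ J) = 32 * m := by
    have := J.card_mul_index
    rw [hJ, Nat.card_zpowers, hjo, hYcard, Subgroup.index_eq_card] at this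
    rw [hJ]; omega
  set C := SCThree.core3 (Y ⧸ J) with hC
  have hinv : SCThree.Inv (π y) C :=
    ⟨Subgroup.normalizer_eq_top C ▸ Subgroup.mem_top _, SCThree.not_three_dvd_core3⟩
  have hidx : C.index = 3 ∨ C.index = 6 := by
    rcases SCThree.shape_of_selfCent hSC with h36 | ⟨h60, -, hcomm, hsq⟩ | ⟨-, h168, -⟩
    · exact h36
    · exfalso
      have hc2 : IsPGroup 2 C := fun c => ⟨1, Subtype.ext (by
        rw [pow_one, pow_two]; exact hsq c c.2)⟩
      obtain ⟨k, hk⟩ := IsPGroup.iff_card.mp hc2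
      have hc := C.card_mul_index
      rw [hk, h60, hQcard] at hc
      have hmod : Nat.card C % 3 = 1 := SCThree.Inv.card_mod hSC hinv
      rw [hk] at hmod
      obtain ⟨r, rfl⟩ := hm
      rcases Nat.lt_trichotomy k 3 with hk3 | rfl | hk3
      · have : k = 0 ∨ k = 1 ∨ k = 2 := by omega
        rcases this with rfl | rfl | rfl <;> omega
      · norm_num at hmod
      · have h16 : 2 ^ k = 16 * 2 ^ (k - 4) := by
          rw [show 16 = 2 ^ 4 by rfl, ← pow_add, Nat.add_sub_cancel' hk3]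
        rw [h16] at hc
        omega
    · exfalso; rw [hQcard] at h168; omega
  set K := C.comap π with hK
  have hKidx : K.index = 3 ∨ K.index = 6 := by
    rw [hK, Subgroup.index_comap_of_surjective _ (QuotientGroup.mk'_surjective J)]; exact hidx
  haveI hCnil : Group.IsNilpotent C := hinv.isNilpotent hSC
  haveI hKnil : Group.IsNilpotent K := by
    let f : K →* C := (π.comp K.subtype).codRestrict C (fun k => k.2)
    refine Subgroup.isNilpotent_of_ker_le_center f (fun k hk => ?_)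
    rw [Subgroup.mem_center_iff]
    intro l
    have hkJ : (k : Y) ∈ J := (QuotientGroup.eq_one_iff _).mp (congrArg Subtype.val (MonoidHom.mem_ker.mp hk))
    obtain ⟨i, hi⟩ := Subgroup.mem_zpowers_iff.mp hkJ
    refine Subtype.ext ?_
    show (l : Y) * k = k * l
    rw [← hi]
    exact ((hjc l).zpow_right i).eq
  obtain ⟨R0⟩ : Nonempty (Sylow 2 K) := inferInstance
  haveI hR0n : (R0 : Subgroup K).Normal := inferInstance
  haveI : (R0 : Subgroup K).Characteristic := Sylow.characteristic_of_normal R0 hR0n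
  haveI : K.Normal := inferInstance
  haveI hRn : ((R0 : Subgroup K).map K.subtype).Normal := inferInstance
  set R := (R0 : Subgroup K).map K.subtype with hR
  have hRle : R ≤ (PY : Subgroup Y) := by
    obtain ⟨Q, hQ⟩ := (R0.2.map K.subtype : IsPGroup 2 R).exists_le_sylow
    obtain ⟨k, hk⟩ := MulAction.exists_smul_eq Y Q PY
    intro r hr
    rw [← hk, Sylow.coe_subgroup_smul]
    exact ⟨k⁻¹ * r * k⁻¹⁻¹, hQ (Subgroup.Normal.conj_mem inferInstance r hr k⁻¹), by simp [mul_assoc]⟩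
  -- an involution moving four points in the normal two-subgroup
  have hmemP : ∀ {e : A9}, e ∈ tL → ∃ h, (⟨N.F e, h⟩ : Y) ∈ (PY : Subgroup Y) := fun {e} he =>
    ⟨memY (tL_comm_s e he), by
      rw [hPY', Sylow.coe_subtype, Subgroup.mem_subgroupOf, hR2]; exact ⟨e, Or.inl he, rfl⟩⟩
  obtain ⟨hua, hpa⟩ := hmemP tL_named.1
  obtain ⟨hsa, hpb⟩ := hmemP tL_named.2.2.1
  obtain ⟨hba, hpc⟩ := hmemP hbT
  have hK3 : ∃ t : A9, t * t = 1 ∧ t ≠ 1 ∧ ¬ IsEight t ∧ ∃ h, (⟨N.F t, h⟩ : Y) ∈ K := by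
    set D := ((PY : Subgroup Y).map (QuotientGroup.mk' K)) with hD
    have hD2 : Nat.card D ≤ 2 := by
      obtain ⟨n, hn⟩ := IsPGroup.iff_card.mp (PY.2.map (QuotientGroup.mk' K) : IsPGroup 2 D)
      have hd : Nat.card D ∣ 6 := by
        have h : Nat.card D ∣ Nat.card (Y ⧸ K) := D.card_subgroup_dvd_card
        rw [← Subgroup.index_eq_card] at h
        rcases hKidx with e | e <;> rw [e] at h
        · exact h.trans (by norm_num)
        · exact h
      rw [hn] at hd ⊢
      have hn1 : n ≤ 1 := by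
        by_contra h
        exact absurd ((pow_dvd_pow 2 (by omega : 2 ≤ n)).trans hd) (by norm_num)
      exact (Nat.pow_le_pow_right (by norm_num) hn1).trans_eq rfl
    by_cases h1 : (⟨N.F u0, hua⟩ : Y) ∈ K
    · exact ⟨u0, named_eq.2.2.2.2.2.2.1, named_eq.2.2.2.2.2.2.2.2.2.2.2, eight_pos.2.1, hua, h1⟩
    by_cases h2 : (⟨N.F swapV, hsa⟩ : Y) ∈ K
    · exact ⟨swapV, aa, a1, h8a, hsa, h2⟩
    refine ⟨u0 * swapV, bb, b1, h8b, hba, ?_⟩
    let p : D := ⟨_, ⟨_, hpa, rfl⟩⟩
    let q : D := ⟨_, ⟨_, hpb, rfl⟩⟩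
    have hp : p ≠ 1 := fun e => h1 ((QuotientGroup.eq_one_iff _).mp (congrArg Subtype.val e))
    have hq : q ≠ 1 := fun e => h2 ((QuotientGroup.eq_one_iff _).mp (congrArg Subtype.val e))
    have hpq : p = q := by
      by_contra hne
      haveI := Fintype.ofFinite D
      have : 2 < Nat.card D := by
        rw [Nat.card_eq_fintype_card]; exact Fintype.two_lt_card_iff.mpr ⟨_, _, 1, hne, hp, hq⟩
      omega
    have hpp : p * p = 1 := Subtype.ext (by
      show QuotientGroup.mk' K _ * QuotientGroup.mk' K _ = 1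
      rw [← map_mul, show (⟨N.F u0, hua⟩ : Y) * ⟨N.F u0, hua⟩ = 1 from
        Subtype.ext (N.sq_one named_eq.2.2.2.2.2.2.1), map_one])
    rw [← QuotientGroup.eq_one_iff]
    show QuotientGroup.mk' K _ = 1
    rw [show (⟨N.F (u0 * swapV), hba⟩ : Y) = ⟨N.F u0, hua⟩ * ⟨N.F swapV, hsa⟩ from
      Subtype.ext (map_mul _ _ _), map_mul]
    have := congrArg Subtype.val (show p * q = 1 by rw [← hpq, hpp])
    exact this
  obtain ⟨t, t2, t1, t8, ht, htK⟩ := hK3
  set tY : Y := ⟨N.F t, ht⟩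
  have htR : tY ∈ R := by
    have hp : IsPGroup 2 (Subgroup.zpowers (⟨tY, htK⟩ : K)) := IsPGroup.of_card (n := 1) (by
      rw [Nat.card_zpowers, pow_one]
      refine orderOf_eq_prime (Subtype.ext (Subtype.ext ?_)) fun e => t1 (N.inj ?_)
      · show N.F t ^ 2 = 1
        rw [pow_two]; exact N.sq_one t2
      · rw [map_one]
        exact congrArg (fun k : K => ((k : Y) : G)) e)
    obtain ⟨Q, hQ⟩ := hp.exists_le_sylow
    obtain ⟨k, hk⟩ := MulAction.exists_smul_eq K Q R0
    have hQR : (Q : Subgroup K) = (R0 : Subgroup K) := by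
      have h' : Q = k⁻¹ • R0 := eq_inv_smul_iff.mpr hk
      rw [h', Sylow.coe_subgroup_smul]
      exact Subgroup.Normal.conj_smul_eq_self _ _
    exact ⟨_, hQR ▸ hQ (Subgroup.mem_zpowers _), rfl⟩
  set xY : Y := ⟨x, Subgroup.mem_centralizer_singleton_iff.mpr hx.eq⟩
  have h := hRle (hRn.conj_mem tY htR xY)
  rw [hPY', Sylow.coe_subtype, Subgroup.mem_subgroupOf, hR2] at h
  obtain ⟨e, -, ee⟩ := h
  exact N.closed t2 t1 t8 ⟨e, ee⟩

/-- The image is everything. -/
theorem range_eq_top : N.F.range = ⊤ := by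
  rw [eq_top_iff]
  intro g _
  obtain ⟨-, -, -, -, -, -, uu, -, -, -, -, u1⟩ := named_eq
  obtain ⟨-, -, -, -, -, -, ss, s1⟩ := swap_facts
  refine N.closed uu u1 eight_pos.2.1 (g := g) ?_
  set v := g * N.F u0 * g⁻¹ with hv
  have hFo : ∀ {e : A9}, e * e = 1 → e ≠ 1 → orderOf (N.F e) = 2 := fun {e} h2 h1 =>
    orderOf_eq_prime (by rw [pow_two, N.sq_one h2]) fun h => h1 (N.inj (h.trans (map_one _).symm))
  have hvo : orderOf v = 2 := by rw [hv, ← MulAut.conj_apply, MulEquiv.orderOf_eq, hFo uu u1]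
  have heven := Invol.even_of_not_isConj hvo (hFo ss s1) fun hc => by
    obtain ⟨k, hk⟩ := isConj_iff.mp hc
    exact N.not_conj_us (k * g) (by rw [← hk, hv]; group)
  obtain ⟨w, hwo, hwv, hws⟩ := Invol.exists_common_commuting_invol hvo (hFo ss s1) heven
  obtain ⟨e, he⟩ := N.cent_s hws
  have e2 : e * e = 1 := N.inj (by rw [map_mul, he, map_one, ← pow_two, ← hwo, pow_orderOf_eq_one])
  have e1 : e ≠ 1 := fun h => by rw [h, map_one] at he; rw [← he, orderOf_one] at hwo; omega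
  rw [← he] at hwv
  rcases invol_classes e2 e1 with ⟨⟨d, hd⟩, -⟩ | ⟨⟨d, hd⟩, -⟩
  all_goals
    rw [← hd, map_mul, map_mul, map_inv] at hwv
    have h := hwv.symm.map (MulAut.conj (N.F d)⁻¹).toMonoidHom
    simp only [MulEquiv.coe_toMonoidHom, MulAut.conj_apply, inv_inv] at h
    rw [show ∀ a : G, (N.F d)⁻¹ * (N.F d * a * (N.F d)⁻¹) * N.F d = a from fun a => by group] at h
    obtain ⟨r, hr⟩ : (N.F d)⁻¹ * v * N.F d ∈ N.F.range := by
      first | exact N.cent_u h | exact N.cent_s h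
    exact ⟨d * r * d⁻¹, by rw [map_mul, map_mul, map_inv, hr]; group⟩

include N in
theorem nonempty_mulEquiv : Nonempty (G ≃* alternatingGroup (Fin 9)) :=
  ⟨(MulEquiv.ofBijective N.F ⟨N.inj, MonoidHom.range_eq_top.mp N.range_eq_top⟩).symm⟩

end Nine

end Comp

end CfsgLib.AltNineThree
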